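import Cfsg.Agent.Lib.Classical.QutritMax.Global
import Cfsg.Prelude.Def_GeometricClasses

/-!
# From the standard form to maximality of the normaliser
-/

set_option autoImplicit false
set_option linter.unusedSectionVars false
set_option linter.unusedSimpArgs false

namespace CfsgLib.Classical.QutritMax

open Matrix
open Cfsg.Geo

variable {F : Type*} [Field F]

/-- Maximality of the normaliser, given a standard form and the two facts on transvections. -/
theorem maximal_of_standard [Fintype F] {p : ℕ} (hp : p.Prime) (hc : Fintype.card F = p) (h3 : p % 3 = 1)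
    {R : Subgroup (GL (Fin 9) F)} {ω : F} (hω : Root ω) {B : Matrix Pt (Fin 9) F} {B' : Matrix (Fin 9) Pt F}
    (h1 : B * B' = 1) (h2 : B' * B = 1)
    (hiff : ∀ g : GL (Fin 9) F, g ∈ subgroupNormalizer R ↔ Nor ω (B * (g : Matrix (Fin 9) (Fin 9) F) * B'))
    (hall : ∀ H : Subgroup (M9 F)ˣ, Amb ω p H → ¬ NoTr H → ∀ g : (M9 F)ˣ, (g : M9 F).det = 1 → g ∈ H)
    (hnot : ∃ g : (M9 F)ˣ, (g : M9 F).det = 1 ∧ ¬ Nor ω (g : M9 F)) :
    IsMaximalIn (specialLinear (Fin 9) F) (subgroupNormalizer R ⊓ specialLinear (Fin 9) F) := by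
  haveI := Fact.mk hp
  haveI : CharP F p := charP_of_card_eq_prime hc
  have hp7 : 7 ≤ p := by
    rcases Nat.lt_or_ge p 7 with h | h
    · interval_cases p <;> first | omega | exact absurd hp (by decide)
    · exact h
  have hcast : ∀ c : F, ∃ n : ℕ, (n : F) = c := by
    intro c
    obtain ⟨n, hn⟩ := ((Fintype.bijective_iff_injective_and_card (fun k : ZMod p => (ZMod.castHom dvd_rfl F k))).2
      ⟨(ZMod.castHom dvd_rfl F).injective, by rw [ZMod.card, hc]⟩).2 c
    exact ⟨n.val, by rw [← hn, ← ZMod.natCast_zmod_val n]; simp⟩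
  have mem_sl : ∀ g : GL (Fin 9) F, g ∈ specialLinear (Fin 9) F ↔ (g : Matrix (Fin 9) (Fin 9) F).det = 1 := by
    intro g
    rw [specialLinear, MonoidHom.mem_ker, Units.ext_iff, Matrix.GeneralLinearGroup.val_det_apply, Units.val_one]
  have cmul : ∀ X Y : Matrix (Fin 9) (Fin 9) F, B * (X * Y) * B' = (B * X * B') * (B * Y * B') := by
    intro X Y
    simp only [Matrix.mul_assoc]
    rw [← Matrix.mul_assoc B' B, h2, Matrix.one_mul]
  let φ : GL (Fin 9) F →* (M9 F)ˣ := MonoidHom.mk'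
    (fun g => ⟨B * (g : Matrix (Fin 9) (Fin 9) F) * B', B * ((g⁻¹ : GL (Fin 9) F) : Matrix (Fin 9) (Fin 9) F) * B',
      by rw [← cmul, Units.mul_inv, Matrix.mul_one, h1], by rw [← cmul, Units.inv_mul, Matrix.mul_one, h1]⟩)
    (fun g g' => Units.ext (by simp only [Units.val_mul]; exact cmul _ _))
  have hφ : ∀ g, ((φ g : (M9 F)ˣ) : M9 F) = B * (g : Matrix (Fin 9) (Fin 9) F) * B' := fun g => rfl
  have hdet : ∀ g, ((φ g : (M9 F)ˣ) : M9 F).det = (g : Matrix (Fin 9) (Fin 9) F).det := fun g => by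
    rw [hφ]; exact det_conj_of_mul_eq_one h1 h2
  have hsurj : ∀ u : (M9 F)ˣ, ∃ g, φ g = u := by
    intro u
    have cinv : ∀ X Y : M9 F, (B' * X * B) * (B' * Y * B) = B' * (X * Y) * B := by
      intro X Y
      simp only [Matrix.mul_assoc]
      rw [← Matrix.mul_assoc B B', h1, Matrix.one_mul]
    refine ⟨⟨B' * (u : M9 F) * B, B' * ((u⁻¹ : (M9 F)ˣ) : M9 F) * B,
      by rw [cinv, Units.mul_inv, Matrix.mul_one, h2], by rw [cinv, Units.inv_mul, Matrix.mul_one, h2]⟩, Units.ext ?_⟩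
    rw [hφ]
    simp only [← Matrix.mul_assoc, h1, Matrix.one_mul]
    rw [Matrix.mul_assoc, h1, Matrix.mul_one]
  have hinj : Function.Injective φ := by
    intro g g' e
    have e' := congrArg (fun u : (M9 F)ˣ => B' * (u : M9 F) * B) e
    simp only [hφ, ← Matrix.mul_assoc, h2, Matrix.one_mul] at e'
    simp only [Matrix.mul_assoc, h2, Matrix.mul_one] at e'
    exact Units.ext e'
  refine ⟨lt_of_le_of_ne inf_le_right fun e => ?_, fun M hNM hMS => ?_⟩
  · obtain ⟨u, hu, hun⟩ := hnot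
    obtain ⟨g, rfl⟩ := hsurj u
    have hg : g ∈ subgroupNormalizer R ⊓ specialLinear (Fin 9) F := by
      rw [e, mem_sl, ← hdet]; exact hu
    exact hun ((hiff g).1 hg.1)
  have hH : Amb ω p (M.map φ) :=
    { root := hω
      prime := hp
      char := inferInstance
      seven := hp7
      cast_surj := hcast
      det_eq := by
        rintro _ ⟨g, hg, rfl⟩
        rw [hdet]; exact (mem_sl g).1 (hMS hg)
      mem := fun u hu hd => by
        obtain ⟨g, rfl⟩ := hsurj u
        exact ⟨g, hNM ⟨(hiff g).2 hu, (mem_sl g).2 (by rw [← hdet]; exact hd)⟩, rfl⟩ }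
  by_cases hN : NoTr (M.map φ)
  · left
    refine le_antisymm (fun g hg => ⟨(hiff g).2 ?_, hMS hg⟩) hNM
    exact hH.nor_all hN (g := φ g) ⟨g, hg, rfl⟩
  · right
    refine le_antisymm hMS fun g hg => ?_
    obtain ⟨g', hg', e⟩ := hall _ hH hN (φ g) (by rw [hdet]; exact (mem_sl g).1 hg)
    exact hinj e ▸ hg'

end CfsgLib.Classical.QutritMax
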