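import Cfsg.Agent.Lib.Classical.QutritMax.Elems

/-!
# Block diagonal matrices and planes
-/

set_option autoImplicit false
set_option linter.unusedSectionVars false
set_option linter.unusedSimpArgs false

namespace CfsgLib.Classical.QutritMax

open Matrix
open scoped Kronecker

variable {F : Type*} [Field F] {ω : F}

/-- The block diagonal matrix with given blocks at the three values of the first coordinate. -/
def bd (B : ZMod 3 → Matrix (ZMod 3) (ZMod 3) F) : M9 F :=
  of fun i j => if i.1 = j.1 then B i.1 i.2 j.2 else 0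

theorem bd_apply (B : ZMod 3 → Matrix (ZMod 3) (ZMod 3) F) (i j : Pt) :
    bd B i j = if i.1 = j.1 then B i.1 i.2 j.2 else 0 := rfl

theorem bd_mul (B C : ZMod 3 → Matrix (ZMod 3) (ZMod 3) F) : bd B * bd C = bd fun a => B a * C a := by
  ext ⟨a, b⟩ ⟨c, d⟩
  rw [Matrix.mul_apply, Fintype.sum_prod_type, Finset.sum_eq_single a]
  · simp only [bd_apply, Matrix.mul_apply, if_true]
    by_cases e : a = c <;> simp [e]
  · intro k _ hk
    simp [bd_apply, Ne.symm hk]
  · simp

theorem blk_eq_bd (A : Matrix (ZMod 3) (ZMod 3) F) : blk A = bd fun _ => A := by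
  ext i j; rw [blk_apply, bd_apply]

theorem bd_one : bd (fun _ => (1 : Matrix (ZMod 3) (ZMod 3) F)) = 1 := by
  rw [← blk_eq_bd, blk, Matrix.one_kronecker_one]

theorem dg_eq_bd (f : Pt → ZMod 3) : dg ω f = bd fun a => diagonal fun b => wp ω (f (a, b)) := by
  ext ⟨a, b⟩ ⟨c, d⟩
  simp only [dg, bd_apply, diagonal_apply, Prod.mk.injEq]
  by_cases e : a = c <;> by_cases e' : b = d <;> simp [e, e']

/-- The matrices whose conjugation preserves the first coordinate. -/
theorem eq_bd_of_comm (h : Root ω) {g : M9 F} (hg : g * dg ω (dot (1, 0)) = dg ω (dot (1, 0)) * g) :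
    g = bd fun a => of fun b d => g (a, b) (a, d) := by
  ext ⟨a, b⟩ ⟨c, d⟩
  rw [bd_apply]
  by_cases e : a = c
  · subst e; rw [if_pos rfl]; rfl
  · rw [if_neg e]
    have := congrFun (congrFun hg (a, b)) (c, d)
    rw [dg, mul_diagonal, diagonal_mul] at this
    simp only [dot, one_mul, zero_mul, add_zero] at this
    by_contra h0
    exact e (wp_injective h (mul_left_cancel₀ h0 (this.trans (mul_comm _ _))).symm)

theorem bd_comm_x (B : ZMod 3 → Matrix (ZMod 3) (ZMod 3) F) :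
    bd B * dg ω (dot (1, 0)) = dg ω (dot (1, 0)) * bd B := by
  ext i j
  rw [dg, mul_diagonal, diagonal_mul, bd_apply]
  split_ifs with e
  · simp only [dot, one_mul, zero_mul, add_zero, e]; ring
  · simp

/-- A two-dimensional summand, given by coordinates and projections. -/
structure Plane (F : Type*) [Field F] where
  /-- The basis, as columns. -/
  L : Matrix Pt (Fin 2) F
  /-- The coordinates, as rows. -/
  R : Matrix (Fin 2) Pt F
  hRL : R * L = 1

namespace Plane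

variable (π : Plane F)

/-- The units mapping the plane to itself. -/
def sub : Subgroup (M9 F)ˣ where
  carrier := {g | ∃ M : GL (Fin 2) F, (g : M9 F) * π.L = π.L * (M : Matrix (Fin 2) (Fin 2) F)}
  one_mem' := ⟨1, by simp⟩
  mul_mem' := by
    rintro g k ⟨M, hM⟩ ⟨N, hN⟩
    exact ⟨M * N, by rw [Units.val_mul, Matrix.mul_assoc, hN, ← Matrix.mul_assoc, hM, Matrix.mul_assoc, Units.val_mul]⟩
  inv_mem' := by
    rintro g ⟨M, hM⟩
    refine ⟨M⁻¹, ?_⟩
    have e : ((g⁻¹ : (M9 F)ˣ) : M9 F) * π.L * (M : Matrix (Fin 2) (Fin 2) F) = π.L := by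
      rw [Matrix.mul_assoc, ← hM, ← Matrix.mul_assoc, Units.inv_mul, Matrix.one_mul]
    conv_rhs => rw [← e]
    rw [Matrix.mul_assoc, Units.mul_inv, Matrix.mul_one]

theorem eq_of_mem {g : (M9 F)ˣ} {M : Matrix (Fin 2) (Fin 2) F} (e : (g : M9 F) * π.L = π.L * M) :
    π.R * (g : M9 F) * π.L = M := by
  rw [Matrix.mul_assoc, e, ← Matrix.mul_assoc, π.hRL, Matrix.one_mul]

/-- The induced transformation. -/
noncomputable def rho : π.sub →* GL (Fin 2) F :=
  MonoidHom.mk' (fun g => Exists.choose (show ∃ M : GL (Fin 2) F,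
      ((g : (M9 F)ˣ) : M9 F) * π.L = π.L * (M : Matrix (Fin 2) (Fin 2) F) from g.2)) fun g k => by
    have key : ∀ (x : π.sub) (h : ∃ M : GL (Fin 2) F,
        ((x : (M9 F)ˣ) : M9 F) * π.L = π.L * (M : Matrix (Fin 2) (Fin 2) F)),
        (h.choose : Matrix (Fin 2) (Fin 2) F) = π.R * ((x : (M9 F)ˣ) : M9 F) * π.L :=
      fun x h => (π.eq_of_mem h.choose_spec).symm
    refine Units.ext ?_
    obtain ⟨M, hM⟩ := g.2
    obtain ⟨N, hN⟩ := k.2
    rw [Units.val_mul, key, key, key, π.eq_of_mem hM, π.eq_of_mem hN]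
    refine π.eq_of_mem ?_
    rw [Subgroup.coe_mul, Units.val_mul, Matrix.mul_assoc, hN, ← Matrix.mul_assoc, hM, Matrix.mul_assoc]

theorem rho_spec (g : π.sub) :
    ((g : (M9 F)ˣ) : M9 F) * π.L = π.L * ((π.rho g : GL (Fin 2) F) : Matrix (Fin 2) (Fin 2) F) :=
  Exists.choose_spec (show ∃ M : GL (Fin 2) F,
      ((g : (M9 F)ˣ) : M9 F) * π.L = π.L * (M : Matrix (Fin 2) (Fin 2) F) from g.2)

theorem rho_eq (g : π.sub) {M : Matrix (Fin 2) (Fin 2) F}
    (e : ((g : (M9 F)ˣ) : M9 F) * π.L = π.L * M) : ((π.rho g : GL (Fin 2) F) : Matrix (Fin 2) (Fin 2) F) = M :=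
  ((π.eq_of_mem (π.rho_spec g)).symm).trans (π.eq_of_mem e)

theorem mem_sub_of_det {g : (M9 F)ˣ} {M : Matrix (Fin 2) (Fin 2) F} (e : (g : M9 F) * π.L = π.L * M)
    (hM : M.det ≠ 0) : g ∈ π.sub := ⟨GeneralLinearGroup.mkOfDetNeZero M hM, e⟩

theorem mul_eq_one {g : (M9 F)ˣ} {M N : Matrix (Fin 2) (Fin 2) F} (e1 : (g : M9 F) * π.L = π.L * M)
    (e2 : ((g⁻¹ : (M9 F)ˣ) : M9 F) * π.L = π.L * N) : M * N = 1 := by
  have e : (1 : M9 F) * π.L = π.L * (M * N) := by
    rw [← Units.mul_inv g, Matrix.mul_assoc, e2, ← Matrix.mul_assoc, e1, Matrix.mul_assoc]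
  have := π.eq_of_mem (g := 1) (M := M * N) (by rw [Units.val_one]; exact e)
  rw [Units.val_one, Matrix.mul_one, π.hRL] at this
  exact this.symm

theorem mul_step {A B : M9 F} {M N : Matrix (Fin 2) (Fin 2) F} (e1 : A * π.L = π.L * M)
    (e2 : B * π.L = π.L * N) : A * B * π.L = π.L * (M * N) := by
  rw [Matrix.mul_assoc, e2, ← Matrix.mul_assoc, e1, Matrix.mul_assoc]

theorem L_cancel {M N : Matrix (Fin 2) (Fin 2) F} (e : π.L * M = π.L * N) : M = N := by
  rw [← Matrix.one_mul M, ← π.hRL, Matrix.mul_assoc, e, ← Matrix.mul_assoc, π.hRL, Matrix.one_mul]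

/-- A member of the group preserves the plane, inducing a given transformation. -/
theorem mem_map {H : Subgroup (M9 F)ˣ} {g : (M9 F)ˣ} (hg : g ∈ H) {M : Matrix (Fin 2) (Fin 2) F}
    (e : (g : M9 F) * π.L = π.L * M) (hM : M.det ≠ 0) :
    GeneralLinearGroup.mkOfDetNeZero M hM ∈ (H.subgroupOf π.sub).map π.rho :=
  ⟨⟨g, π.mem_sub_of_det e hM⟩, hg, Units.ext (π.rho_eq _ e)⟩

end Plane

end CfsgLib.Classical.QutritMax
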