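import Cfsg.Agent.Lib.Classical.QutritMax.FirstCoord

/-!
# The centraliser of a projection on the first coordinate lies in the normaliser
-/

set_option autoImplicit false
set_option linter.unusedSectionVars false
set_option linter.unusedSimpArgs false

namespace CfsgLib.Classical.QutritMax

open Matrix

theorem sq_table : ∀ i : ZMod 3, i + i = 0 → i = 0 := by decide

variable {F : Type*} [Field F] {ω : F} {p : ℕ} {H : Subgroup (M9 F)ˣ}

theorem dgi_row (i a : ZMod 3) (r : M9 F) (h : Root ω) (hr : r * xM ω = xM ω * r) :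
    row (r * dg ω (dot (i, 0))) a = wp ω (i * a) • row r a := by
  ext b d
  rw [row_apply, dg, mul_diagonal, Matrix.smul_apply, row_apply, smul_eq_mul]
  simp [dot, mul_comm]

/-- An idempotent cannot be moved by a root scalar along an invertible matrix of odd size. -/
theorem no_twist (h : Root ω) (h2 : (2 : F) ≠ 0) {Q r : Matrix (ZMod 3) (ZMod 3) F} (hQ : Q * Q = Q) {l : F}
    (hl : l ≠ 1) (hr : r.det ≠ 0) (e : (1 + (ω - 1) • Q) * r = l • (r * (1 + (ω - 1) • Q))) : False := by
  have hw : ω ≠ 0 := h.ne_zero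
  simp only [mul_add, add_mul, one_mul, mul_one, smul_mul_assoc, mul_smul_comm] at e
  have h11 : Q * r * Q = 0 := by
    have e' := congrArg (fun A => Q * A * Q) e
    simp only [mul_add, add_mul, mul_smul_comm, smul_mul_assoc, ← mul_assoc, hQ] at e'
    simp only [mul_assoc, hQ] at e'
    rw [smul_add, smul_smul] at e'
    have key : ((1 - l) * ω) • (Q * (r * Q)) = 0 := by
      calc ((1 - l) * ω) • (Q * (r * Q)) = (Q * (r * Q) + (ω - 1) • (Q * (r * Q))) -
            (l • (Q * (r * Q)) + (l * (ω - 1)) • (Q * (r * Q))) := by module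
        _ = 0 := by rw [e', sub_self]
    rcases smul_eq_zero.1 key with q | q
    · exact absurd q (mul_ne_zero (sub_ne_zero.2 (Ne.symm hl)) hw)
    · rw [mul_assoc]; exact q
  have hQ0 : (1 - Q) * Q = 0 := by rw [sub_mul, one_mul, hQ, sub_self]
  have hQ1 : Q * (1 - Q) = 0 := by rw [mul_sub, mul_one, hQ, sub_self]
  have h00 : (1 - Q) * r * (1 - Q) = 0 := by
    have e' := congrArg (fun A => (1 - Q) * A * (1 - Q)) e
    simp only [mul_add, add_mul, mul_smul_comm, smul_mul_assoc, ← mul_assoc, hQ0, zero_mul, smul_zero, add_zero] at e'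
    simp only [mul_assoc, hQ1, mul_zero, smul_zero, add_zero] at e'
    have key : (1 - l) • ((1 - Q) * (r * (1 - Q))) = 0 := by rw [sub_smul, one_smul, ← e', sub_self]
    rcases smul_eq_zero.1 key with q | q
    · exact absurd q (sub_ne_zero.2 (Ne.symm hl))
    · rw [mul_assoc]; exact q
  have hr' : r = Q * r + r * Q := by
    simp only [sub_mul, mul_sub, one_mul, mul_one] at h00
    rw [h11, sub_zero] at h00
    exact sub_eq_zero.1 (by rw [← h00]; abel)
  obtain ⟨S, hS⟩ : ∃ S : Matrix (ZMod 3) (ZMod 3) F, S = 1 - (2 : F) • Q := ⟨_, rfl⟩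
  have hSS : S * S = 1 := by
    rw [hS]
    simp only [sub_mul, mul_sub, one_mul, mul_one, smul_mul_assoc, mul_smul_comm, hQ, smul_smul]
    module
  have hanti : S * r = -(r * S) := by
    rw [eq_neg_iff_add_eq_zero, hS]
    simp only [sub_mul, mul_sub, one_mul, mul_one, smul_mul_assoc, mul_smul_comm]
    calc r - (2 : F) • (Q * r) + (r - (2 : F) • (r * Q)) = (2 : F) • (r - (Q * r + r * Q)) := by module
      _ = 0 := by rw [← hr', sub_self, smul_zero]
  have hd := congrArg Matrix.det hanti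
  rw [det_mul, det_neg, det_mul, ZMod.card] at hd
  have hd2 := congrArg Matrix.det hSS
  rw [det_mul, det_one] at hd2
  have hSd : S.det ≠ 0 := fun q => by rw [q, zero_mul] at hd2; exact zero_ne_one hd2
  exact mul_ne_zero h2 (mul_ne_zero hSd hr) (by linear_combination hd)

namespace Amb

variable (hH : Amb ω p H)
include hH

/-- Members commuting with the two lifts and the central generator, trivial on the first block, of square or
cube one and diagonal. -/
theorem scalar_rows_sq (hN : NoTr H) {z : (M9 F)ˣ} (hz : z ∈ H) (hx : (z : M9 F) * xM ω = xM ω * z)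
    (hfix : ∀ b, (z : M9 F) *ᵥ Pi.single ((0 : ZMod 3), b) 1 = Pi.single ((0 : ZMod 3), b) 1)
    (hzz : (z : M9 F) * z = 1) : z = 1 := by
  have hω := hH.root
  have hnor := hH.nor_cent_x hN hz hx
  have hcomm : ∀ v, (z : M9 F) * Bv ω v = Bv ω v * z := by
    intro v
    obtain ⟨i, e⟩ := hH.lifts_of_fixed hnor hfix v
    have e2 : (Bv ω v : M9 F) = Bv ω v * dg ω (dot (i + i, 0)) := by
      have hD : dg ω (dot (i + i, 0)) = (dg ω (dot (i, 0)) * dg ω (dot (i, 0)) : M9 F) := by
        rw [dg_mul hω]; congr 1; funext w; simp [dot]; ring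
      calc (Bv ω v : M9 F) = (z : M9 F) * ((z : M9 F) * Bv ω v) := by rw [← mul_assoc, hzz, one_mul]
        _ = ((z : M9 F) * Bv ω v) * (dg ω (dot (i, 0)) * (z : M9 F)) := by rw [e]; simp only [mul_assoc]; rw [← mul_assoc (z : M9 F) (Bv ω v), e]; simp only [mul_assoc]
        _ = Bv ω v * (dg ω (dot (i, 0)) * ((z : M9 F) * dg ω (dot (i, 0)) * (z : M9 F))) := by rw [e]; simp only [mul_assoc]
        _ = _ := by rw [dgi_comm hω hx, mul_assoc, hzz, mul_one, hD]
    have hi : i + i = 0 := by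
      have e3 : Rm ω 0 (0, v.1) (0, v.2) = (Rm ω 0 (0, v.1) (i + i, v.2) : M9 F) := by
        rw [Rm_split hω, Rm_split hω, wp_zero, one_smul, one_smul, ← e2, show dot ((0 : ZMod 3), (0 : ZMod 3)) =
          fun _ => (0 : ZMod 3) from funext fun w => by simp [dot], dg_zero, mul_one]
      exact (Prod.ext_iff.1 (Rm_injective hω e3).2.2).1.symm
    rw [e, sq_table i hi, show dot ((0 : ZMod 3), (0 : ZMod 3)) =
      fun _ => (0 : ZMod 3) from funext fun w => by simp [dot], dg_zero, mul_one]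
  obtain ⟨c, hc⟩ := comm_bd_of_gens hω hx (hcomm (0, 1)) (hcomm (1, 0))
  have hd : (z : M9 F) = diagonal fun v : Pt => c v.1 := by
    rw [hc]; ext s t; rw [bd_apply, diagonal_apply]
    by_cases e : s = t
    · subst e; simp
    · rw [if_neg e]; split_ifs with e1
      · rw [Matrix.smul_apply, Matrix.one_apply_ne (fun q => e (Prod.ext e1 q)), smul_zero]
      · rfl
  obtain ⟨l, f, -, hl, e⟩ := hH.diag_quadr hN ⟨z, hz, hd⟩
  refine Units.ext ?_
  rw [hd, e] at hzz
  rw [hd, e, Units.val_one]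
  exact hH.scaled_sq hl hzz

/-- The members commuting with a projection on the first coordinate normalise. -/
theorem nor_cent_P1 (hN : NoTr H) {g : (M9 F)ˣ} (hg : g ∈ H) (h0 : (g : M9 F) * P1 0 = (P1 0 : M9 F) * (g : M9 F)) :
    Nor ω (g : M9 F) := by
  have hω := hH.root
  obtain ⟨T, hT, eT⟩ := hH.exists_T1 2
  have hTP : ∀ k, (T : M9 F) * P1 k = (P1 k : M9 F) * (T : M9 F) := fun k => by
    rw [eT, tU_P1, dg, P1, diagonal_mul_diagonal, diagonal_mul_diagonal]; congr 1; funext v; ring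
  have hT0 : ∀ b, (T : M9 F) *ᵥ Pi.single ((0 : ZMod 3), b) 1 = (1 : F) • Pi.single ((0 : ZMod 3), b) 1 := by
    intro b
    rw [eT, tU, add_mulVec, one_mulVec, smul_mulVec, P1_single, if_neg (by decide), zero_smul, smul_zero, add_zero,
      one_smul]
  obtain ⟨Q, hQ⟩ : ∃ Q, Q = (g : M9 F) * P1 2 * ((g⁻¹ : (M9 F)ˣ) : M9 F) := ⟨_, rfl⟩
  have gi0 : ((g⁻¹ : (M9 F)ˣ) : M9 F) * P1 0 = P1 0 * ((g⁻¹ : (M9 F)ˣ) : M9 F) := (Commute.units_inv_left h0 : _)
  have hQQ : Q * Q = Q := by
    rw [hQ]; simp only [mul_assoc]; rw [← mul_assoc ((g⁻¹ : (M9 F)ˣ) : M9 F) (g : M9 F), Units.inv_mul, one_mul,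
      ← mul_assoc (P1 2 : M9 F) (P1 2 : M9 F), P1_idem]
  have hQ0 : Q * P1 0 = 0 := by
    rw [hQ, mul_assoc, gi0, ← mul_assoc, mul_assoc (g : M9 F), P1_mul_of_ne (by decide), mul_zero, zero_mul]
  have h0Q : P1 0 * Q = 0 := by
    rw [hQ, ← mul_assoc, ← mul_assoc, ← h0, mul_assoc (g : M9 F), P1_mul_of_ne (by decide), mul_zero, zero_mul]
  have hTQ : ((g * T * g⁻¹ : (M9 F)ˣ) : M9 F) = tU ω Q := by
    rw [Units.val_mul, Units.val_mul, eT, tU, tU, hQ, mul_add, add_mul, mul_one, Units.mul_inv, mul_smul_comm,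
      smul_mul_assoc]
  have hQfix : ∀ b, ((g * T * g⁻¹ : (M9 F)ˣ) : M9 F) *ᵥ Pi.single ((0 : ZMod 3), b) 1 =
      (1 : F) • Pi.single ((0 : ZMod 3), b) 1 := by
    intro b
    have e : (Pi.single ((0 : ZMod 3), b) 1 : Pt → F) = P1 0 *ᵥ Pi.single ((0 : ZMod 3), b) 1 := by
      rw [P1_single, if_pos rfl, one_smul]
    rw [hTQ, tU, add_mulVec, one_mulVec, smul_mulVec, e, mulVec_mulVec, hQ0, zero_mulVec, smul_zero, add_zero,
      one_smul]
  have hQP0 : ((g * T * g⁻¹ : (M9 F)ˣ) : M9 F) * P1 0 = P1 0 * ((g * T * g⁻¹ : (M9 F)ˣ) : M9 F) := by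
    rw [hTQ, tU, add_mul, mul_add, one_mul, mul_one, smul_mul_assoc, mul_smul_comm, hQ0, h0Q]
  have two0 : (2 : ZMod 3) ≠ 0 := by decide
  rcases hH.conj_cases (P1_idem 2) eT hT hg with hc | ⟨z, hz0, hzH, hz1, hzz, hzP, -⟩ | ⟨u, hu0, huH, hu1, hup, huP⟩ |
    ⟨u, hu0, huH, hu1, -, hs⟩
  · rw [← hQ] at hc
    have hQx : Q * xM ω = xM ω * Q := comm_x_of_P1 hω two0 hc.symm (by rw [hQ0, h0Q])
    obtain ⟨t, ht⟩ : ∃ t, t = g * T * g⁻¹ := ⟨_, rfl⟩
    have etx : (t : M9 F) * xM ω = xM ω * t := by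
      rw [ht, hTQ, tU, add_mul, mul_add, one_mul, mul_one, smul_mul_assoc, mul_smul_comm, hQx]
    have htH : t ∈ H := ht ▸ mul_mem (mul_mem hg hT) (inv_mem hg)
    have hfix : ∀ b, (t : M9 F) *ᵥ Pi.single ((0 : ZMod 3), b) 1 = Pi.single ((0 : ZMod 3), b) 1 := fun b => by
      rw [ht, hQfix, one_smul]
    have hnor := hH.nor_cent_x hN htH etx
    have hcomm : ∀ v, Q * Bv ω v = Bv ω v * Q := by
      intro v
      obtain ⟨i, e⟩ := hH.lifts_of_fixed hnor hfix v
      have hrx : (Bv ω v : M9 F) * xM ω = xM ω * Bv ω v := by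
        have e1 : (xM ω : M9 F) = Rm ω 0 0 (1, 0) := by simp [Rm, wp_zero, sh_zero, xM]
        rw [e1, Bv, Rm_mul hω, Rm_mul hω]
        congr 1 <;> simp [dot, add_comm]
      have hdx : (dg ω (dot (i, 0)) : M9 F) * xM ω = xM ω * dg ω (dot (i, 0)) := by rw [dg, diag_x]
      have hi : i = 0 := by
        by_contra hi
        have er := congrArg (fun A => row A 1) e
        rw [row_mul hω etx hrx, row_mul hω (Commute.mul_left hrx hdx : _) etx, dgi_row i 1 _ hω hrx, mul_one,
          Matrix.smul_mul] at er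
        have et : row (t : M9 F) 1 = 1 + (ω - 1) • row Q 1 := by
          rw [ht, hTQ]
          ext b d
          simp [row_apply, tU, Matrix.one_apply]
        rw [et] at er
        refine no_twist hω hH.two_ne ?_ (fun q => hi (wp_injective hω (q.trans wp_zero.symm))) ?_ er
        · rw [← row_mul hω hQx hQx, hQQ]
        · intro q
          have : row (Bv ω v : M9 F) 1 * row ((Bv ω (-v) : M9 F)) 1 = row ((Bv ω v : M9 F) * Bv ω (-v)) 1 := by
            refine (row_mul hω hrx ?_ 1).symm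
            have e1 : (xM ω : M9 F) = Rm ω 0 0 (1, 0) := by simp [Rm, wp_zero, sh_zero, xM]
            rw [e1, Bv, Rm_mul hω, Rm_mul hω]
            congr 1 <;> simp [dot, add_comm]
          rw [Bv, Bv, Rm_mul hω] at this
          simp only [Prod.fst_neg, Prod.snd_neg, Prod.mk_add_mk, add_neg_cancel, add_zero, Prod.mk_zero_zero] at this
          rw [inR_scalar_eq, ← Bv] at this
          have hd := congrArg Matrix.det this
          rw [det_mul, q, zero_mul] at hd
          have : ∀ c : F, row (c • (1 : M9 F)) 1 = c • (1 : Matrix (ZMod 3) (ZMod 3) F) := fun c => by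
            ext b d; simp [row_apply, Matrix.one_apply]
          rw [this, det_smul, det_one, mul_one] at hd
          exact pow_ne_zero _ (wp_ne_zero hω _) hd.symm
      rw [hi, show dot ((0 : ZMod 3), (0 : ZMod 3)) = fun _ => (0 : ZMod 3) from funext fun w => by simp [dot],
        dg_zero, mul_one, ht, hTQ] at e
      exact ((tU_comm hω.cube).1 (show Commute (Bv ω v : M9 F) (tU ω Q) from e.symm)).symm.eq
    obtain ⟨c, hc'⟩ := comm_bd_of_gens hω hQx (hcomm (0, 1)) (hcomm (1, 0))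
    have hd : Q = diagonal fun v : Pt => c v.1 := by
      rw [hc']; ext s q; rw [bd_apply, diagonal_apply]
      by_cases e : s = q
      · subst e; simp
      · rw [if_neg e]; split_ifs with e1
        · rw [Matrix.smul_apply, Matrix.one_apply_ne (fun r => e (Prod.ext e1 r)), smul_zero]
        · rfl
    have c01 : ∀ a, c a = 0 ∨ c a = 1 := fun a => by
      have := congrFun (congrFun hQQ (a, 0)) (a, 0)
      rw [hd, diagonal_mul_diagonal, diagonal_apply_eq, diagonal_apply_eq] at this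
      rcases eq_or_ne (c a) 0 with e | e
      · exact Or.inl e
      · exact Or.inr (mul_right_cancel₀ e (by rw [one_mul]; exact this))
    have c0 : c 0 = 0 := by
      have := congrFun (congrFun hQ0 (0, 0)) (0, 0)
      rw [hd, P1, diagonal_mul_diagonal, diagonal_apply_eq] at this
      simpa using this
    have ctr : c 1 + c 2 = 1 := by
      have htr : Q.trace = (P1 2 : M9 F).trace := by rw [hQ, Matrix.trace_units_conj]
      rw [hd, P1, trace_diagonal, trace_diagonal, Fintype.sum_prod_type, Fintype.sum_prod_type] at htr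
      simp only [sum3, c0, if_neg (show (0 : ZMod 3) ≠ 2 by decide), if_neg (show (1 : ZMod 3) ≠ 2 by decide), if_pos] at htr
      exact mul_left_cancel₀ hω.three (by linear_combination htr)
    rcases c01 1 with e1 | e1
    · have hQ2 : Q = P1 2 := by
        rw [e1, zero_add] at ctr
        rw [hd, P1]; congr 1; funext v
        rcases zmod3_cases v.1 with e | e | e <;> simp [e, c0, e1, ctr, two0.symm, show (1 : ZMod 3) ≠ 2 by decide]
      refine hH.nor_cent_x hN hg (comm_x_of_P1 hω two0 ?_ h0)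
      conv_rhs => rw [← hQ2, hQ, mul_assoc, Units.inv_mul, mul_one]
    · have hQ1 : Q = P1 1 := by
        rw [e1, add_eq_left] at ctr
        rw [hd, P1]; congr 1; funext v
        rcases zmod3_cases v.1 with e | e | e <;>
          simp [e, c0, e1, ctr, show (0 : ZMod 3) ≠ 1 by decide, show (2 : ZMod 3) ≠ 1 by decide]
      obtain ⟨N, hN', eN⟩ := hH.in_Za
      have h1 : Nor ω ((N * g : (M9 F)ˣ) : M9 F) := by
        refine hH.nor_cent_x hN (mul_mem hN' hg) (comm_x_of_P1 hω two0 ?_ ?_)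
        · have e2 : (g : M9 F) * P1 2 = (P1 1 : M9 F) * (g : M9 F) := by rw [← hQ1, hQ, mul_assoc, Units.inv_mul, mul_one]
          rw [Units.val_mul, eN, mul_assoc, e2, ← mul_assoc, Za_P1, show -(1 : ZMod 3) = 2 by decide, mul_assoc]
        · rw [Units.val_mul, eN, mul_assoc, h0, ← mul_assoc, Za_P1, neg_zero, mul_assoc]
      have := (nor_Za (F := F) hω).mul h1
      rwa [Units.val_mul, eN, ← mul_assoc, Za_mul_self, one_mul] at this
  · exfalso
    have hzx := comm_x_of_P1 hω two0 hzP (DGrp.comm hz0 (hTP 0) hQP0)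
    exact hz1 (hH.scalar_rows_sq hN hzH hzx (fun b => DGrp.fix hz0 (hT0 b) (hQfix b)) hzz)
  · exfalso
    exact hu1 (hH.cent_x_pow_p hN huH (comm_x_of_P1 hω two0 huP (DGrp.comm hu0 (hTP 0) hQP0)) hup)
  · exfalso
    have hu0' := DGrp.comm hu0 (hTP 0) hQP0
    have hcol : ∀ (s : Pt) (b : ZMod 3), ((u : M9 F) - 1) s (0, b) = 0 := fun s b => by
      have := congrFun (DGrp.fix hu0 (hT0 b) (hQfix b)) s
      rw [mulVec_single_one] at this
      have h' : (u : M9 F) s (0, b) = (Pi.single ((0 : ZMod 3), b) (1 : F) : Pt → F) s := this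
      rw [Matrix.sub_apply, h', Pi.single_apply, Matrix.one_apply, sub_self]
    have hrow : ∀ (t : Pt) (b : ZMod 3), t.1 ≠ 0 → ((u : M9 F) - 1) (0, b) t = 0 := fun t b ht => by
      have := congrFun (congrFun hu0' (0, b)) t
      rw [P1, mul_diagonal, diagonal_mul, if_neg ht, mul_zero, if_pos rfl, one_mul] at this
      rw [Matrix.sub_apply, ← this, Matrix.one_apply_ne (fun q => ht (by rw [← q])), sub_zero]
    have hPl : ∀ s t, (P1 2 * ((u : M9 F) - 1) : M9 F) s t = if s.1 = 2 then ((u : M9 F) - 1) s t else 0 := fun s t => by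
      rw [P1, diagonal_mul]; split_ifs <;> simp
    have hPr : ∀ s t, (((u : M9 F) - 1) * P1 2 : M9 F) s t = if t.1 = 2 then ((u : M9 F) - 1) s t else 0 := fun s t => by
      rw [P1, mul_diagonal]; split_ifs <;> simp
    have qb : Quadr (fun w : Pt => w.2) := ⟨0, 0, 1, 0, 0, 0, funext fun w => by ring⟩
    have qab : Quadr (fun w : Pt => w.1 * w.2) := ⟨0, 0, 0, 0, 1, 0, funext fun w => by ring⟩
    have hM : In H (1 + ((u : M9 F) - 1)) := ⟨u, huH, by rw [add_sub_cancel]⟩
    have table : ∀ b d b' d' : ZMod 3, (b - d = b' - d' → 2 * b - 1 * d = 2 * b' - 1 * d' → b = b' ∧ d = d') ∧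
        (b - d = b' - d' → 1 * b - 2 * d = 1 * b' - 2 * d' → b = b' ∧ d = d') := by decide
    refine hu1 (Units.ext ((sub_eq_zero.1 ?_).trans Units.val_one.symm))
    have hcases : ∀ a : ZMod 3, a ≠ 0 → a ≠ 2 → a = 1 := by decide
    rcases hs with ⟨e1, e2⟩ | ⟨e1, e2⟩
    · refine hH.no_supported hN (S := fun s t => s.1 = 2 ∧ t.1 = 1) qb qab ?_ ?_ hM fun s t h => ?_
      · rintro ⟨a, b⟩ ⟨c, d⟩ ⟨a', b'⟩ ⟨c', d'⟩ ⟨r1, r2⟩ ⟨q1, q2⟩ h1 h2
        simp only at r1 r2 q1 q2 h1 h2
        subst r1 r2 q1 q2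
        obtain ⟨rfl, rfl⟩ := (table b d b' d').1 h1 h2
        exact ⟨rfl, rfl⟩
      · rintro s t s' t' ⟨-, h2⟩ ⟨h1, -⟩ rfl
        rw [h1] at h2; exact absurd h2 (by decide)
      · have hs2 : s.1 = 2 := by
          by_contra e; exact h (by rw [← congrFun (congrFun e1 s) t, hPl, if_neg e])
        refine ⟨hs2, hcases _ (fun e => h ?_) (fun e => h ?_)⟩
        · rw [show t = (0, t.2) from Prod.ext e rfl]; exact hcol s t.2
        · have := congrFun (congrFun e2 s) t
          rwa [hPr, if_pos e, Matrix.zero_apply] at this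
    · refine hH.no_supported hN (S := fun s t => s.1 = 1 ∧ t.1 = 2) qb qab ?_ ?_ hM fun s t h => ?_
      · rintro ⟨a, b⟩ ⟨c, d⟩ ⟨a', b'⟩ ⟨c', d'⟩ ⟨r1, r2⟩ ⟨q1, q2⟩ h1 h2
        simp only at r1 r2 q1 q2 h1 h2
        subst r1 r2 q1 q2
        obtain ⟨rfl, rfl⟩ := (table b d b' d').2 h1 h2
        exact ⟨rfl, rfl⟩
      · rintro s t s' t' ⟨-, h2⟩ ⟨h1, -⟩ rfl
        rw [h1] at h2; exact absurd h2 (by decide)
      · have ht2 : t.1 = 2 := by
          by_contra e; exact h (by rw [← congrFun (congrFun e2 s) t, hPr, if_neg e])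
        refine ⟨hcases _ (fun e => h ?_) (fun e => h ?_), ht2⟩
        · rw [show s = (0, s.2) from Prod.ext e rfl]; exact hrow t s.2 (by rw [ht2]; decide)
        · have := congrFun (congrFun e1 s) t
          rwa [hPl, if_pos e, Matrix.zero_apply] at this

end Amb

end CfsgLib.Classical.QutritMax
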