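import Cfsg.Agent.Lib.Classical.QutritMax.FixNor

/-!
# The centraliser of the central generator lies in the normaliser
-/

set_option autoImplicit false
set_option linter.unusedSectionVars false
set_option linter.unusedSimpArgs false

namespace CfsgLib.Classical.QutritMax

open Matrix

variable {F : Type*} [Field F] {ω : F} {p : ℕ} {H : Subgroup (M9 F)ˣ}

theorem blkJ3_eq : (blk (J3 : Matrix (ZMod 3) (ZMod 3) F)) * (blk J3) = blk (J3 * J3) := blk_mul _ _

/-- Intertwining of the first projection with its two companions. -/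
theorem n3_P2 (h : Root ω) : blk (n3 ω) * (P2 0 : M9 F) = blk (J3 : Matrix (ZMod 3) (ZMod 3) F) * blk (n3 ω) := by
  have hd1 : ω - 1 ≠ 0 := sub_ne_zero.2 h.ne_one
  have hP : (P2 0 : M9 F) = blk (E3 0) := (blk_eq_bd _).symm
  rw [hP, blk_mul, blk_mul]
  congr 1
  have hZ : (Z3 ω : Matrix (ZMod 3) (ZMod 3) F) = 1 + (ω - 1) • E3 0 := by
    ext i j
    rw [Z3, E3, ← diagonal_smul, ← diagonal_one, diagonal_add]
    congr 2
    funext k
    simp only [Pi.smul_apply, Pi.single_apply, smul_eq_mul]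
    split_ifs <;> ring
  have e := n3_Z3 h
  rw [hZ, X3, mul_add, mul_one, mul_smul_comm, add_mul, one_mul, smul_mul_assoc, add_right_inj] at e
  exact smul_right_injective _ hd1 e

theorem Symm3.eig_sq {R : Matrix (ZMod 3) (ZMod 3) F} (hs : Symm3 R) (hR : R * R = R) :
    (R 1 1 - R 1 2) * (R 1 1 - R 1 2) = R 1 1 - R 1 2 := by
  have h11 := congrFun (congrFun hR 1) 1
  have h12 := congrFun (congrFun hR 1) 2
  simp only [Matrix.mul_apply, sum3, ← hs.h01, ← hs.h11, ← hs.h12] at h11 h12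
  linear_combination h11 - h12

theorem Symm3.axis_zero (h2 : (2 : F) ≠ 0) {R : Matrix (ZMod 3) (ZMod 3) F} (hs : Symm3 R) (hR : R * R = R)
    (htr : R 0 0 + R 1 1 + R 2 2 = 1) (hμ : R 1 1 - R 1 2 = 1) : R 0 0 = 0 ∧ R 1 0 = 0 := by
  have h00 := congrFun (congrFun hR 0) 0
  have h11 := congrFun (congrFun hR 1) 1
  have h12 := congrFun (congrFun hR 1) 2
  have h10 := congrFun (congrFun hR 1) 0
  simp only [Matrix.mul_apply, sum3, ← hs.h01, ← hs.h10, ← hs.h11, ← hs.h12] at h00 h11 h12 h10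
  rw [← hs.h11] at htr
  have hs' : R 1 1 + R 1 2 = -R 0 0 := by linear_combination htr - hμ
  have a0 : R 0 0 = 0 := by
    have : R 0 0 * 2 = 0 := by
      linear_combination h11 + h12 - h00 - (R 1 1 + R 1 2) * hs' + R 0 0 * hs' + hs'
    exact (mul_eq_zero.1 this).resolve_right h2
  exact ⟨a0, by linear_combination -h10 + R 1 0 * hs'⟩

namespace Amb

variable (hH : Amb ω p H)
include hH

theorem nor_cent_x_aux (hN : NoTr H) {g : (M9 F)ˣ} (hg : g ∈ H) (hx : (g : M9 F) * xM ω = xM ω * g)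
    (hne : (P2 0 : M9 F) * ((g : M9 F) * P2 0 * ((g⁻¹ : (M9 F)ˣ) : M9 F)) ≠
      (g : M9 F) * P2 0 * ((g⁻¹ : (M9 F)ˣ) : M9 F) * P2 0) : Nor ω (g : M9 F) := by
  have hω := hH.root
  haveI := hH.finite
  haveI : Finite (M9 F)ˣ := Finite.of_injective _ Units.val_injective
  obtain ⟨T, hT, eT1, eT, eT'⟩ := hH.exists_T
  obtain ⟨Z, hZ, eZ⟩ := hH.exists_Z
  have hTx : (T : M9 F) * xM ω = xM ω * T := hT.1.2.1
  have hgTx : ((g * T * g⁻¹ : (M9 F)ˣ) : M9 F) * xM ω = xM ω * (g * T * g⁻¹ : (M9 F)ˣ) := by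
    rw [Units.val_mul, Units.val_mul]
    exact ((Commute.mul_left hx hTx).mul_left (Commute.units_inv_left hx) : _)
  rcases hH.conj_cases (P2_idem 0) eT hT.1.1 hg with hc | ⟨z, hz0, hzH, hz1, hzz, hzP, hzQ⟩ |
    ⟨u, hu0, huH, hu1, hup, huP⟩ | ⟨u, hu0, huH, hu1, -, hs⟩
  · exact absurd hc hne
  swap
  · exact absurd (hH.cent_x_P2_pow_p hN huH (DGrp.comm hu0 hTx hgTx) huP hup) hu1
  swap
  · exact absurd (Units.ext ((hH.no_one_sided hN ⟨u, huH, rfl⟩ (DGrp.comm hu0 hTx hgTx) hs).trans Units.val_one.symm)) hu1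
  obtain ⟨l, f, hf, hl, hzf | hzf⟩ := hH.cent_x_P2 hN hzH (DGrp.comm hz0 hTx hgTx) hzP
  · exact absurd (Units.ext (by rw [hzf] at hzz; rw [hzf, hH.scaled_sq hl hzz, Units.val_one])) hz1
  -- normalise the involution
  have hz2 : z * z = 1 := Units.ext (by rw [Units.val_mul, hzz, Units.val_one])
  have hZ2 : Z * Z = 1 := Units.ext (by rw [Units.val_mul, eZ, Zp_mul_self, Units.val_one])
  obtain ⟨d, hd⟩ : ∃ d, d = Z * z := ⟨_, rfl⟩
  have ed : (d : M9 F) = l • dg ω f := by rw [hd, Units.val_mul, eZ, hzf, ← mul_assoc, Zp_mul_self, one_mul]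
  have hd9 : d ^ 9 = 1 := Units.ext (by
    rw [Units.val_pow_eq_pow_val, ed, Units.val_one, dg, ← diagonal_smul, diagonal_pow, ← diagonal_one]
    congr 1
    funext v
    rw [Pi.pow_apply, Pi.smul_apply, smul_eq_mul, mul_pow, hl, one_mul,
      show wp ω (f v) ^ 9 = (wp ω (f v) ^ 3) ^ 3 by rw [← pow_mul], wp_pow_three hω, one_pow])
  have hzd : z = Z * d := by rw [hd, ← mul_assoc, hZ2, one_mul]
  have hinv : Z * d * Z = d⁻¹ := by rw [eq_inv_iff_mul_eq_one, mul_assoc, ← hzd, hz2]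
  have hinv4 : Z * d ^ 4 * Z = (d ^ 4)⁻¹ := by
    have hZi : Z⁻¹ = Z := inv_eq_of_mul_eq_one_right hZ2
    have := conj_pow (i := 4) (a := Z) (b := d)
    rw [hZi, hinv] at this
    rw [← this, inv_pow]
  obtain ⟨e, he⟩ : ∃ e, e = d ^ 4 := ⟨_, rfl⟩
  rw [← he] at hinv4
  have hzZ : e⁻¹ * z * e = Z := by
    have h1 : e⁻¹ * Z = Z * e := by rw [← hinv4]; simp only [mul_assoc, hZ2, mul_one]
    rw [hzd, ← mul_assoc, h1, he, mul_assoc, mul_assoc, ← pow_succ', ← pow_add, hd9, mul_one]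
  have hdN : d ∈ hH.norG := by rw [hH.mem_norG, ed]; exact (nor_dg hω hf).smul l
  have heN : e ∈ hH.norG := he ▸ pow_mem hdN 4
  have heH : e ∈ H := he ▸ pow_mem (hd ▸ mul_mem hZ.1.1 hzH) 4
  have ee : (e : M9 F) = diagonal (fun v => ((l • fun v => wp ω (f v)) v) ^ 4) := by
    rw [he, Units.val_pow_eq_pow_val, ed, dg, ← diagonal_smul, diagonal_pow]; rfl
  have hex : (e : M9 F) * xM ω = xM ω * e := by rw [ee, diag_x]
  have heP : (e : M9 F) * (P2 0 : M9 F) = (P2 0 : M9 F) * e := by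
    rw [ee, P2_eq_diagonal, diagonal_mul_diagonal, diagonal_mul_diagonal]; congr 1; funext v; ring
  have heT : (e : M9 F) * (T : M9 F) = (T : M9 F) * e := by
    rw [eT]; exact ((tU_comm hω.cube).2 heP).eq
  obtain ⟨g', hg'⟩ : ∃ g', g' = e⁻¹ * g := ⟨_, rfl⟩
  have hg'H : g' ∈ H := hg' ▸ mul_mem (inv_mem heH) hg
  have hg'x : (g' : M9 F) * xM ω = xM ω * g' := by
    rw [hg', Units.val_mul]; exact (Commute.mul_left (Commute.units_inv_left hex) hx : _)
  obtain ⟨Q, hQ⟩ : ∃ Q, Q = (g' : M9 F) * P2 0 * ((g'⁻¹ : (M9 F)ˣ) : M9 F) := ⟨_, rfl⟩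
  obtain ⟨T', hT'⟩ : ∃ T', T' = g' * T * g'⁻¹ := ⟨_, rfl⟩
  have eT'' : (T' : M9 F) = tU ω Q := by
    rw [hT', Units.val_mul, Units.val_mul, eT, tU, tU, hQ, mul_add, add_mul, mul_one, Units.mul_inv, mul_smul_comm,
      smul_mul_assoc]
  -- the conjugated pair commutes with the reflection
  have hQZ : Q * (Zp : M9 F) = (Zp : M9 F) * Q := by
    have hzQ' : Commute (z : M9 F) (tU ω ((g : M9 F) * P2 0 * ((g⁻¹ : (M9 F)ˣ) : M9 F))) := (tU_comm hω.cube).2 hzQ
    have hval : ((g * T * g⁻¹ : (M9 F)ˣ) : M9 F) = tU ω ((g : M9 F) * P2 0 * ((g⁻¹ : (M9 F)ˣ) : M9 F)) := by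
      rw [Units.val_mul, Units.val_mul, eT, tU, tU, mul_add, add_mul, mul_one, Units.mul_inv, mul_smul_comm,
        smul_mul_assoc]
    rw [← hval] at hzQ'
    have h1 : z * (g * T * g⁻¹) = g * T * g⁻¹ * z := Units.ext (by simpa using hzQ'.eq)
    have h2 : Z * T' = T' * Z := by
      rw [← hzZ, hT', hg']
      calc e⁻¹ * z * e * (e⁻¹ * g * T * (e⁻¹ * g)⁻¹) = e⁻¹ * (z * (g * T * g⁻¹)) * e := by group
        _ = e⁻¹ * (g * T * g⁻¹ * z) * e := by rw [h1]
        _ = _ := by group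
    have h3 : Commute (Zp : M9 F) (tU ω Q) := by
      rw [← eT'', ← eZ]
      have := congrArg Units.val h2
      simpa [Commute, SemiconjBy] using this
    exact ((tU_comm hω.cube).1 h3).symm.eq
  have hQx : Q * xM ω = xM ω * Q := by
    rw [hQ]; exact ((Commute.mul_left hg'x (bd_x _)).mul_left (Commute.units_inv_left hg'x) : _)
  have hQQ : Q * Q = Q := by
    rw [hQ]; simp only [mul_assoc]; rw [← mul_assoc ((g'⁻¹ : (M9 F)ˣ) : M9 F) (g' : M9 F), Units.inv_mul, one_mul,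
      ← mul_assoc (P2 0 : M9 F) (P2 0 : M9 F), P2_idem]
  have hQm : ∀ a, Q *ᵥ mvec a = (0 : F) • mvec a := by
    intro a
    have hS := symm3_row hω hQx hQZ a
    have hRR : row Q a * row Q a = row Q a := by rw [← row_mul hω hQx hQx, hQQ]
    have htr : row Q a 0 0 + row Q a 1 1 + row Q a 2 2 = 1 := by
      have e2 : row ((g'⁻¹ : (M9 F)ˣ) : M9 F) a * row (g' : M9 F) a = 1 := by
        rw [← row_mul hω (Commute.units_inv_left hg'x : _) hg'x, Units.inv_mul, ← bd_one, row_bd]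
      have e3 : (row Q a).trace = 1 := by
        rw [hQ, row_mul hω (Commute.mul_left hg'x (show (P2 0 : M9 F) * xM ω = xM ω * P2 0 from bd_x _) : _) (Commute.units_inv_left hg'x : _),
          row_mul hω hg'x (show (P2 0 : M9 F) * xM ω = xM ω * P2 0 from bd_x _), P2, row_bd,
          Matrix.trace_mul_comm, ← mul_assoc, e2, one_mul, E3, trace_diagonal, sum3]
        simp [show (2 : ZMod 3) ≠ 0 by decide]
      rw [Matrix.trace, sum3] at e3
      simpa using e3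
    have hμ := hS.eig_sq hRR
    conv_lhs => rw [bd_row hω hQx]
    rw [bd_mvec hS]
    rcases eq_or_ne (row Q a 1 1 - row Q a 1 2) 0 with e0 | e0
    · rw [e0]
    exfalso
    obtain ⟨h00, h10⟩ := hS.axis_zero hH.two_ne hRR htr (mul_right_cancel₀ e0 (by rw [one_mul]; exact hμ))
    have hQe : Q *ᵥ Pi.single (a, 0) 1 = 0 := by
      conv_lhs => rw [bd_row hω hQx]
      rw [bd_single0 hS, h00, h10, zero_smul, zero_smul, add_zero]
    have hw : (T' : M9 F) *ᵥ Pi.single (a, 0) 1 = (1 : F) • (Pi.single (a, 0) 1 : Pt → F) := by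
      rw [eT'', tU, add_mulVec, one_mulVec, smul_mulVec, hQe, smul_zero, add_zero, one_smul]
    have hTw : (T : M9 F) *ᵥ Pi.single (a, 0) 1 = ω • (Pi.single (a, 0) 1 : Pt → F) := by rw [eT, tU_P2_single]
    obtain ⟨c, hc⟩ : ∃ c : F, (e : M9 F) *ᵥ Pi.single (a, 0) 1 = c • (Pi.single (a, 0) 1 : Pt → F) :=
      ⟨((l • fun v => wp ω (f v)) (a, 0)) ^ 4, by
        funext i
        rw [ee, mulVec_diagonal, Pi.smul_apply, Pi.single_apply, smul_eq_mul]
        by_cases q : i = (a, 0)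
        · subst q; rfl
        · simp [q]⟩
    have hgT : ((g * T * g⁻¹ : (M9 F)ˣ) : M9 F) *ᵥ Pi.single (a, 0) 1 = (1 : F) • (Pi.single (a, 0) 1 : Pt → F) := by
      rw [show g * T * g⁻¹ = e * T' * e⁻¹ by rw [hT', hg']; group]
      exact conj_eig hc hw
    have hfix := DGrp.fix hz0 hTw hgT
    have hzv := conj_eig (T := Z) (α := -1) hc (by rw [eZ, Zp_single])
    rw [show e * Z * e⁻¹ = z by rw [← hzZ]; group, hfix] at hzv
    have h1 : (1 : F) = -1 := by simpa using congrFun hzv (a, 0)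
    exact hH.two_ne (by linear_combination h1)
  have hT'K : T' ∈ KM ω H := by
    refine ⟨⟨hT' ▸ mul_mem (mul_mem hg'H hT.1.1) (inv_mem hg'H), ?_, ?_⟩, fun a => ?_⟩
    · rw [eT'', tU, add_mul, mul_add, one_mul, mul_one, smul_mul_assoc, mul_smul_comm, hQx]
    · rw [eT'', tU, add_mul, mul_add, one_mul, mul_one, smul_mul_assoc, mul_smul_comm, hQZ]
    · rw [eT'', tU, add_mulVec, one_mulVec, smul_mulVec, hQm, zero_smul, smul_zero, add_zero]
  -- conjugacy inside the fixing group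
  have ht3 : (⟨T, hT⟩ : KM ω H) ^ 3 = 1 := Subtype.ext (by simp [hH.T_cube eT'])
  have ht1 : (⟨T, hT⟩ : KM ω H) ≠ 1 := fun h => by
    have h' := congrArg (fun y : KM ω H => (((y : (M9 F)ˣ) : M9 F) *ᵥ Pi.single ((0 : ZMod 3), (0 : ZMod 3)) 1) (0, 0)) h
    rw [eT, tU_P2_single, OneMemClass.coe_one, Units.val_one, one_mulVec, Pi.smul_apply,
      Pi.single_eq_same, smul_eq_mul, mul_one] at h'
    exact hω.ne_one h'
  have hC : ∀ k : KM ω H, k * ⟨T, hT⟩ = ⟨T, hT⟩ * k → (∃ i : ℕ, k ^ (3 ^ i) = 1) →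
      k ∈ Subgroup.zpowers (⟨T, hT⟩ : KM ω H) := by
    rintro k hk ⟨i, hi⟩
    have hk0 : Commute ((k : (M9 F)ˣ) : M9 F) (T : M9 F) := by
      have := congrArg (fun y : KM ω H => ((y : (M9 F)ˣ) : M9 F)) hk
      simpa [Commute, SemiconjBy] using this
    rw [eT] at hk0
    obtain ⟨n, hn, -⟩ := hH.KM_cent_three hN eT' k.2 ((tU_comm hω.cube).1 hk0).eq (i := i)
      (by rw [← Subgroup.coe_pow, hi, Subgroup.coe_one])
    exact Subgroup.mem_zpowers_iff.2 ⟨n, Subtype.ext (by simp [hn])⟩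
  obtain ⟨k, hk⟩ := exists_conj_mem_zpowers ht3 ht1 hC (q := ⟨T', hT'K⟩) (Subtype.ext (by
    simp only [SubmonoidClass.mk_pow, Subgroup.coe_one]
    rw [hT', conj_pow, hH.T_cube eT', mul_one, mul_inv_cancel]))
  obtain ⟨n, hn⟩ : ∃ n : ℕ, (k : (M9 F)ˣ)⁻¹ * T' * k = T ^ n := by
    obtain ⟨m, hm⟩ := Subgroup.mem_zpowers_iff.1 hk
    refine ⟨(m % 3).toNat, ?_⟩
    have h' := congrArg (fun y : KM ω H => (y : (M9 F)ˣ)) hm
    simp only [Subgroup.coe_mul, Subgroup.coe_inv, SubgroupClass.coe_zpow] at h'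
    rw [← h', ← zpow_natCast, Int.toNat_of_nonneg (Int.emod_nonneg _ (by norm_num))]
    conv_lhs => rw [show m = m % 3 + 3 * (m / 3) from (Int.emod_add_mul_ediv m 3).symm, _root_.zpow_add, _root_.zpow_mul,
      show T ^ (3 : ℤ) = 1 from hH.T_cube eT', _root_.one_zpow, mul_one]
  obtain ⟨v, hv⟩ : ∃ v, v = (k : (M9 F)ˣ)⁻¹ * g' := ⟨_, rfl⟩
  have hvT : v * T * v⁻¹ = T ^ n := by rw [← hn, hv, hT']; group
  have hTn : ((T ^ n : (M9 F)ˣ) : M9 F) = dg ω (ez (n : ZMod 3)) := by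
    rw [Units.val_pow_eq_pow_val, eT', dg_pow hω]; congr 1; funext w; simp [ez]
  have hn1 := hH.trace_eq_one eT' (g := v) (by rw [hvT, hTn])
  rw [hn1] at hTn
  have hvc : Commute (v : M9 F) (T : M9 F) := by
    have := congrArg Units.val (mul_inv_eq_iff_eq_mul.1 hvT)
    rw [Units.val_mul, Units.val_mul, hTn, ← eT'] at this
    exact this
  rw [eT] at hvc
  have hvN : Nor ω (v : M9 F) := hH.nor_cent_x_P2 hN (hv ▸ mul_mem (inv_mem k.2.1.1) hg'H)
    (by rw [hv, Units.val_mul]; exact (Commute.mul_left (Commute.units_inv_left k.2.1.2.1) hg'x : _))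
    ((tU_comm hω.cube).1 hvc).eq
  have := mul_mem heN (mul_mem (hH.KM_le_norG hN k.2) (hH.mem_norG.2 hvN))
  rw [hv, hg', mul_inv_cancel_left, mul_inv_cancel_left] at this
  exact this

/-- The members commuting with the central generator normalise. -/
theorem nor_cent_x (hN : NoTr H) {g : (M9 F)ˣ} (hg : g ∈ H) (hx : (g : M9 F) * xM ω = xM ω * g) :
    Nor ω (g : M9 F) := by
  have hω := hH.root
  obtain ⟨Q, hQ⟩ : ∃ Q, Q = (g : M9 F) * P2 0 * ((g⁻¹ : (M9 F)ˣ) : M9 F) := ⟨_, rfl⟩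
  have key : ∀ (n : (M9 F)ˣ) (A : M9 F), n ∈ H → Nor ω (n : M9 F) → (n : M9 F) * xM ω = xM ω * n →
      (n : M9 F) * P2 0 = A * (n : M9 F) → A * Q ≠ Q * A → Nor ω (g : M9 F) := by
    intro n A hn hnN hnx hnA hne
    have h1 : Nor ω ((n⁻¹ * g : (M9 F)ˣ) : M9 F) := by
      refine hH.nor_cent_x_aux hN (mul_mem (inv_mem hn) hg) ?_ ?_
      · rw [Units.val_mul]; exact (Commute.mul_left (Commute.units_inv_left hnx) hx : _)
      · intro h
        apply hne
        have eQ : ((n⁻¹ * g : (M9 F)ˣ) : M9 F) * P2 0 * (((n⁻¹ * g)⁻¹ : (M9 F)ˣ) : M9 F) =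
            ((n⁻¹ : (M9 F)ˣ) : M9 F) * Q * (n : M9 F) := by
          rw [hQ, _root_.mul_inv_rev, inv_inv, Units.val_mul, Units.val_mul]; simp only [mul_assoc]
        rw [eQ] at h
        have eA : (P2 0 : M9 F) = ((n⁻¹ : (M9 F)ˣ) : M9 F) * A * (n : M9 F) := by
          rw [mul_assoc, ← hnA, ← mul_assoc, Units.inv_mul, one_mul]
        rw [eA] at h
        have h' := congrArg (fun M => (n : M9 F) * M * ((n⁻¹ : (M9 F)ˣ) : M9 F)) h
        simpa [mul_assoc, Units.mul_inv_cancel_left] using h'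
    have := mul_mem (hH.mem_norG.2 hnN) (hH.mem_norG.2 h1)
    rwa [mul_inv_cancel_left] at this
  by_cases h0 : (P2 0 : M9 F) * Q = Q * P2 0
  swap
  · exact hH.nor_cent_x_aux hN hg hx (hQ ▸ h0)
  by_cases h1 : (P2 1 : M9 F) * Q = Q * P2 1
  swap
  · obtain ⟨S, hS, eS⟩ := hH.in_sh ((0, 1) : Pt)
    refine key S (P2 1) hS (eS ▸ nor_sh hω _) (by rw [eS, sh01, blk_eq_bd, bd_x]) ?_ h1
    rw [eS, sh01_P2, zero_add]
  by_cases hJ : blk (J3 : Matrix (ZMod 3) (ZMod 3) F) * Q = Q * blk J3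
  swap
  · obtain ⟨N, hN', eN⟩ := hH.in_of_nor (nor_blk_n3 hω) (det_blk_n3 hω)
    exact key N _ hN' (eN ▸ nor_blk_n3 hω) (by rw [eN, blk_eq_bd, bd_x]) (by rw [eN, n3_P2 hω]) hJ
  exfalso
  have hQx : Q * xM ω = xM ω * Q := by
    rw [hQ]; exact ((Commute.mul_left hx (bd_x _)).mul_left (Commute.units_inv_left hx) : _)
  have hQQ : Q * Q = Q := by
    rw [hQ]; simp only [mul_assoc]; rw [← mul_assoc ((g⁻¹ : (M9 F)ˣ) : M9 F) (g : M9 F), Units.inv_mul, one_mul,
      ← mul_assoc (P2 0 : M9 F) (P2 0 : M9 F), P2_idem]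
  have hd := eq_diagonal_of_comm hω hQx (show (0 : ZMod 3) ≠ 1 by decide) h0.symm h1.symm
  have h3 : (3 : F) ≠ 0 := hω.three
  have hconst : ∀ a b d, Q (a, b) (a, b) = Q (a, d) (a, d) := by
    intro a b d
    have := congrFun (congrFun hJ (a, b)) (a, d)
    generalize hq : (fun v => Q v v) = q at hd
    have hb := congrFun hq (a, b)
    have hb' := congrFun hq (a, d)
    rw [hb, hb']
    rw [hd, mul_diagonal, diagonal_mul, blk_apply] at this
    simp only [J3, of_apply, if_true] at this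
    exact mul_left_cancel₀ (inv_ne_zero h3) (by linear_combination -this)
  have htr : (row Q 0).trace = 1 := by
    have e2 : row ((g⁻¹ : (M9 F)ˣ) : M9 F) 0 * row (g : M9 F) 0 = 1 := by
      rw [← row_mul hω (Commute.units_inv_left hx : _) hx, Units.inv_mul, ← bd_one, row_bd]
    rw [hQ, row_mul hω (Commute.mul_left hx (show (P2 0 : M9 F) * xM ω = xM ω * P2 0 from bd_x _) : _) (Commute.units_inv_left hx : _),
      row_mul hω hx (show (P2 0 : M9 F) * xM ω = xM ω * P2 0 from bd_x _), P2, row_bd,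
      Matrix.trace_mul_comm, ← mul_assoc, e2, one_mul, E3, trace_diagonal, sum3]
    simp [show (2 : ZMod 3) ≠ 0 by decide]
  rw [Matrix.trace, sum3] at htr
  simp only [diag_apply, row_apply, hconst 0 1 0, hconst 0 2 0] at htr
  have hq := congrFun (congrFun hQQ (0, 0)) (0, 0)
  generalize hq0 : (fun v => Q v v) = q at hd
  have h00 := congrFun hq0 (0, 0)
  rw [h00] at htr
  rw [hd, diagonal_mul_diagonal, diagonal_apply_eq, diagonal_apply_eq] at hq
  exact hH.two_ne (by linear_combination (3 * q (0, 0) - 2) * htr - 9 * hq)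

end Amb

end CfsgLib.Classical.QutritMax
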