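import Cfsg.Agent.Lib.Classical.QutritMax.Diag

/-!
# The centraliser of the central generator and the first coset projection
-/

set_option autoImplicit false
set_option linter.unusedSectionVars false
set_option linter.unusedSimpArgs false

namespace CfsgLib.Classical.QutritMax

open Matrix

variable {F : Type*} [Field F] {ω : F}

theorem P2_eq_diagonal (k : ZMod 3) : (P2 k : M9 F) = diagonal (fun v : Pt => if v.2 = k then (1 : F) else 0) := by
  ext ⟨a, b⟩ ⟨c, d⟩
  simp only [P2, bd_apply, E3, diagonal_apply, Pi.single_apply]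
  by_cases e : a = c <;> by_cases e' : b = d <;> simp [e, e']

theorem sh01_P2 (k : ZMod 3) : (sh (0, 1) : M9 F) * P2 k = P2 (k + 1) * sh (0, 1) := by
  rw [P2_eq_diagonal, P2_eq_diagonal, sh, pm_mul_diagonal]
  congr 2
  funext v
  rw [Function.comp_apply]
  refine if_congr ?_ rfl rfl
  simp [Equiv.addRight_symm, sub_eq_iff_eq_add, ← sub_eq_add_neg]

theorem Zp_P2 (k : ZMod 3) : (Zp : M9 F) * P2 k = P2 (-k) * Zp := by
  rw [← signed_negB, Matrix.smul_mul, Matrix.mul_smul, P2_eq_diagonal, P2_eq_diagonal, pm_mul_diagonal]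
  congr 2
  congr 1
  funext v
  rw [Function.comp_apply]
  refine if_congr ?_ rfl rfl
  simp [negB, Prod.map, neg_eq_iff_eq_neg]

theorem tU_P2_two : tU ω (P2 2 : M9 F) = dg ω (fun w : Pt => 1 - (w.2 - 2) * (w.2 - 2)) := by
  rw [P2_eq_diagonal, tU, dg, ← diagonal_smul, ← diagonal_one, diagonal_add]
  congr 1
  funext v
  simp only [Pi.smul_apply, smul_eq_mul]
  rcases zmod3_cases v.2 with e | e | e <;> rw [e] <;>
    simp [wp_zero, wp_one, show (0 : ZMod 3) ≠ 2 by decide, show (1 : ZMod 3) ≠ 2 by decide,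
      show (1 : ZMod 3) - (0 - 2) * (0 - 2) = 0 by decide, show (1 : ZMod 3) - 2 * 2 = 0 by decide,
      show (1 : ZMod 3) - (1 - 2) * (1 - 2) = 0 by decide]

theorem quadr_P2_two : Quadr (fun w : Pt => 1 - (w.2 - 2) * (w.2 - 2)) :=
  ⟨1 - 4, 0, 4, 0, 0, -1, funext fun w => by ring⟩

theorem eq_diagonal_of_comm (h : Root ω) {g : M9 F} (hx : g * xM ω = xM ω * g) {i j : ZMod 3} (hij : i ≠ j)
    (hi : g * (P2 i : M9 F) = (P2 i : M9 F) * g) (hj : g * (P2 j : M9 F) = (P2 j : M9 F) * g) :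
    g = diagonal fun v => g v v := by
  ext s t
  by_cases e : s = t
  · subst e; rw [diagonal_apply_eq]
  rw [diagonal_apply_ne _ e]
  by_cases e1 : s.1 = t.1
  · have key : ∀ k, g * (P2 k : M9 F) = (P2 k : M9 F) * g → (s.2 = k → t.2 ≠ k → g s t = 0) ∧
        (s.2 ≠ k → t.2 = k → g s t = 0) := by
      intro k hk
      have := congrFun (congrFun hk s) t
      rw [P2_eq_diagonal, mul_diagonal, diagonal_mul] at this
      refine ⟨fun a b => ?_, fun a b => ?_⟩
      · rw [if_pos a, if_neg b] at this; simpa using this.symm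
      · rw [if_neg a, if_pos b] at this; simpa using this
    have e2 : s.2 ≠ t.2 := fun q => e (Prod.ext e1 q)
    have table : ∀ i j a b : ZMod 3, i ≠ j → a ≠ b → a = i ∨ b = i ∨ a = j ∨ b = j := by decide
    rcases table i j _ _ hij e2 with q | q | q | q
    · exact (key i hi).1 q fun r => e2 (q.trans r.symm)
    · exact (key i hi).2 (fun r => e2 (r.trans q.symm)) q
    · exact (key j hj).1 q fun r => e2 (q.trans r.symm)
    · exact (key j hj).2 (fun r => e2 (r.trans q.symm)) q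
  · rw [bd_row h hx, bd_apply, if_neg e1]

set_option synthInstance.maxSize 2000 in
theorem sel_table : ∀ ε : ZMod 3 → Bool,
    ∑ v : Pt, v.2 * (if v.2 = (if ε v.1 = true then (1 : ZMod 3) else 2) then (1 : ZMod 3) else 0) = 0 →
      (∀ a, ε a = false) ∨ ∀ a, ε a = true := by decide +kernel

variable {p : ℕ} {H : Subgroup (M9 F)ˣ}

namespace Amb

variable (hH : Amb ω p H)
include hH

theorem diag_member (hN : NoTr H) {g : (M9 F)ˣ} (hg : g ∈ H) (hx : (g : M9 F) * xM ω = xM ω * g)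
    {i j : ZMod 3} (hij : i ≠ j) (hi : (g : M9 F) * (P2 i : M9 F) = (P2 i : M9 F) * g)
    (hj : (g : M9 F) * (P2 j : M9 F) = (P2 j : M9 F) * g) :
    ∃ (l : F) (f : Pt → ZMod 3), Quadr f ∧ l ^ 9 = 1 ∧ (g : M9 F) = l • dg ω f := by
  have e := eq_diagonal_of_comm hH.root hx hij hi hj
  have hin : In H (diagonal fun v => (g : M9 F) v v) := ⟨g, hg, e⟩
  obtain ⟨l, f, hf, hl, e'⟩ := hH.diag_quadr hN hin
  exact ⟨l, f, hf, hl, e.trans e'⟩

theorem scaled_pow_p {l : F} {f : Pt → ZMod 3} (hl : l ^ 9 = 1) (h : (l • dg ω f) ^ p = (1 : M9 F)) :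
    l • dg ω f = (1 : M9 F) := by
  rw [dg, ← diagonal_smul, diagonal_pow, ← diagonal_one] at h
  rw [dg, ← diagonal_smul, ← diagonal_one]
  congr 1
  funext v
  exact hH.pow_p_eq (congrFun (diagonal_injective h) v)

theorem scaled_sq {l : F} {f : Pt → ZMod 3} (hl : l ^ 9 = 1) (h : (l • dg ω f) * (l • dg ω f) = (1 : M9 F)) :
    l • dg ω f = (1 : M9 F) := by
  rw [dg, ← diagonal_smul, diagonal_mul_diagonal, ← diagonal_one] at h
  rw [dg, ← diagonal_smul, ← diagonal_one]
  congr 1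
  funext v
  have e := congrFun (diagonal_injective h) v
  have e9 : ((l • fun v => wp ω (f v)) v) ^ 9 = 1 := by
    rw [Pi.smul_apply, smul_eq_mul, mul_pow, hl, one_mul,
      show wp ω (f v) ^ 9 = (wp ω (f v) ^ 3) ^ 3 by rw [← pow_mul], wp_pow_three hH.root, one_pow]
  rw [show (9 : ℕ) = 2 * 4 + 1 from rfl, pow_succ, pow_mul, pow_two, e, one_pow, one_mul] at e9
  exact e9

/-- The members commuting with the central generator and the first projection. -/
theorem cent_x_P2 (hN : NoTr H) {g : (M9 F)ˣ} (hg : g ∈ H) (hx : (g : M9 F) * xM ω = xM ω * g)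
    (h0 : (g : M9 F) * (P2 0 : M9 F) = (P2 0 : M9 F) * g) :
    ∃ (l : F) (f : Pt → ZMod 3), Quadr f ∧ l ^ 9 = 1 ∧
      ((g : M9 F) = l • dg ω f ∨ (g : M9 F) = (Zp : M9 F) * (l • dg ω f)) := by
  classical
  have hω := hH.root
  obtain ⟨T, hT, eT⟩ := hH.in_dg_quadr quadr_P2_two
  rw [← tU_P2_two] at eT
  have n20 : (2 : ZMod 3) ≠ 0 := by decide
  have hP22x : (P2 2 : M9 F) * xM ω = xM ω * P2 2 := bd_x _
  have hP220 : (P2 2 : M9 F) * (P2 0 : M9 F) = (P2 0 : M9 F) * P2 2 := by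
    rw [P2_eq_diagonal, P2_eq_diagonal, diagonal_mul_diagonal, diagonal_mul_diagonal]
    congr 1; funext v; ring
  have hTx : (T : M9 F) * xM ω = xM ω * T := by
    rw [eT, tU_P2_two, dg, diag_x]
  have hT0 : (T : M9 F) * (P2 0 : M9 F) = (P2 0 : M9 F) * T := by
    rw [eT, tU, add_mul, mul_add, one_mul, mul_one, smul_mul_assoc, mul_smul_comm, hP220]
  have hQ : ∀ {A : M9 F}, (g : M9 F) * A = A * g → (T : M9 F) * A = A * T →
      ((g * T * g⁻¹ : (M9 F)ˣ) : M9 F) * A = A * ((g * T * g⁻¹ : (M9 F)ˣ) : M9 F) := fun {A} h1 h2 => by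
    rw [Units.val_mul, Units.val_mul]
    exact ((Commute.mul_left h1 h2).mul_left (Commute.units_inv_left h1) : _)
  have hD : ∀ z ∈ DGrp T (g * T * g⁻¹), z ∈ H → (z : M9 F) * (P2 2 : M9 F) = (P2 2 : M9 F) * z →
      ∃ (l : F) (f : Pt → ZMod 3), Quadr f ∧ l ^ 9 = 1 ∧ (z : M9 F) = l • dg ω f := fun z hz hzH hz2 =>
    hH.diag_member hN hzH (DGrp.comm hz hTx (hQ hx hTx)) n20.symm (DGrp.comm hz hT0 (hQ h0 hT0)) hz2
  rcases hH.conj_cases (P2_idem 2) eT hT hg with h | ⟨z, hz0, hzH, hz1, hzz, hzP, -⟩ | ⟨u, hu0, huH, hu1, hup, huP⟩ |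
    ⟨u, hu0, huH, hu1, -, hs⟩
  · set Q := (g : M9 F) * P2 2 * ((g⁻¹ : (M9 F)ˣ) : M9 F) with hQdef
    have gi0 : ((g⁻¹ : (M9 F)ˣ) : M9 F) * (P2 0 : M9 F) = (P2 0 : M9 F) * ((g⁻¹ : (M9 F)ˣ) : M9 F) :=
      (Commute.units_inv_left h0 : _)
    have hQx : Q * xM ω = xM ω * Q :=
      ((Commute.mul_left hx hP22x).mul_left (Commute.units_inv_left hx) : _)
    have hQ0 : Q * (P2 0 : M9 F) = (P2 0 : M9 F) * Q :=
      ((Commute.mul_left h0 hP220).mul_left (Commute.units_inv_left h0) : _)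
    have hQdiag := eq_diagonal_of_comm hω hQx n20.symm hQ0 h.symm
    have hQQ : Q * Q = Q := by
      rw [hQdef]; simp only [mul_assoc]; rw [← mul_assoc ((g⁻¹ : (M9 F)ˣ) : M9 F) (g : M9 F), Units.inv_mul, one_mul,
        ← mul_assoc (P2 2 : M9 F) (P2 2 : M9 F), P2_idem]
    obtain ⟨q, hq⟩ : ∃ q : Pt → F, q = fun v => Q v v := ⟨_, rfl⟩
    rw [← hq] at hQdiag
    have q01 : ∀ v, q v = 0 ∨ q v = 1 := by
      intro v
      have := congrFun (congrFun hQQ v) v
      rw [hQdiag, diagonal_mul_diagonal, diagonal_apply_eq, diagonal_apply_eq] at this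
      rcases eq_or_ne (q v) 0 with e | e
      · exact Or.inl e
      · exact Or.inr (mul_right_cancel₀ e (by rw [one_mul]; exact this))
    have qzero : ∀ a, q (a, 0) = 0 := by
      intro a
      have e : Q * (P2 0 : M9 F) = 0 := by
        rw [hQdef, mul_assoc, gi0, ← mul_assoc, mul_assoc (g : M9 F), P2_eq_diagonal 2, P2_eq_diagonal 0,
          diagonal_mul_diagonal]
        have : (fun v : Pt => (if v.2 = 2 then (1 : F) else 0) * if v.2 = 0 then (1 : F) else 0) = fun _ => 0 := by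
          funext v
          rcases zmod3_cases v.2 with e | e | e <;> simp [e, n20.symm, n20, show (1 : ZMod 3) ≠ 2 by decide]
        rw [this, diagonal_zero, mul_zero, zero_mul]
      have := congrFun (congrFun e (a, 0)) (a, 0)
      rw [hQdiag, P2_eq_diagonal, diagonal_mul_diagonal, diagonal_apply_eq] at this
      simpa using this
    have qsum : ∀ a, q (a, 1) + q (a, 2) = 1 := by
      intro a
      have e1 : row Q a = row (g : M9 F) a * E3 2 * row ((g⁻¹ : (M9 F)ˣ) : M9 F) a := by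
        rw [hQdef, row_mul hω (Commute.mul_left hx hP22x : _) (Commute.units_inv_left hx : _), row_mul hω hx hP22x,
          P2, row_bd]
      have e2 : row ((g⁻¹ : (M9 F)ˣ) : M9 F) a * row (g : M9 F) a = 1 := by
        rw [← row_mul hω (Commute.units_inv_left hx : _) hx, Units.inv_mul, ← bd_one, row_bd]
      have e3 : (row Q a).trace = 1 := by
        rw [e1, Matrix.trace_mul_comm, ← mul_assoc, e2, one_mul, E3, trace_diagonal, sum3]
        simp [n20.symm, show (1 : ZMod 3) ≠ 2 by decide]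
      rw [Matrix.trace, sum3, hQdiag] at e3
      simpa [row_apply, qzero a] using e3
    let ε : ZMod 3 → Bool := fun a => decide (q (a, 1) = 1)
    have hqv : ∀ v : Pt, q v = if v.2 = (if ε v.1 = true then (1 : ZMod 3) else 2) then (1 : F) else 0 := by
      rintro ⟨a, b⟩
      rcases q01 (a, 1) with e1 | e1
      · have e2 := qsum a
        rw [e1, zero_add] at e2
        rcases zmod3_cases b with rfl | rfl | rfl <;>
          simp [ε, e1, e2, qzero a, n20.symm, show (1 : ZMod 3) ≠ 2 by decide]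
      · have e2 := qsum a
        rw [e1, add_eq_left] at e2
        rcases zmod3_cases b with rfl | rfl | rfl <;>
          simp [ε, e1, e2, qzero a, show (2 : ZMod 3) ≠ 1 by decide, show (0 : ZMod 3) ≠ 1 by decide]
    have hTQ : In H ((1 : F) • dg ω (fun v : Pt =>
        if v.2 = (if ε v.1 = true then (1 : ZMod 3) else 2) then (1 : ZMod 3) else 0)) := by
      refine ⟨g * T * g⁻¹, mul_mem (mul_mem hg hT) (inv_mem hg), ?_⟩
      rw [one_smul, Units.val_mul, Units.val_mul, eT, tU, mul_add, add_mul, mul_one, Units.mul_inv, mul_smul_comm,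
        smul_mul_assoc, ← hQdef, hQdiag, dg, ← diagonal_smul, ← diagonal_one, diagonal_add]
      congr 1
      funext v
      rw [Pi.smul_apply, hqv, smul_eq_mul]
      split_ifs with e <;> simp [wp_one, wp_zero]
    have hsel := sel_table ε (hH.moments_eq_zero hN hTQ).2.2
    have hQeq : ∀ k, (∀ a, (if ε a = true then (1 : ZMod 3) else 2) = k) →
        (g : M9 F) * (P2 2 : M9 F) = (P2 k : M9 F) * g := by
      intro k hk
      have : Q = P2 k := by
        rw [hQdiag, P2_eq_diagonal]; congr 1; funext v; rw [hqv, hk]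
      rw [← this, hQdef, mul_assoc, Units.inv_mul, mul_one]
    rcases hsel with hf | ht
    · have := hQeq 2 fun a => by simp [hf a]
      obtain ⟨l, f, h1, h2, h3⟩ := hH.diag_member hN hg hx n20.symm h0 this
      exact ⟨l, f, h1, h2, Or.inl h3⟩
    · have h21 := hQeq 1 fun a => by simp [ht a]
      obtain ⟨Z, hZ, eZ⟩ := hH.in_Zp
      have hZ0 : (Zp : M9 F) * P2 0 = P2 0 * Zp := by
        have := Zp_P2 (F := F) 0; rwa [neg_zero] at this
      obtain ⟨l, f, h1, h2, h3⟩ := hH.diag_member hN (g := Z * g) (mul_mem hZ hg)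
        (by rw [Units.val_mul, eZ]; exact (Commute.mul_left (show (Zp : M9 F) * xM ω = xM ω * Zp from bd_x _) hx : _)) n20.symm
        (by rw [Units.val_mul, eZ]; exact (Commute.mul_left hZ0 h0 : _))
        (by rw [Units.val_mul, eZ, mul_assoc, h21, ← mul_assoc, Zp_P2, show -(1 : ZMod 3) = 2 by decide, mul_assoc])
      refine ⟨l, f, h1, h2, Or.inr ?_⟩
      rw [← h3, Units.val_mul, eZ, ← mul_assoc, Zp_mul_self, one_mul]
  · exfalso
    obtain ⟨l, f, -, hl, e⟩ := hD z hz0 hzH hzP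
    exact hz1 (Units.ext (by rw [e] at hzz; rw [e, hH.scaled_sq hl hzz, Units.val_one]))
  · exfalso
    obtain ⟨l, f, -, hl, e⟩ := hD u hu0 huH huP
    exact hu1 (Units.ext (by rw [e] at hup; rw [e, hH.scaled_pow_p hl hup, Units.val_one]))
  · exfalso
    obtain ⟨S, hS, eS⟩ := hH.in_sh ((0, 1) : Pt)
    obtain ⟨u', hu'⟩ : ∃ u' : (M9 F)ˣ, u' = S * u * S⁻¹ := ⟨_, rfl⟩
    have hu'H : u' ∈ H := hu' ▸ mul_mem (mul_mem hS huH) (inv_mem hS)
    have hsx : (S : M9 F) * xM ω = xM ω * S := by rw [eS, sh01, blk_eq_bd, bd_x]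
    have hux := DGrp.comm hu0 hTx (hQ hx hTx)
    have e1 : (u' : M9 F) - 1 = (S : M9 F) * ((u : M9 F) - 1) * ((S⁻¹ : (M9 F)ˣ) : M9 F) := by
      rw [mul_sub, sub_mul, mul_one, Units.mul_inv, hu', Units.val_mul, Units.val_mul]
    have e2 : (P2 0 : M9 F) = (S : M9 F) * P2 2 * ((S⁻¹ : (M9 F)ˣ) : M9 F) := by
      rw [eS, sh01_P2, show (2 : ZMod 3) + 1 = 0 by decide, mul_assoc, ← eS, Units.mul_inv, mul_one]
    have cc : ∀ A B : M9 F, ((S : M9 F) * A * ((S⁻¹ : (M9 F)ˣ) : M9 F)) * ((S : M9 F) * B * ((S⁻¹ : (M9 F)ˣ) : M9 F))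
        = (S : M9 F) * (A * B) * ((S⁻¹ : (M9 F)ˣ) : M9 F) := fun A B => by
      simp only [mul_assoc]; rw [← mul_assoc ((S⁻¹ : (M9 F)ˣ) : M9 F) (S : M9 F), Units.inv_mul, one_mul]
    have h1 := hH.no_one_sided hN ⟨u', hu'H, rfl⟩
      (by rw [hu', Units.val_mul, Units.val_mul]
          exact ((Commute.mul_left hsx hux).mul_left (Commute.units_inv_left hsx) : _))
      (by
        rw [e1, e2, cc, cc]
        rcases hs with ⟨a, b⟩ | ⟨a, b⟩
        · left; rw [a, b]; simp
        · right; rw [a, b]; simp)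
    refine hu1 ?_
    have h2 : u' = 1 := Units.ext h1
    rw [hu', mul_inv_eq_one, mul_eq_left] at h2
    exact h2

theorem nor_cent_x_P2 (hN : NoTr H) {g : (M9 F)ˣ} (hg : g ∈ H) (hx : (g : M9 F) * xM ω = xM ω * g)
    (h0 : (g : M9 F) * (P2 0 : M9 F) = (P2 0 : M9 F) * g) : Nor ω (g : M9 F) := by
  obtain ⟨l, f, hf, -, e | e⟩ := hH.cent_x_P2 hN hg hx h0
  · rw [e]; exact (nor_dg hH.root hf).smul l
  · rw [e]
    refine Nor.mul ?_ ((nor_dg hH.root hf).smul l)
    rw [← signed_negB]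
    exact (nor_pm hH.root negB_add).smul _

theorem cent_x_P2_pow_p (hN : NoTr H) {g : (M9 F)ˣ} (hg : g ∈ H) (hx : (g : M9 F) * xM ω = xM ω * g)
    (h0 : (g : M9 F) * (P2 0 : M9 F) = (P2 0 : M9 F) * g) (hp : (g : M9 F) ^ p = 1) : g = 1 := by
  have hg2 : (g : M9 F) * g ∈ {A : M9 F | ∃ (l : F) (f : Pt → ZMod 3), Quadr f ∧ l ^ 9 = 1 ∧ A = l • dg ω f} := by
    have h2 : ((g * g : (M9 F)ˣ) : M9 F) = (g : M9 F) * g := Units.val_mul g g
    obtain ⟨l, f, hf, hl, e | e⟩ := hH.cent_x_P2 hN hg hx h0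
    · have hdiag : (g : M9 F) * (P2 2 : M9 F) = (P2 2 : M9 F) * g := by
        rw [e, P2_eq_diagonal, dg, ← diagonal_smul, diagonal_mul_diagonal, diagonal_mul_diagonal]
        congr 1; funext v; ring
      rw [← h2]
      exact hH.diag_member hN (mul_mem hg hg) (by rw [h2]; exact (Commute.mul_left hx hx : _))
        (show (0 : ZMod 3) ≠ 2 by decide) (by rw [h2]; exact (Commute.mul_left h0 h0 : _))
        (by rw [h2]; exact (Commute.mul_left hdiag hdiag : _))
    · have eg : (g : M9 F) * g = diagonal fun v => (l • fun v => wp ω (f v)) (negB v) * (l • fun v => wp ω (f v)) v := by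
        rw [e, dg, ← diagonal_smul, show (Zp : M9 F) * diagonal (l • fun v => wp ω (f v)) * ((Zp : M9 F) * diagonal (l • fun v => wp ω (f v)))
          = (Zp * diagonal (l • fun v => wp ω (f v)) * Zp) * diagonal (l • fun v => wp ω (f v)) by simp only [mul_assoc],
          diag_Zp_conj, diagonal_mul_diagonal]
        rfl
      obtain ⟨l', f', h1, h2', h3⟩ := hH.diag_quadr hN (α := fun v => (l • fun v => wp ω (f v)) (negB v) *
        (l • fun v => wp ω (f v)) v) ⟨g * g, mul_mem hg hg, h2.trans eg⟩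
      exact ⟨l', f', h1, h2', eg.trans h3⟩
  obtain ⟨l, f, -, hl, e⟩ := hg2
  have hp2 : (g * g) ^ p = 1 := Units.ext (by
    rw [Units.val_pow_eq_pow_val, Units.val_mul, (Commute.refl (g : M9 F)).mul_pow, hp, one_mul, Units.val_one])
  have h1 : g * g = 1 := Units.ext (by
    rw [Units.val_mul, e, Units.val_one]
    exact hH.scaled_pow_p hl (by rw [← e, (Commute.refl (g : M9 F)).mul_pow, hp, one_mul]))
  have hgp : g ^ p = 1 := Units.ext (by rw [Units.val_pow_eq_pow_val, hp, Units.val_one])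
  have hg2' : g ^ 2 = 1 := by rw [pow_two, h1]
  exact orderOf_eq_one_iff.1 (Nat.eq_one_of_dvd_coprimes
    ((Nat.coprime_primes Nat.prime_two hH.prime).2 (by have := hH.seven; omega))
    (orderOf_dvd_of_pow_eq_one hg2') (orderOf_dvd_of_pow_eq_one hgp))

end Amb

end CfsgLib.Classical.QutritMax
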