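import Cfsg.Agent.Lib.Classical.QutritMax.CentX

/-!
# No element of large prime order commutes with the central generator
-/

set_option autoImplicit false
set_option linter.unusedSectionVars false
set_option linter.unusedSimpArgs false

namespace CfsgLib.Classical.QutritMax

open Matrix

theorem perm_fix {p : ℕ} [hp : Fact p.Prime] (h7 : 7 ≤ p) {σ : Equiv.Perm Pt} (h0 : σ 0 = 0)
    (hn : ∀ v, σ (-v) = -σ v) (hσ : σ ^ p = 1) : σ = 1 := by
  classical
  have hm := Equiv.Perm.card_compl_support_modEq (σ := σ) (p := p) (n := 1) (by rw [pow_one]; exact hσ)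
  have hle : σ.supportᶜ.card ≤ 9 := (Finset.card_le_univ _).trans (by decide)
  rw [show Fintype.card Pt = 9 by decide] at hm
  have hall : σ.supportᶜ.card = 9 := by
    by_contra hne
    have hdvd : (p : ℕ) ∣ 9 - σ.supportᶜ.card := (Nat.modEq_iff_dvd' hle).1 hm
    have hle' := Nat.le_of_dvd (by omega) hdvd
    have hp9 : p = 7 := by
      have : p ≤ 9 := by omega
      rcases (by omega : p = 7 ∨ p = 8 ∨ p = 9) with e | e | e
      · exact e
      · exact absurd (e ▸ hp.out) (by decide)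
      · exact absurd (e ▸ hp.out) (by decide)
    have hc2 : σ.supportᶜ.card ≤ 2 := by omega
    have hmem : ∀ v, v ∈ σ.supportᶜ ↔ σ v = v := fun v => by simp
    have hsingle : σ.supportᶜ = {0} := by
      refine Finset.eq_singleton_iff_unique_mem.2 ⟨(hmem 0).2 h0, fun w hw => ?_⟩
      by_contra hw0
      have hnw : -w ∈ σ.supportᶜ := (hmem _).2 (by rw [hn, (hmem w).1 hw])
      have hneq : ∀ w : Pt, w ≠ 0 → -w ≠ w ∧ -w ≠ 0 := by decide
      obtain ⟨a, b⟩ := hneq w hw0
      have h3 : ({0, w, -w} : Finset Pt).card = 3 := by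
        rw [Finset.card_insert_of_notMem, Finset.card_insert_of_notMem, Finset.card_singleton]
        · simp [Ne.symm a]
        · simp [Ne.symm hw0, Ne.symm b]
      have hsub : ({0, w, -w} : Finset Pt) ⊆ σ.supportᶜ := by
        intro v hv
        simp only [Finset.mem_insert, Finset.mem_singleton] at hv
        rcases hv with rfl | rfl | rfl
        exacts [(hmem 0).2 h0, hw, hnw]
      have := Finset.card_le_card hsub
      omega
    rw [hsingle, Finset.card_singleton, hp9] at hdvd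
    norm_num at hdvd
  have : σ.supportᶜ = Finset.univ := Finset.eq_univ_of_card _ (by rw [hall]; decide)
  exact Equiv.ext fun v => by
    have hv : v ∈ σ.supportᶜ := this ▸ Finset.mem_univ v
    simpa using hv

variable {F : Type*} [Field F] {ω : F} {p : ℕ} {H : Subgroup (M9 F)ˣ}

theorem Rm_injective (h : Root ω) {k k' : ZMod 3} {u v u' v' : Pt} (e : (Rm ω k u v : M9 F) = Rm ω k' u' v') :
    k = k' ∧ u = u' ∧ v = v' := by
  have ap : ∀ (k : ZMod 3) (u v i j : Pt), (Rm ω k u v : M9 F) i j =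
      if i = j + u then wp ω k * wp ω (dot v j) else 0 := by
    intro k u v i j
    rw [Rm, Matrix.smul_apply, dg, mul_diagonal, sh_apply, smul_eq_mul]
    split_ifs <;> simp
  have hu : u = u' := by
    have := congrFun (congrFun e u) 0
    rw [ap, ap, if_pos (zero_add u).symm, zero_add] at this
    by_contra hu
    rw [if_neg hu] at this
    exact mul_ne_zero (wp_ne_zero h _) (wp_ne_zero h _) this
  subst hu
  have hk : ∀ j, k + dot v j = k' + dot v' j := fun j => by
    have := congrFun (congrFun e (j + u)) j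
    rw [ap, ap, if_pos rfl, if_pos rfl, ← wp_add h, ← wp_add h] at this
    exact wp_injective h this
  have h0 := hk 0
  rw [dot_zero, dot_zero, add_zero, add_zero] at h0
  subst h0
  refine ⟨rfl, rfl, ?_⟩
  have h1 := hk (1, 0)
  have h2 := hk (0, 1)
  simp [dot] at h1 h2
  exact Prod.ext h1 h2

/-- The lift of a class. -/
def Bv (ω : F) (v : Pt) : M9 F := Rm ω 0 (0, v.1) (0, v.2)

theorem Rm_split (h : Root ω) (k : ZMod 3) (i : ZMod 3) (v : Pt) :
    (Rm ω k (0, v.1) (i, v.2) : M9 F) = wp ω k • (Bv ω v * dg ω (dot (i, 0))) := by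
  rw [Bv, Rm, Rm, wp_zero, one_smul, mul_assoc, dg_mul h]
  congr 3
  funext w
  simp [dot]; ring

theorem dgi_comm (h : Root ω) {g : M9 F} (hx : g * xM ω = xM ω * g) (i : ZMod 3) :
    g * dg ω (dot (i, 0)) = dg ω (dot (i, 0)) * g := by
  have e : dg ω (dot (i, 0)) = (xM ω : M9 F) ^ i.val := by
    rw [xM, dg_pow h, ZMod.natCast_zmod_val]
    congr 1; funext w; simp [dot]
  rw [e]
  exact (Commute.pow_right hx _)

theorem inR_scalar_eq (k : ZMod 3) : (Rm ω k 0 0 : M9 F) = wp ω k • 1 := by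
  rw [Rm, sh_zero, one_mul, show dot (0 : Pt) = fun _ => (0 : ZMod 3) from funext zero_dot, dg_zero]

theorem step_class (h : Root ω) {g : M9 F} (hx : g * xM ω = xM ω * g) {v w : Pt} {k' i' : ZMod 3}
    (e : g * Bv ω v = Rm ω k' (0, w.1) (i', w.2) * g) (k i : ZMod 3) :
    g * Rm ω k (0, v.1) (i, v.2) = Rm ω (k + k') (0, w.1) (i' + i, w.2) * g := by
  rw [Rm_split h k i v, Matrix.mul_smul, ← mul_assoc, e, mul_assoc, dgi_comm h hx, ← mul_assoc, Rm_split h k' i' w,
    Rm_split h (k + k') (i' + i) w, wp_add h,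
    show dot (i' + i, (0 : ZMod 3)) = dot (i', 0) + dot (i, 0) from funext fun t => by simp [dot]; ring,
    ← dg_mul h]
  simp only [Matrix.smul_mul, smul_smul, mul_assoc]

namespace Amb

variable (hH : Amb ω p H)
include hH

/-- A normalising element of order `p` commuting with the central generator is trivial. -/
theorem nor_x_pow_p (hN : NoTr H) {g : (M9 F)ˣ} (hg : g ∈ H) (hnor : Nor ω (g : M9 F))
    (hx : (g : M9 F) * xM ω = xM ω * g) (hp : (g : M9 F) ^ p = 1) : g = 1 := by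
  classical
  have hω := hH.root
  haveI : Fact p.Prime := ⟨hH.prime⟩
  have himg : ∀ v : Pt, ∃ w : Pt, ∃ k i, (g : M9 F) * Bv ω v = Rm ω k (0, w.1) (i, w.2) * g := by
    intro v
    obtain ⟨s, ⟨k, u, t, rfl⟩, e⟩ := hnor (Bv ω v) ⟨_, _, _, rfl⟩
    have hxx : (Bv ω v : M9 F) * xM ω = xM ω * Bv ω v := by
      have e1 : (xM ω : M9 F) = Rm ω 0 0 (1, 0) := by simp [Rm, wp_zero, sh_zero, xM]
      rw [e1, Bv, Rm_mul hω, Rm_mul hω]
      congr 1 <;> simp [dot, add_comm]
    have hs : (Rm ω k u t : M9 F) * xM ω = xM ω * Rm ω k u t := by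
      have e' : ((Rm ω k u t : M9 F) * xM ω) * g = (xM ω * Rm ω k u t) * g := by
        rw [mul_assoc, mul_assoc, ← hx, ← mul_assoc, ← e, mul_assoc, hxx, ← mul_assoc, hx, mul_assoc]
      exact (Units.mul_left_inj g).1 e'
    have hu : u.1 = 0 := by
      have e1 : (xM ω : M9 F) = Rm ω 0 0 (1, 0) := by simp [Rm, wp_zero, sh_zero, xM]
      rw [e1, Rm_mul hω, Rm_mul hω] at hs
      have := (Rm_injective hω hs).1
      simp [dot] at this
      exact this
    obtain ⟨u1, u2⟩ := u
    obtain rfl : u1 = 0 := hu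
    exact ⟨(u2, t.2), k, t.1, e⟩
  choose σ kk ii hσ using himg
  have hiter : ∀ (n : ℕ) (v : Pt), ∃ k i, ((g : M9 F) ^ n) * Bv ω v =
      Rm ω k (0, (σ^[n] v).1) (i, (σ^[n] v).2) * (g : M9 F) ^ n := by
    intro n
    induction n with
    | zero => exact fun v => ⟨0, 0, by rw [pow_zero, one_mul, mul_one]; rfl⟩
    | succ n ih =>
      intro v
      obtain ⟨k, i, e⟩ := ih v
      refine ⟨k + kk (σ^[n] v), ii (σ^[n] v) + i, ?_⟩
      rw [pow_succ', mul_assoc, e, ← mul_assoc, step_class hω hx (hσ _) k i, Function.iterate_succ_apply',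
        mul_assoc]
  have hper : ∀ v, σ^[p] v = v := by
    intro v
    obtain ⟨k, i, e⟩ := hiter p v
    rw [hp, one_mul, mul_one, Bv] at e
    obtain ⟨-, h1, h2⟩ := Rm_injective hω e
    exact (Prod.ext (Prod.ext_iff.1 h1).2.symm (Prod.ext_iff.1 h2).2.symm)
  have hbij : Function.Bijective σ := by
    have h1 : p = (p - 1) + 1 := by have := hH.seven; omega
    refine Finite.injective_iff_bijective.1 fun a b e => ?_
    have := congrArg (σ^[p - 1]) e
    rwa [← Function.iterate_succ_apply, ← Function.iterate_succ_apply, Nat.succ_eq_add_one, ← h1, hper, hper] at this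
  obtain ⟨π, hπ⟩ : ∃ π : Equiv.Perm Pt, ⇑π = σ := ⟨Equiv.ofBijective σ hbij, rfl⟩
  have hπp : π ^ p = 1 := Equiv.ext fun v => by
    rw [Equiv.Perm.coe_pow, hπ, hper]; rfl
  have h0 : π 0 = 0 := by
    rw [hπ]
    have e := hσ 0
    have e0 : (Bv ω (0 : Pt) : M9 F) = 1 := by rw [Bv]; exact Rm_zero
    rw [e0, mul_one] at e
    have e1 : (Rm ω (kk 0) (0, (σ 0).1) (ii 0, (σ 0).2) : M9 F) = Rm ω 0 0 0 := by
      rw [Rm_zero]
      exact (Units.mul_left_inj g).1 (by rw [one_mul]; exact e.symm)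
    obtain ⟨-, a, b⟩ := Rm_injective hω e1
    exact Prod.ext (Prod.ext_iff.1 a).2 (Prod.ext_iff.1 b).2
  have hneg : ∀ v, π (-v) = -π v := by
    intro v
    rw [hπ]
    have e : (g : M9 F) * (Bv ω v * Bv ω (-v)) =
        (Rm ω (kk v) (0, (σ v).1) (ii v, (σ v).2) * Rm ω (kk (-v)) (0, (σ (-v)).1) (ii (-v), (σ (-v)).2)) * g := by
      rw [← mul_assoc, hσ, mul_assoc, hσ, ← mul_assoc]
    rw [Bv, Bv, Rm_mul hω, Rm_mul hω] at e
    simp only [Prod.fst_neg, Prod.snd_neg, Prod.mk_add_mk, add_neg_cancel, add_zero, Prod.mk_zero_zero] at e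
    rw [Rm, sh_zero, one_mul, show dot (0 : Pt) = fun _ => (0 : ZMod 3) from funext zero_dot, dg_zero] at e
    rw [Matrix.mul_smul, mul_one] at e
    have e1 := (Units.mul_left_inj g).1 (show _ * (g : M9 F) = (wp ω _ • (1 : M9 F)) * g from by
      rw [← e, Matrix.smul_mul, one_mul])
    rw [← inR_scalar_eq] at e1
    obtain ⟨-, a, b⟩ := Rm_injective hω e1
    have a2 := (Prod.ext_iff.1 a).2
    have b2 := (Prod.ext_iff.1 b).2
    refine Prod.ext ?_ ?_
    · exact eq_neg_of_add_eq_zero_right a2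
    · exact eq_neg_of_add_eq_zero_right b2
  have hid := perm_fix hH.seven h0 hneg hπp
  have hZ := hσ (0, 1)
  rw [show σ (0, 1) = ((0, 1) : Pt) by rw [← hπ, hid]; rfl] at hZ
  obtain ⟨k, hk⟩ : ∃ k, k = kk (0, 1) := ⟨_, rfl⟩
  obtain ⟨i, hi⟩ : ∃ i, i = ii (0, 1) := ⟨_, rfl⟩
  rw [← hk, ← hi] at hZ
  have hn : ∀ n : ℕ, (g : M9 F) ^ n * Bv ω (0, 1) =
      Rm ω ((n : ZMod 3) * k) (0, 0) ((n : ZMod 3) * i, 1) * (g : M9 F) ^ n := by
    intro n
    induction n with
    | zero => simp [Bv]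
    | succ n ih =>
      rw [pow_succ', mul_assoc, ih, ← mul_assoc, show ((0 : ZMod 3), (0 : ZMod 3)) = (0, ((0, 1) : Pt).1) from rfl,
        step_class hω hx (v := (0, 1)) (w := (0, 1)) hZ ((n : ZMod 3) * k) ((n : ZMod 3) * i), mul_assoc]
      congr 2 <;> push_cast <;> ring_nf
  have e := hn p
  rw [hp, one_mul, mul_one, Bv] at e
  obtain ⟨a, -, b⟩ := Rm_injective hω e
  have hp3 : (p : ZMod 3) ≠ 0 := fun h => by
    have := (ZMod.natCast_eq_zero_iff _ _).1 h
    have := (Nat.prime_dvd_prime_iff_eq Nat.prime_three hH.prime).1 this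
    have := hH.seven
    omega
  have hk0 : k = 0 := (mul_eq_zero.1 a.symm).resolve_left hp3
  have hi0 : i = 0 := (mul_eq_zero.1 (Prod.ext_iff.1 b).1.symm).resolve_left hp3
  rw [hk0, hi0] at hZ
  have hB : (Bv ω (0, 1) : M9 F) = dg ω (dot (0, 1)) := by
    rw [Bv, Rm, wp_zero, one_smul, Prod.mk_zero_zero, sh_zero, one_mul]
  have hcomm : (g : M9 F) * dg ω (dot (0, 1)) = dg ω (dot (0, 1)) * g := by
    rw [← hB]; exact hZ
  refine hH.cent_x_P2_pow_p hN hg hx ?_ hp
  rw [P2_eq_diagonal]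
  ext s t
  rw [mul_diagonal, diagonal_mul]
  by_cases e0 : (g : M9 F) s t = 0
  · simp [e0]
  have := congrFun (congrFun hcomm s) t
  rw [dg, mul_diagonal, diagonal_mul, mul_comm] at this
  have h2 : t.2 = s.2 := by simpa [dot] using wp_injective hω (mul_right_cancel₀ e0 this)
  rw [h2, mul_comm]

/-- The centraliser of the central generator has no elements of order `p`. -/
theorem cent_x_pow_p (hN : NoTr H) {g : (M9 F)ˣ} (hg : g ∈ H) (hx : (g : M9 F) * xM ω = xM ω * g)
    (hp : (g : M9 F) ^ p = 1) : g = 1 := hH.nor_x_pow_p hN hg (hH.nor_cent_x hN hg hx) hx hp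

end Amb

end CfsgLib.Classical.QutritMax
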