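import Cfsg.Agent.Lib.Classical.QutritMax.Elems
import Cfsg.Agent.Lib.Classical.AschForm.SymTypeData

/-!
# Groups of symplectic type in dimension nine are conjugate to the standard group

A hyperbolic system of generators and an eigenvector of its diagonal half give the coordinates.
-/

set_option autoImplicit false
set_option linter.unusedSectionVars false
set_option linter.unusedSimpArgs false

namespace CfsgLib.Classical.QutritMax

open Matrix Cfsg Cfsg.Geo CfsgLib.Classical.AschPrime CfsgLib.Classical.AschGen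

variable {F : Type*} [Field F] {ω : F}

theorem sum_roots (h : Root ω) (k : ZMod 3) :
    1 + wp ω k + wp ω k * wp ω k = if k = 0 then (3 : F) else 0 := by
  rcases zmod3_cases k with rfl | rfl | rfl
  · simp [wp_zero]; norm_num
  · rw [if_neg (by decide), wp_one]; linear_combination h.eq
  · rw [if_neg (by decide), wp_two]; linear_combination (1 - ω + ω * ω) * h.eq

theorem eq_wp_of_cube (h : Root ω) {c : F} (hc : c ^ 3 = 1) : ∃ k, c = wp ω k := by
  have : (c - 1) * (c - ω) * (c - ω * ω) = 0 := by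
    linear_combination hc + (c * ω - c * c - (ω - 1)) * h.eq
  rcases mul_eq_zero.1 this with h1 | h1
  · rcases mul_eq_zero.1 h1 with h2 | h2
    · exact ⟨0, by rw [wp_zero]; exact sub_eq_zero.1 h2⟩
    · exact ⟨1, by rw [wp_one]; exact sub_eq_zero.1 h2⟩
  · exact ⟨2, by rw [wp_two]; exact sub_eq_zero.1 h1⟩

theorem Rm_apply (h : Root ω) (k : ZMod 3) (u v i j : Pt) :
    (Rm ω k u v : M9 F) i j = if i = j + u then wp ω (k + dot v j) else 0 := by
  rw [Rm, Matrix.smul_apply, dg, mul_diagonal, sh_apply, smul_eq_mul]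
  split_ifs with e
  · rw [one_mul, wp_add h]
  · simp

theorem Rm_inj (h : Root ω) {k k' : ZMod 3} {u v u' v' : Pt}
    (e : (Rm ω k u v : M9 F) = Rm ω k' u' v') : k = k' ∧ u = u' ∧ v = v' := by
  have hu : u = u' := by
    have := congrFun (congrFun e u) 0
    rw [Rm_apply h, Rm_apply h, zero_add, zero_add, if_pos rfl] at this
    by_contra hne
    rw [if_neg hne] at this
    exact wp_ne_zero h _ this
  subst hu
  have key : ∀ j : Pt, k + dot v j = k' + dot v' j := fun j => by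
    have := congrFun (congrFun e (j + u)) j
    rw [Rm_apply h, Rm_apply h, if_pos rfl, if_pos rfl] at this
    exact wp_injective h this
  have hk : k = k' := by simpa [dot] using key 0
  subst hk
  exact ⟨rfl, rfl, Prod.ext (by simpa [dot] using key (1, 0)) (by simpa [dot] using key (0, 1))⟩

/-- Matrices commuting up to the power of `ω` with exponent `k`. -/
def Tw {n : ℕ} (ω : F) (k : ZMod 3) (x y : Matrix (Fin n) (Fin n) F) : Prop := x * y = wp ω k • (y * x)

section Tw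

variable {n : ℕ} {x y z : Matrix (Fin n) (Fin n) F} {i j : ZMod 3}

theorem Tw.mul_right (h : Root ω) (h1 : Tw ω i x y) (h2 : Tw ω j x z) : Tw ω (i + j) x (y * z) := by
  rw [Tw, ← mul_assoc, h1, Matrix.smul_mul, mul_assoc y x z, h2, Matrix.mul_smul, smul_smul, ← wp_add h,
    mul_assoc]

theorem Tw.flip (h : Root ω) (h1 : Tw ω i x y) : Tw ω (-i) y x := by
  rw [Tw, h1, smul_smul, mul_comm (wp ω (-i)), wp_mul_neg h, one_smul]

theorem tw_one (x : Matrix (Fin n) (Fin n) F) : Tw ω 0 x 1 := by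
  rw [Tw, mul_one, one_mul, wp_zero, one_smul]

theorem Tw.pow (h : Root ω) (h1 : Tw ω i x y) (m : ℕ) : Tw ω (m * i) x (y ^ m) := by
  induction m with
  | zero => rw [Nat.cast_zero, zero_mul, pow_zero]; exact tw_one x
  | succ m ih => rw [Nat.cast_succ, add_mul, one_mul, pow_succ]; exact ih.mul_right h h1

theorem Tw.smul_left (h1 : Tw ω i x y) (c : F) : Tw ω i (c • x) y := by
  rw [Tw, Matrix.smul_mul, h1, Matrix.mul_smul, smul_comm]

theorem Tw.smul_right (h1 : Tw ω i x y) (c : F) : Tw ω i x (c • y) := by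
  rw [Tw, Matrix.mul_smul, h1, Matrix.smul_mul, smul_comm]

end Tw

/-- The hypotheses on the set of matrices of the group. -/
structure TwSystem (ω : F) (R : Set (Matrix (Fin 9) (Fin 9) F)) : Prop where
  root : Root ω
  one_mem : (1 : Matrix (Fin 9) (Fin 9) F) ∈ R
  mul_mem : ∀ x ∈ R, ∀ y ∈ R, x * y ∈ R
  scalar_mem : ∀ k, wp ω k • (1 : Matrix (Fin 9) (Fin 9) F) ∈ R
  cube : ∀ x ∈ R, x * x * x = 1
  tw : ∀ x ∈ R, ∀ y ∈ R, ∃ k, Tw ω k x y
  central : ∀ x ∈ R, (∀ y ∈ R, x * y = y * x) → ∃ k, x = wp ω k • (1 : Matrix (Fin 9) (Fin 9) F)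
  card : R.ncard = 243

namespace TwSystem

variable {R : Set (Matrix (Fin 9) (Fin 9) F)} (hS : TwSystem ω R)
include hS

local notation "M" => Matrix (Fin 9) (Fin 9) F

theorem pow_mem {x : M} (hx : x ∈ R) (m : ℕ) : x ^ m ∈ R := by
  induction m with
  | zero => rw [pow_zero]; exact hS.one_mem
  | succ m ih => rw [pow_succ]; exact hS.mul_mem _ ih _ hx

theorem smul_mem {x : M} (hx : x ∈ R) (k : ZMod 3) : wp ω k • x ∈ R := by
  simpa [Matrix.smul_mul] using hS.mul_mem _ (hS.scalar_mem k) _ hx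

theorem exists_partner {x : M} (hx : x ∈ R) (hns : ¬ ∃ k, x = wp ω k • (1 : M)) :
    ∃ y ∈ R, Tw ω 1 x y := by
  obtain ⟨y, hy, hne⟩ : ∃ y ∈ R, x * y ≠ y * x := by
    by_contra hc
    push Not at hc
    exact hns (hS.central x hx hc)
  obtain ⟨k, hk⟩ := hS.tw x hx y hy
  rcases zmod3_cases k with rfl | rfl | rfl
  · exact absurd (by rw [hk, wp_zero, one_smul]) hne
  · exact ⟨y, hy, hk⟩
  · exact ⟨y ^ 2, hS.pow_mem hy 2, by simpa [show (2 : ZMod 3) * 2 = 1 by decide] using hk.pow hS.root 2⟩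

/-- Correcting a member to commute with a given pair. -/
theorem correct {d s r : M} (hds : Tw ω 1 d s) (hd : d ∈ R) (hs : s ∈ R) (hr : r ∈ R) :
    ∃ a b : ℕ, Tw ω 0 d (r * d ^ a * s ^ b) ∧ Tw ω 0 s (r * d ^ a * s ^ b) ∧ r * d ^ a * s ^ b ∈ R := by
  obtain ⟨i, hi⟩ := hS.tw d hd r hr
  obtain ⟨j, hj⟩ := hS.tw s hs r hr
  refine ⟨j.val, (2 * i).val, ?_, ?_, hS.mul_mem _ (hS.mul_mem _ hr _ (hS.pow_mem hd _)) _ (hS.pow_mem hs _)⟩
  · have hdd : Tw ω 0 d d := by rw [Tw, wp_zero, one_smul]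
    have := (hi.mul_right hS.root (hdd.pow hS.root j.val)).mul_right hS.root (hds.pow hS.root (2 * i).val)
    rwa [mul_zero, add_zero, mul_one, ZMod.natCast_zmod_val,
      (show ∀ i : ZMod 3, i + 2 * i = 0 by decide) i] at this
  · have hss : Tw ω 0 s s := by rw [Tw, wp_zero, one_smul]
    have := (hj.mul_right hS.root ((hds.flip hS.root).pow hS.root j.val)).mul_right hS.root
      (hss.pow hS.root (2 * i).val)
    rwa [mul_zero, add_zero, ZMod.natCast_zmod_val,
      show j + j * -1 = (0 : ZMod 3) by ring] at this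

/-- A hyperbolic system of generators. -/
theorem exists_gens : ∃ d1 ∈ R, ∃ s1 ∈ R, ∃ d2 ∈ R, ∃ s2 ∈ R,
    Tw ω 1 d1 s1 ∧ Tw ω 1 d2 s2 ∧ Tw ω 0 d1 d2 ∧ Tw ω 0 d1 s2 ∧ Tw ω 0 s1 d2 ∧ Tw ω 0 s1 s2 := by
  classical
  obtain ⟨d, hd, hdns⟩ : ∃ d ∈ R, ¬ ∃ k, d = wp ω k • (1 : M) := by
    by_contra hc
    push Not at hc
    have hle : R.ncard ≤ (Finset.univ.image fun k : ZMod 3 => wp ω k • (1 : M)).card := by
      rw [← Set.ncard_coe_finset]
      refine Set.ncard_le_ncard (fun x hx => ?_) (Finset.finite_toSet _)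
      obtain ⟨k, rfl⟩ := hc x hx
      simp
    have h3 := hle.trans Finset.card_image_le
    rw [hS.card, Finset.card_univ, ZMod.card] at h3
    omega
  obtain ⟨s, hs, hds⟩ := hS.exists_partner hd hdns
  -- the centraliser of the first pair is not scalar
  obtain ⟨d2, hd2, hd2a, hd2b, hd2ns⟩ :
      ∃ x ∈ R, Tw ω 0 d x ∧ Tw ω 0 s x ∧ ¬ ∃ k, x = wp ω k • (1 : M) := by
    by_contra hc
    push Not at hc
    let f : ZMod 3 × ZMod 3 × ZMod 3 → M := fun t => wp ω t.1 • (s ^ t.2.1.val * d ^ t.2.2.val)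
    have hsub : R ⊆ Set.range f := by
      intro r hr
      obtain ⟨a, b, h1, h2, h3⟩ := hS.correct hds hd hs hr
      obtain ⟨k, hk⟩ := hc _ h3 h1 h2
      have hinv : ∀ x ∈ R, ∀ m : ℕ, x ^ m * x ^ ((-(m : ZMod 3)).val) = 1 := by
        intro x hx m
        have h3' : x ^ 3 = 1 := by rw [pow_succ, pow_two]; exact hS.cube x hx
        obtain ⟨q, hq⟩ : 3 ∣ m + (-(m : ZMod 3)).val := by
          rw [← ZMod.natCast_eq_zero_iff, Nat.cast_add, ZMod.natCast_zmod_val, add_neg_cancel]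
        rw [← pow_add, hq, pow_mul, h3', one_pow]
      refine ⟨(k, -(b : ZMod 3), -(a : ZMod 3)), ?_⟩
      calc wp ω k • (s ^ (-(b : ZMod 3)).val * d ^ (-(a : ZMod 3)).val)
          = (r * d ^ a * s ^ b) * (s ^ (-(b : ZMod 3)).val * d ^ (-(a : ZMod 3)).val) := by
            rw [hk, Matrix.smul_mul, one_mul]
        _ = r * (d ^ a * ((s ^ b * s ^ (-(b : ZMod 3)).val) * d ^ (-(a : ZMod 3)).val)) := by
            simp only [mul_assoc]
        _ = r := by rw [hinv s hs, one_mul, hinv d hd, mul_one]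
    have := (Set.ncard_le_ncard hsub (Set.finite_range f)).trans
      ((Set.ncard_image_le (f := f) (s := Set.univ) Set.finite_univ).trans_eq' (by rw [Set.image_univ]))
    simp [hS.card] at this
  obtain ⟨y, hy, hd2y⟩ := hS.exists_partner hd2 hd2ns
  obtain ⟨a, b, h1, h2, h3⟩ := hS.correct hds hd hs hy
  have h4 : Tw ω 1 d2 (y * d ^ a * s ^ b) := by
    have := (hd2y.mul_right hS.root ((hd2a.flip hS.root).pow hS.root a)).mul_right hS.root
      ((hd2b.flip hS.root).pow hS.root b)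
    simpa using this
  exact ⟨d, hd, s, hs, d2, hd2, _, h3, hds, h4, hd2a, h1, hd2b, h2⟩

/-- An eigenvector kept in an eigenspace. -/
theorem exists_eigen {d : M} (hd : d ∈ R) {v : Fin 9 → F} (hv : v ≠ 0) :
    ∃ k : ZMod 3, ∃ w, w ≠ 0 ∧ (wp ω k • d) *ᵥ w = w ∧
      ∀ x : M, x * d = d * x → x *ᵥ v = v → x *ᵥ w = w := by
  let W : ZMod 3 → Fin 9 → F := fun k => v + (wp ω k • d) *ᵥ v + (wp ω k • d) *ᵥ ((wp ω k • d) *ᵥ v)
  obtain ⟨k, hk⟩ : ∃ k, W k ≠ 0 := by
    by_contra hc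
    push Not at hc
    refine hv (smul_right_injective _ hS.root.three ?_)
    show (3 : F) • v = (3 : F) • 0
    rw [smul_zero, ← show W 0 + W 1 + W 2 = (3 : F) • v by
      simp only [W, smul_mulVec, mulVec_smul, wp_zero, wp_one, wp_two]
      match_scalars <;> grind [hS.root.eq]]
    rw [hc, hc, hc]; simp
  refine ⟨k, W k, hk, ?_, fun x hx hxv => ?_⟩
  · have h3 := hS.cube _ (hS.smul_mem hd k)
    simp only [W, mulVec_add, mulVec_mulVec, ← mul_assoc, h3, one_mulVec]
    abel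
  · have hc : x * (wp ω k • d) = (wp ω k • d) * x := by rw [Matrix.mul_smul, Matrix.smul_mul, hx]
    simp only [W, mulVec_add, hxv]
    simp only [mulVec_mulVec, ← mul_assoc, hc]
    simp only [mul_assoc, hc]
    simp only [← mul_assoc, ← mulVec_mulVec, hxv]

/-- The coordinates. -/
theorem exists_coords : ∃ (B : Matrix Pt (Fin 9) F) (B' : Matrix (Fin 9) Pt F),
    B * B' = 1 ∧ B' * B = 1 ∧ (∀ x ∈ R, InR ω (B * x * B')) ∧
      ∀ r, InR ω r → ∃ x ∈ R, B * x * B' = r := by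
  classical
  have hω := hS.root
  obtain ⟨d1₀, hd1₀, s1, hs1, d2₀, hd2₀, s2, hs2, t11, t22, tdd, t12, t21, tss⟩ := hS.exists_gens
  obtain ⟨k1, w, hw, hw1, -⟩ := hS.exists_eigen hd1₀ (v := Pi.single 0 1) (by simp)
  obtain ⟨k2, e, he, he2, hkeep⟩ := hS.exists_eigen hd2₀ hw
  set d1 := wp ω k1 • d1₀ with hd1def
  set d2 := wp ω k2 • d2₀ with hd2def
  have hd1 := hS.smul_mem hd1₀ k1
  have hd2 := hS.smul_mem hd2₀ k2
  have hcomm : ∀ {x y : M}, Tw ω 0 x y → x * y = y * x := fun h => by rw [h, wp_zero, one_smul]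
  have he1 : d1 *ᵥ e = e := hkeep d1 (hcomm (tdd.smul_left _)) hw1
  let b : Pt → Fin 9 → F := fun j => s1 ^ j.1.val *ᵥ (s2 ^ j.2.val *ᵥ e)
  have hcube : ∀ x ∈ R, x ^ 3 = 1 := fun x hx => by rw [pow_succ, pow_two]; exact hS.cube x hx
  have heig : ∀ (d : M) (i1 i2 : ZMod 3), Tw ω i1 d s1 → Tw ω i2 d s2 → d *ᵥ e = e →
      ∀ j : Pt, d *ᵥ b j = wp ω (j.1 * i1 + j.2 * i2) • b j := by
    intro d i1 i2 h1 h2 hde j
    have := (h1.pow hω j.1.val).mul_right hω (h2.pow hω j.2.val)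
    rw [ZMod.natCast_zmod_val, ZMod.natCast_zmod_val] at this
    simp only [b, mulVec_mulVec]
    rw [this, smul_mulVec, ← mulVec_mulVec, hde]
  have hb1 : ∀ j, d1 *ᵥ b j = wp ω j.1 • b j := fun j => by
    simpa using heig d1 1 0 (t11.smul_left _) (t12.smul_left _) he1 j
  have hb2 : ∀ j, d2 *ᵥ b j = wp ω j.2 • b j := fun j => by
    simpa using heig d2 0 1 (((t21.flip hω).smul_left _) |> fun h => by simpa using h) (t22.smul_left _) he2 j
  have hb0 : ∀ j, b j ≠ 0 := by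
    intro j h0
    apply he
    have e1 : ∀ x ∈ R, ∀ m : ℕ, m < 3 → ∀ u : Fin 9 → F, x ^ m *ᵥ u = 0 → u = 0 := by
      intro x hx m hm u hu
      have := congrArg (fun t => x ^ (3 - m) *ᵥ t) hu
      simp only [mulVec_mulVec, ← pow_add, mulVec_zero] at this
      rwa [show 3 - m + m = 3 by omega, hcube x hx, one_mulVec] at this
    exact e1 s2 hs2 _ j.2.val_lt _ (e1 s1 hs1 _ j.1.val_lt _ h0)
  have hli : LinearIndependent F b := by
    rw [Fintype.linearIndependent_iff]
    intro g hg j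
    have proj : ∀ (d : M) (c : Pt → ZMod 3), (∀ i, d *ᵥ b i = wp ω (c i) • b i) →
        ∀ g : Pt → F, ∑ i, g i • b i = 0 → ∑ i, (if c i = c j then g i else 0) • b i = 0 := by
      intro d c hd g hg
      have h1 := congrArg (fun t => (3 : F)⁻¹ •
        (t + (wp ω (-c j) • d) *ᵥ t + (wp ω (-c j) • d) *ᵥ ((wp ω (-c j) • d) *ᵥ t))) hg
      simp only [mulVec_sum, mulVec_smul, smul_mulVec, hd, smul_smul, ← Finset.sum_add_distrib, mulVec_zero,
        smul_zero, add_zero, Finset.smul_sum, ← add_smul] at h1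
      rw [← h1]
      refine Finset.sum_congr rfl fun i _ => ?_
      congr 1
      have hsr := sum_roots hω (c i - c j)
      rw [show c i - c j = -c j + c i by ring, wp_add hω] at hsr
      have h30 := hω.three
      by_cases he : c i = c j
      · rw [if_pos (by rw [he]; ring)] at hsr
        rw [if_pos he]
        field_simp
        linear_combination -g i * hsr
      · rw [if_neg (by intro h0; exact he (by linear_combination h0))] at hsr
        rw [if_neg he]
        field_simp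
        linear_combination -g i * hsr
    have h1 := proj d1 Prod.fst hb1 g hg
    have h2 := proj d2 Prod.snd hb2 _ h1
    rw [Finset.sum_eq_single j] at h2
    · simpa [hb0 j] using h2
    · intro i _ hij
      by_cases e2 : i.2 = j.2
      · have e1 : i.1 ≠ j.1 := fun e1 => hij (Prod.ext e1 e2)
        simp [e1]
      · simp [e2]
    · simp
  let bb : Module.Basis Pt F (Fin 9 → F) := basisOfLinearIndependentOfCardEqFinrank hli (by
    rw [Module.finrank_fin_fun, Fintype.card_prod, ZMod.card])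
  let pf := Pi.basisFun F (Fin 9)
  set B := bb.toMatrix pf with hB
  set B' := pf.toMatrix bb with hB'
  have hBB : B * B' = 1 := bb.toMatrix_mul_toMatrix_flip pf
  have hB'B : B' * B = 1 := pf.toMatrix_mul_toMatrix_flip bb
  have hcol : ∀ j, B' *ᵥ Pi.single j 1 = b j := fun j => by
    funext i
    rw [mulVec_single_one, Matrix.col_apply, hB', Module.Basis.toMatrix_apply, Pi.basisFun_repr,
      coe_basisOfLinearIndependentOfCardEqFinrank]
  have himg : ∀ {x : M} {r : M9 F}, (∀ j, x *ᵥ b j = B' *ᵥ (r *ᵥ Pi.single j 1)) → B * x * B' = r := by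
    intro x r hx
    have : x * B' = B' * r := Matrix.ext fun i j => by
      have := congrFun (hx j) i
      rwa [← hcol, mulVec_mulVec, mulVec_mulVec, mulVec_single_one, mulVec_single_one, Matrix.col_apply,
        Matrix.col_apply] at this
    rw [Matrix.mul_assoc, this, ← Matrix.mul_assoc, hBB, Matrix.one_mul]
  have hsh : ∀ (u j : Pt), B' *ᵥ ((sh u : M9 F) *ᵥ Pi.single j 1) = b (j + u) := by
    intro u j
    rw [show ((sh u : M9 F) *ᵥ Pi.single j 1) = Pi.single (j + u) (1 : F) from funext fun i => by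
      rw [mulVec_single_one, Matrix.col_apply, sh_apply, Pi.single_apply], hcol]
  have hdgc : ∀ (v j : Pt), B' *ᵥ (dg ω (dot v) *ᵥ Pi.single j (1 : F)) = wp ω (dot v j) • b j := by
    intro v j
    rw [show (dg ω (dot v) *ᵥ Pi.single j (1 : F)) = wp ω (dot v j) • Pi.single j (1 : F) from funext fun i => by
      rw [dg, mulVec_diagonal, Pi.smul_apply, smul_eq_mul, Pi.single_apply]
      split_ifs with e
      · rw [e]
      · simp, mulVec_smul, hcol]
  have hs12 : s1 * s2 = s2 * s1 := hcomm tss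
  have hshift : ∀ (x : M), x ∈ R → ∀ (u : Fin 9 → F) (a : ZMod 3),
      x *ᵥ (x ^ a.val *ᵥ u) = x ^ (a + 1).val *ᵥ u := by
    intro x hx u a
    rw [mulVec_mulVec, ← pow_succ']
    rcases zmod3_cases a with rfl | rfl | rfl
    · rfl
    · rfl
    · show x ^ 3 *ᵥ u = x ^ 0 *ᵥ u
      rw [hcube x hx, pow_zero]
  have i1 : B * s1 * B' = sh (1, 0) := himg fun j => by
    rw [hsh]; simp only [b, Prod.fst_add, Prod.snd_add, add_zero]; exact hshift s1 hs1 _ _
  have i2 : B * s2 * B' = sh (0, 1) := himg fun j => by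
    rw [hsh]; simp only [b, Prod.fst_add, Prod.snd_add, add_zero]
    rw [mulVec_mulVec, ← ((Commute.pow_left (show Commute s1 s2 from hs12) _).eq), ← mulVec_mulVec,
      hshift s2 hs2]
  have i3 : B * d1 * B' = dg ω (dot (1, 0)) := himg fun j => by rw [hdgc, hb1]; simp [dot]
  have i4 : B * d2 * B' = dg ω (dot (0, 1)) := himg fun j => by rw [hdgc, hb2]; simp [dot]
  have hφ : ∀ x y : M, B * x * B' * (B * y * B') = B * (x * y) * B' := fun x y => by
    rw [show B * x * B' * (B * y * B') = B * x * (B' * B) * y * B' by simp only [Matrix.mul_assoc], hB'B,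
      Matrix.mul_one, Matrix.mul_assoc B x y]
  let Q : M9 F → Prop := fun r => ∃ x ∈ R, B * x * B' = r
  have Qmul : ∀ r r', Q r → Q r' → Q (r * r') := fun r r' ⟨x, hx, e⟩ ⟨y, hy, e'⟩ =>
    ⟨x * y, hS.mul_mem _ hx _ hy, by rw [← hφ, e, e']⟩
  have Qone : Q 1 := ⟨1, hS.one_mem, by rw [Matrix.mul_one, hBB]⟩
  have Qsh : ∀ u : Pt, Q (sh u) := by
    rintro ⟨a, c⟩
    rw [show ((a, c) : Pt) = (a, 0) + (0, c) by simp, ← sh_mul]
    refine Qmul _ _ ?_ ?_
    · rcases zmod3_cases a with rfl | rfl | rfl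
      · rw [Prod.mk_zero_zero, sh_zero]; exact Qone
      · exact ⟨s1, hs1, i1⟩
      · rw [show ((2 : ZMod 3), (0 : ZMod 3)) = (1, 0) + (1, 0) by decide, ← sh_mul]
        exact Qmul _ _ ⟨s1, hs1, i1⟩ ⟨s1, hs1, i1⟩
    · rcases zmod3_cases c with rfl | rfl | rfl
      · rw [Prod.mk_zero_zero, sh_zero]; exact Qone
      · exact ⟨s2, hs2, i2⟩
      · rw [show ((0 : ZMod 3), (2 : ZMod 3)) = (0, 1) + (0, 1) by decide, ← sh_mul]
        exact Qmul _ _ ⟨s2, hs2, i2⟩ ⟨s2, hs2, i2⟩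
  have hd : ∀ u u' : Pt, dg ω (dot (u + u')) = dg ω (dot u) * dg ω (dot u') := fun u u' => by
    rw [dg_mul hω]; exact congrArg _ (funext fun t => add_dot u u' t)
  have hd0 : dg ω (dot 0) = (1 : M9 F) := by simp [dg, zero_dot, wp_zero]
  have Qdg : ∀ u : Pt, Q (dg ω (dot u)) := by
    rintro ⟨a, c⟩
    rw [show ((a, c) : Pt) = (a, 0) + (0, c) by simp, hd]
    refine Qmul _ _ ?_ ?_
    · rcases zmod3_cases a with rfl | rfl | rfl
      · rw [Prod.mk_zero_zero, hd0]; exact Qone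
      · exact ⟨d1, hd1, i3⟩
      · rw [show ((2 : ZMod 3), (0 : ZMod 3)) = (1, 0) + (1, 0) by decide, hd]
        exact Qmul _ _ ⟨d1, hd1, i3⟩ ⟨d1, hd1, i3⟩
    · rcases zmod3_cases c with rfl | rfl | rfl
      · rw [Prod.mk_zero_zero, hd0]; exact Qone
      · exact ⟨d2, hd2, i4⟩
      · rw [show ((0 : ZMod 3), (2 : ZMod 3)) = (0, 1) + (0, 1) by decide, hd]
        exact Qmul _ _ ⟨d2, hd2, i4⟩ ⟨d2, hd2, i4⟩
  have Qall : ∀ r, InR ω r → Q r := by
    rintro _ ⟨k, u, v, rfl⟩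
    obtain ⟨x, hx, e⟩ := Qmul _ _ (Qsh u) (Qdg v)
    exact ⟨wp ω k • x, hS.smul_mem hx k, by rw [Rm, ← e, Matrix.mul_smul, Matrix.smul_mul]⟩
  refine ⟨B, B', hBB, hB'B, ?_, Qall⟩
  choose f hf using fun t : ZMod 3 × Pt × Pt => Qall _ ⟨t.1, t.2.1, t.2.2, rfl⟩
  have hinj : Function.Injective f := fun t t' e => by
    obtain ⟨h1, h2, h3⟩ := Rm_inj hω ((hf t).2.symm.trans ((congrArg (fun x => B * x * B') e).trans (hf t').2))
    exact Prod.ext h1 (Prod.ext h2 h3)
  have hRfin : R.Finite := Set.finite_of_ncard_ne_zero (by rw [hS.card]; norm_num)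
  have heq : Set.range f = R := by
    refine Set.eq_of_subset_of_ncard_le (Set.range_subset_iff.2 fun t => (hf t).1) ?_ hRfin
    rw [hS.card, Set.ncard_range_of_injective hinj]
    simp
  intro x hx
  obtain ⟨t, rfl⟩ := heq.symm ▸ hx
  exact ⟨t.1, t.2.1, t.2.2, (hf t).2⟩

end TwSystem

/-- A group of symplectic type with centre of order three in dimension nine is conjugate to the standard group. -/
theorem exists_standard_of {F : Type*} [Field F] [Fintype F] {R : Subgroup (Matrix.GeneralLinearGroup (Fin 9) F)}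
    (hst : Cfsg.Geo.IsSymplecticTypeGroup 3 R) (habs : Cfsg.Geo.ActsAbsolutelyIrreducibly (Cfsg.Geo.matrixSet R))
    (hz : Nat.card (Subgroup.center R) = 3) (hdvd : 3 ∣ Nat.card F - 1) :
    ∃ ω : F, Root ω ∧ ∃ (B : Matrix Pt (Fin 9) F) (B' : Matrix (Fin 9) Pt F), B * B' = 1 ∧ B' * B = 1 ∧
      (∀ r : M9 F, InR ω r → ∃ x ∈ R, B * (x : Matrix (Fin 9) (Fin 9) F) * B' = r) ∧
      ∀ g : Matrix.GeneralLinearGroup (Fin 9) F, g ∈ Cfsg.Geo.subgroupNormalizer R ↔
        Nor ω (B * (g : Matrix (Fin 9) (Fin 9) F) * B') := by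
  classical
  have hT : SymType 3 R := AschForm.symType_of_data (by norm_num) hst habs
    (by rw [hz]; norm_num) (by rw [hz]; exact hdvd)
  obtain ⟨u, hu⟩ : ∃ u : Fˣ, orderOf u = 3 := by
    haveI := Fact.mk Nat.prime_three
    exact exists_prime_orderOf_dvd_card 3 (by
      rw [Fintype.card_units]
      rwa [Nat.card_eq_fintype_card] at hdvd)
  set ω : F := (u : F) with hωdef
  have hω3 : ω ^ 3 = 1 := by
    rw [hωdef, ← Units.val_pow_eq_pow_val, ← hu, pow_orderOf_eq_one, Units.val_one]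
  have hω1 : ω ≠ 1 := fun e => by
    have : u = 1 := Units.ext e
    rw [this, orderOf_one] at hu
    norm_num at hu
  have hroot : Root ω := ⟨mul_left_cancel₀ (sub_ne_zero.2 hω1) (by linear_combination hω3),
    by exact_mod_cast hT.natCast_ne⟩
  have hscal : ∀ k, ∃ z ∈ R, (z : Matrix (Fin 9) (Fin 9) F) = wp ω k • 1 := by
    intro k
    let z : GL (Fin 9) F := Units.map (Matrix.scalar (Fin 9) : F →+* _).toMonoidHom (u ^ k.val)
    have hz' : (z : Matrix (Fin 9) (Fin 9) F) = wp ω k • 1 := by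
      rw [scalar_unit, Units.val_pow_eq_pow_val]; rfl
    refine ⟨z, hT.mem_of_pow z ⟨_, rfl⟩ (Units.ext ?_), hz'⟩
    rw [Units.val_pow_eq_pow_val, hz', smul_pow, one_pow, show Nat.gcd 2 3 = 1 from rfl, mul_one,
      wp_pow_three hroot, one_smul, Units.val_one]
  set S : Set (Matrix (Fin 9) (Fin 9) F) := (fun x : GL (Fin 9) F => (x : Matrix (Fin 9) (Fin 9) F)) '' R
    with hSdef
  have hsys : TwSystem ω S := by
    refine ⟨hroot, ⟨1, R.one_mem, rfl⟩, ?_, fun k => ?_, ?_, ?_, ?_, ?_⟩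
    · rintro _ ⟨x, hx, rfl⟩ _ ⟨y, hy, rfl⟩
      exact ⟨x * y, R.mul_mem hx hy, rfl⟩
    · obtain ⟨z, hz1, hz2⟩ := hscal k
      exact ⟨z, hz1, hz2⟩
    · rintro _ ⟨x, hx, rfl⟩
      have := hT.pow_eq x hx
      rw [show 3 * Nat.gcd 2 3 = 3 from rfl, pow_succ, pow_two] at this
      exact congrArg Units.val this
    · rintro _ ⟨x, hx, rfl⟩ _ ⟨y, hy, rfl⟩
      set z := x * y * x⁻¹ * y⁻¹ with hzdef
      obtain ⟨c, hc'⟩ := (mem_scalars_iff _).1 (hT.comm x hx y hy)
      have hzR : z ∈ R := R.mul_mem (R.mul_mem (R.mul_mem hx hy) (R.inv_mem hx)) (R.inv_mem hy)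
      have hc3 := scalar_pow_eq_one (n := 9) (by norm_num) hc' (r := 3) (by
        simpa using hT.pow_eq z hzR)
      obtain ⟨k, hk⟩ := eq_wp_of_cube hroot hc3
      refine ⟨k, ?_⟩
      rw [Tw, ← hk, ← Units.val_mul, ← Units.val_mul, show x * y = z * (y * x) by rw [hzdef]; group,
        Units.val_mul, hc', Matrix.smul_mul, one_mul]
    · rintro _ ⟨x, hx, rfl⟩ hcom
      obtain ⟨c, hc'⟩ := full_commutant (by norm_num : 0 < 9) hT.full
        (M := (x : Matrix (Fin 9) (Fin 9) F)) fun y hy => hcom _ ⟨y, hy, rfl⟩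
      have hc3 := scalar_pow_eq_one (n := 9) (by norm_num) hc' (r := 3) (by simpa using hT.pow_eq x hx)
      obtain ⟨k, hk⟩ := eq_wp_of_cube hroot hc3
      exact ⟨k, by show (x : Matrix (Fin 9) (Fin 9) F) = _; rw [hc', hk]⟩
    · rw [hSdef, Set.ncard_image_of_injective _ Units.val_injective, ← Nat.card_coe_set_eq]
      exact (hT.card_eq (by norm_num)).trans (by rw [hz])
  obtain ⟨B, B', hBB, hB'B, hto, hfrom⟩ := hsys.exists_coords
  refine ⟨ω, hroot, B, B', hBB, hB'B, fun r hr => ?_, fun g => ?_⟩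
  · obtain ⟨_, ⟨x, hx, rfl⟩, e⟩ := hfrom r hr
    exact ⟨x, hx, e⟩
  have hφ : ∀ x y : Matrix (Fin 9) (Fin 9) F, B * x * B' * (B * y * B') = B * (x * y) * B' := fun x y => by
    rw [show B * x * B' * (B * y * B') = B * x * (B' * B) * y * B' by simp only [Matrix.mul_assoc], hB'B,
      Matrix.mul_one, Matrix.mul_assoc B x y]
  have hinj : ∀ {x y : Matrix (Fin 9) (Fin 9) F}, B * x * B' = B * y * B' → x = y := fun {x y} e => by
    have := congrArg (fun t => B' * t * B) e
    simpa [Matrix.mul_assoc, hB'B, ← Matrix.mul_assoc B' B] using this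
  constructor
  · intro hg r hr
    obtain ⟨_, ⟨x, hx, rfl⟩, rfl⟩ := hfrom r hr
    rw [subgroupNormalizer, Subgroup.mem_normalizer_iff] at hg
    refine ⟨_, hto _ ⟨_, (hg x).1 hx, rfl⟩, ?_⟩
    rw [hφ, hφ]
    show _ = B * (((g * x * g⁻¹ : GL (Fin 9) F) : Matrix (Fin 9) (Fin 9) F) *
      (g : Matrix (Fin 9) (Fin 9) F)) * B'
    rw [← Units.val_mul, ← Units.val_mul, inv_mul_cancel_right]
  · intro hN
    have hmaps : ∀ x ∈ R, g * x * g⁻¹ ∈ R := by
      intro x hx
      obtain ⟨s, hs, e⟩ := hN _ (hto _ ⟨x, hx, rfl⟩)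
      obtain ⟨_, ⟨y, hy, rfl⟩, rfl⟩ := hfrom s hs
      rw [hφ, hφ] at e
      have e' : g * x = y * g := Units.ext (by rw [Units.val_mul, Units.val_mul]; exact hinj e)
      rw [e', mul_inv_cancel_right]
      exact hy
    haveI : Finite R := inferInstance
    have hbij : Function.Bijective fun x : R => (⟨g * x * g⁻¹, hmaps x x.2⟩ : R) :=
      Finite.injective_iff_bijective.1 fun x y e => Subtype.ext (by
        have := congrArg Subtype.val e
        simpa using this)
    rw [subgroupNormalizer, Subgroup.mem_normalizer_iff]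
    refine fun x => ⟨hmaps x, fun hx => ?_⟩
    obtain ⟨⟨y, hy⟩, e⟩ := hbij.2 ⟨_, hx⟩
    have e' : g * y * g⁻¹ = g * x * g⁻¹ := congrArg Subtype.val e
    rwa [← mul_left_cancel (mul_right_cancel e')]

/-- The groups of the sixth class in dimension nine are conjugate to the standard group. -/
theorem exists_standard {F : Type*} [Field F] [Fintype F] {p : ℕ} (hp : p.Prime) (hc : Fintype.card F = p)
    (h3 : p % 3 = 1) {R : Subgroup (Matrix.GeneralLinearGroup (Fin 9) F)}
    (hR : Cfsg.Geo.IsLinearSymplecticTypeData 3 R) :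
    ∃ ω : F, Root ω ∧ ∃ (B : Matrix Pt (Fin 9) F) (B' : Matrix (Fin 9) Pt F), B * B' = 1 ∧ B' * B = 1 ∧
      ∀ g : Matrix.GeneralLinearGroup (Fin 9) F, g ∈ Cfsg.Geo.subgroupNormalizer R ↔
        Nor ω (B * (g : Matrix (Fin 9) (Fin 9) F) * B') := by
  have hz : Nat.card (Subgroup.center R) = 3 := by
    obtain ⟨q, e, -, -, (⟨-, -, hz, -⟩ | ⟨h, -⟩ | ⟨h, -⟩)⟩ := hR.field
    · exact hz
    · norm_num at h
    · norm_num at h
  obtain ⟨ω, hω, B, B', h1, h2, -, hiff⟩ := exists_standard_of hR.symplecticType hR.absIrred hz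
    (by have := hp.two_le; rw [Nat.card_eq_fintype_card, hc]; omega)
  exact ⟨ω, hω, B, B', h1, h2, hiff⟩

end CfsgLib.Classical.QutritMax
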