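import Cfsg.Agent.Lib.Classical.QutritMax.Rows

/-!
# The diagonal members of the group lie in the normaliser
-/

set_option autoImplicit false
set_option linter.unusedSectionVars false
set_option linter.unusedSimpArgs false

namespace CfsgLib.Classical.QutritMax

open Matrix
open scoped MatrixGroups

theorem line_table2 : ∀ w : Pt, w ≠ 0 → ∃ q : Pt,
    Function.Bijective (fun v : Pt => (v.1 * q.1 + v.2 * w.1, v.1 * q.2 + v.2 * w.2)) := by
  decide +kernel

theorem dual_table : ∀ w : Pt, w ≠ 0 → ∃ q r : Pt, dot w q = 0 ∧ dot w r = 1 ∧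
    Function.Bijective (fun v : Pt => (v.1 * q.1 + v.2 * r.1, v.1 * q.2 + v.2 * r.2)) := by
  decide +kernel

/-- The linear map with given columns. -/
noncomputable def linPerm (q r : Pt)
    (h : Function.Bijective (fun v : Pt => (v.1 * q.1 + v.2 * r.1, v.1 * q.2 + v.2 * r.2))) : Equiv.Perm Pt :=
  Equiv.ofBijective _ h

theorem linPerm_apply (q r : Pt) (h) (v : Pt) :
    linPerm q r h v = (v.1 * q.1 + v.2 * r.1, v.1 * q.2 + v.2 * r.2) := rfl

theorem linPerm_add (q r : Pt) (h) (a b : Pt) : linPerm q r h (a + b) = linPerm q r h a + linPerm q r h b := by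
  simp only [linPerm_apply, Prod.mk_add_mk, Prod.fst_add, Prod.snd_add]
  ext <;> ring

/-- The carry in the addition of two residues modulo three. -/
def carry (v : Pt) : ZMod 3 := if v.1.val + v.2.val < 3 then 0 else -1

theorem mb_carry : mb carry = 1 := by decide

set_option synthInstance.maxSize 2000 in
theorem line_table3 : ∀ x y z r s t o q : ZMod 3, 0 = x + o → 0 = y + q → 0 = z + r → 0 = s + t →
    x + x = z + s → y + y = z + t →
      o = x * 2 ∧ q = y * 2 ∧ z = x + y ∧ r = x * 2 + y * 2 ∧ s = x + y * 2 ∧ t = x * 2 + y := by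
  decide +kernel

variable {F : Type*} [Field F] {ω : F}

theorem diag_Zp_conj (α : Pt → F) : (Zp : M9 F) * diagonal α * Zp = diagonal (α ∘ negB) := by
  rw [← signed_negB, Matrix.smul_mul, Matrix.smul_mul, Matrix.mul_smul, smul_smul,
    show ((Equiv.Perm.sign negB : ℤ) : F) * ((Equiv.Perm.sign negB : ℤ) : F) = 1 by
      rcases Int.units_eq_one_or (Equiv.Perm.sign negB) with e | e <;> rw [e] <;> norm_num,
    one_smul, pm_mul_diagonal, mul_assoc, pm_mul]
  rw [show (negB * negB : Equiv.Perm Pt) = 1 by decide, pm_one, mul_one]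
  congr 1

theorem diag_x (α : Pt → F) : diagonal α * xM ω = xM ω * diagonal α := by
  rw [xM, dg, diagonal_mul_diagonal, diagonal_mul_diagonal]
  congr 1; funext v; ring

theorem Root.cube_cases (h : Root ω) {x : F} (hx : x ^ 3 = 1) : ∃ k, x = wp ω k := by
  have e : (x - 1) * ((x - ω) * (x - ω * ω)) = 0 := by
    linear_combination hx + (x - x ^ 2) * h.eq - h.pow_three + x * h.pow_three
  rcases mul_eq_zero.1 e with e | e
  · exact ⟨0, by rw [wp_zero]; exact sub_eq_zero.1 e⟩
  · rcases mul_eq_zero.1 e with e | e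
    · exact ⟨1, by rw [wp_one]; exact sub_eq_zero.1 e⟩
    · exact ⟨2, by rw [wp_two]; exact sub_eq_zero.1 e⟩

variable {p : ℕ} {H : Subgroup (M9 F)ˣ}

/-- The members commuting with the central generator and the reflection. -/
def CZ (ω : F) (H : Subgroup (M9 F)ˣ) : Subgroup (M9 F)ˣ where
  carrier := {g | g ∈ H ∧ (g : M9 F) * xM ω = xM ω * g ∧ (g : M9 F) * (Zp : M9 F) = (Zp : M9 F) * g}
  one_mem' := ⟨one_mem H, by simp, by simp⟩
  mul_mem' := fun {g k} hg hk => ⟨mul_mem hg.1 hk.1, by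
      rw [Units.val_mul]; exact (Commute.mul_left hg.2.1 hk.2.1 : _), by
      rw [Units.val_mul]; exact (Commute.mul_left hg.2.2 hk.2.2 : _)⟩
  inv_mem' := fun {g} hg => ⟨inv_mem hg.1, (Commute.units_inv_left hg.2.1 : _), (Commute.units_inv_left hg.2.2 : _)⟩

theorem CZ_mem_sub (h : Root ω) {g : (M9 F)ˣ} (hg : g ∈ CZ ω H) (a : ZMod 3) : g ∈ (plane a).sub := by
  refine (plane a).mem_sub_of_det (mul_plane_L h hg.2.1 hg.2.2 a) ?_
  intro h0
  have hi := (CZ ω H).inv_mem hg
  have e := congrArg Matrix.det ((plane a).mul_eq_one (mul_plane_L h hg.2.1 hg.2.2 a) (mul_plane_L h hi.2.1 hi.2.2 a))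
  rw [det_mul, h0, zero_mul, det_one] at e
  exact zero_ne_one e

namespace Amb

variable (hH : Amb ω p H)
include hH

theorem in_diag_comp {α : Pt → F} (h : In H (diagonal α)) {σ : Equiv.Perm Pt}
    (hσ : ∀ a b, σ (a + b) = σ a + σ b) : In H (diagonal (α ∘ σ)) := by
  obtain ⟨g, hg, eg⟩ := hH.in_signed hσ
  obtain ⟨x, hx, ex⟩ := h
  refine ⟨g⁻¹ * x * g, mul_mem (mul_mem (inv_mem hg) hx) hg, ?_⟩
  rw [Units.val_mul, Units.val_mul, mul_assoc, Units.inv_mul_eq_iff_eq_mul, ex, eg]
  simp only [Matrix.smul_mul, Matrix.mul_smul]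
  rw [pm_mul_diagonal, Function.comp_assoc, Equiv.self_comp_symm, Function.comp_id]

theorem in_diag_shift {α : Pt → F} (h : In H (diagonal α)) (u : Pt) : In H (diagonal fun w => α (w + u)) := by
  obtain ⟨g, hg, eg⟩ := hH.in_sh u
  obtain ⟨x, hx, ex⟩ := h
  refine ⟨g⁻¹ * x * g, mul_mem (mul_mem (inv_mem hg) hx) hg, ?_⟩
  rw [Units.val_mul, Units.val_mul, mul_assoc, Units.inv_mul_eq_iff_eq_mul, ex, eg]
  ext i j
  rw [diagonal_mul, mul_diagonal, sh_apply]
  by_cases e : i = j + u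
  · simp [e]
  · simp [e]

theorem ne_zero_of_in {α : Pt → F} (h : In H (diagonal α)) (v : Pt) : α v ≠ 0 := fun e => by
  have := hH.det_of_in h
  rw [det_diagonal, Finset.prod_eq_zero (Finset.mem_univ v) e] at this
  exact zero_ne_one this

theorem line_zero (hN : NoTr H) {α : Pt → F} (h : In H (diagonal α)) :
    (α (0, 0) * α (0, 0)) ^ 3 = (α (0, 1) * α (0, 2)) ^ 3 := by
  have hω := hH.root
  haveI := hH.char
  haveI : Fact p.Prime := ⟨hH.prime⟩
  haveI := hH.finite
  classical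
  haveI := Fintype.ofFinite F
  have h3 : (3 : F) ≠ 0 := hω.three
  obtain ⟨T, hT, eT⟩ := hH.exists_T20
  have hdetX : (blk (X3 ω)).det = 1 := by rw [det_blk, det_X3 hω, hω.pow_three]
  obtain ⟨U, hU, eU⟩ := hH.in_of_nor (nor_blk_X3 hω) hdetX
  obtain ⟨d, hd, ed⟩ := h.mul ((hH.in_Zp.mul h).mul hH.in_Zp)
  rw [diag_Zp_conj, diagonal_mul_diagonal] at ed
  have cP : ∀ B : Matrix (ZMod 3) (ZMod 3) F, B * -Par3 = -Par3 * B →
      blk B * (Zp : M9 F) = (Zp : M9 F) * blk B := fun B hB => by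
    rw [blk_eq_bd, Zp, bd_mul, bd_mul, funext fun _ => hB]
  have cPar : ∀ B : Matrix (ZMod 3) (ZMod 3) F, (∀ i j, B (-i) (-j) = B i j) → B * -Par3 = -Par3 * B := by
    intro B hB
    rw [mul_neg, neg_mul]
    congr 1
    ext i j
    have e1 : (B * Par3 : Matrix (ZMod 3) (ZMod 3) F) i j = B i (-j) := by
      rw [Matrix.mul_apply, Finset.sum_eq_single (-j)] <;> simp +contextual [Par3, neg_eq_iff_eq_neg]
    have e2 : (Par3 * B : Matrix (ZMod 3) (ZMod 3) F) i j = B (-i) j := by
      rw [Matrix.mul_apply, Finset.sum_eq_single (-i)]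
      · simp [Par3]
      · intro k _ hk
        rw [Par3, of_apply, if_neg fun e => hk (by rw [e, neg_neg]), zero_mul]
      · simp
    rw [e1, e2, ← hB (-i) j, neg_neg]
  have hTc : T ∈ CZ ω H := by
    refine ⟨hT, by rw [eT, tU_P2_zero, blk_eq_bd, bd_x], ?_⟩
    rw [eT, tU_P2_zero]
    refine cP _ (cPar _ fun i j => ?_)
    simp [Z3, diagonal_apply]
  have hUc : U ∈ CZ ω H := by
    refine ⟨hU, by rw [eU, blk_eq_bd, bd_x], ?_⟩
    rw [eU]
    refine cP _ (cPar _ fun i j => ?_)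
    simp [X3, J3, Matrix.one_apply]
  have hdc : d ∈ CZ ω H := by
    refine ⟨hd, by rw [ed, diag_x], ?_⟩
    rw [ed]
    have := diag_Zp_conj (fun v => α v * (α ∘ negB) v)
    calc diagonal (fun v => α v * (α ∘ negB) v) * (Zp : M9 F)
        = (Zp : M9 F) * ((Zp : M9 F) * diagonal (fun v => α v * (α ∘ negB) v) * Zp) := by
          rw [← mul_assoc, ← mul_assoc, Zp_mul_self, one_mul]
      _ = _ := by
          rw [this]
          congr 2
          funext v
          simp only [Function.comp_apply, show ∀ v, negB (negB v) = v by decide]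
          ring
  let G : Subgroup (GL (Fin 2) F) := ((CZ ω H).subgroupOf (plane (F := F) 0).sub).map (plane (F := F) 0).rho
  have mk : ∀ g ∈ CZ ω H, ∃ g' ∈ G, (g' : Matrix (Fin 2) (Fin 2) F) = planeMat (row (g : M9 F) 0) :=
    fun g hg => ⟨(plane (F := F) 0).rho ⟨g, CZ_mem_sub hω hg 0⟩, ⟨⟨g, CZ_mem_sub hω hg 0⟩, hg, rfl⟩,
      (plane (F := F) 0).rho_eq _ (mul_plane_L hω hg.2.1 hg.2.2 0)⟩
  obtain ⟨a, ha, ea⟩ := mk T hTc
  obtain ⟨b, hb, eb⟩ := mk U hUc
  obtain ⟨c, hc, ec⟩ := mk d hdc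
  have ea' : (a : Matrix (Fin 2) (Fin 2) F) = !![ω, 0; 0, 1] := by
    rw [ea, eT, tU_P2_zero, blk_eq_bd, row_bd]
    ext i j; fin_cases i <;> fin_cases j <;> simp [planeMat, Z3, diagonal_apply, show (1 : ZMod 3) ≠ 2 by decide,
      show (0 : ZMod 3) ≠ 1 by decide]
  have eb' : (b : Matrix (Fin 2) (Fin 2) F) = !![(2 + ω) / 3, 2 * (ω - 1) / 3; (ω - 1) / 3, (1 + 2 * ω) / 3] := by
    rw [eb, eU, blk_eq_bd, row_bd]
    ext i j; fin_cases i <;> fin_cases j <;> simp [planeMat, X3, J3, Matrix.one_apply,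
      show (1 : ZMod 3) ≠ 2 by decide, show (0 : ZMod 3) ≠ 1 by decide] <;> field_simp <;> ring
  have w3 : ω * ω * ω = 1 := by linear_combination hω.pow_three
  have cube : ∀ g : GL (Fin 2) F, (g : Matrix (Fin 2) (Fin 2) F) * g * g = 1 → ProjGenLinGroup.mk g ^ 3 = 1 := by
    intro g hg
    rw [← map_pow, show g ^ 3 = 1 from Units.ext (by rw [pow_succ, pow_two, Units.val_mul, Units.val_mul, hg]; rfl),
      map_one]
  have ha3 := cube a (by rw [ea']; ext i j; fin_cases i <;> fin_cases j <;> simp [w3])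
  have hb3 := cube b (by
    rw [eb']; ext i j; fin_cases i <;> fin_cases j <;> simp [Matrix.mul_apply, Fin.sum_univ_two] <;> field_simp <;>
      grind [hω.eq])
  have hd1 : ω - 1 ≠ 0 := sub_ne_zero.2 hω.ne_one
  have hne : ProjGenLinGroup.mk a * ProjGenLinGroup.mk b ≠ ProjGenLinGroup.mk b * ProjGenLinGroup.mk a := by
    intro e
    rw [← map_mul, ← map_mul] at e
    obtain ⟨l, hl⟩ := mk_eq_smul e
    rw [Units.val_mul, Units.val_mul, ea', eb'] at hl
    have e01 := congrFun (congrFun hl 0) 1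
    have e10 := congrFun (congrFun hl 1) 0
    simp [Matrix.mul_apply, Fin.sum_univ_two] at e01 e10
    have l1 : l = ω := by
      refine mul_right_cancel₀ (mul_ne_zero hH.two_ne hd1) ?_
      rcases e01 with e | e
      · rw [e]
      · exfalso; rcases e with e | e
        · rcases e with e | e
          exacts [hH.two_ne e, hd1 e]
        · exact h3 e
    rw [l1] at e10
    field_simp at e10
    exact hω.mul_self_ne_one (by linear_combination -e10)
  rcases dichotomy p hH.cast_surj ha hb (by rw [ea']; simp) (by rw [ea']; simp) (by rw [ea']; simp [hω.ne_one]) ha3 hb3 hne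
    with ⟨g, hg, l, c', hc', hgU⟩ | hsm
  · exfalso
    obtain ⟨x, hx, rfl⟩ := hg
    rw [(plane (F := F) 0).rho_eq x (mul_plane_L hω hx.2.1 hx.2.2 0)] at hgU
    exact hH.no_unip hN hx.1 hx.2.1 hx.2.2 hc' hgU
  · have ec' : (c : Matrix (Fin 2) (Fin 2) F) = !![α (0, 0) * α (0, 0), 0; 0, α (0, 1) * α (0, 2)] := by
      rw [ec, ed]
      ext i j; fin_cases i <;> fin_cases j <;> simp [planeMat, row_apply, diagonal_apply, negB, Prod.map,
        show (1 : ZMod 3) ≠ 2 by decide, show (0 : ZMod 3) ≠ 1 by decide, show -(1 : ZMod 3) = 2 by decide]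
    have hcomm : Commute (ProjGenLinGroup.mk c) (ProjGenLinGroup.mk a) := by
      refine Commute.map ?_ _
      refine Units.ext ?_
      rw [Units.val_mul, Units.val_mul, ea', ec']
      ext i j; fin_cases i <;> fin_cases j <;> simp [Matrix.mul_apply, Fin.sum_univ_two]; ring
    obtain ⟨l, hl⟩ := mk_eq_smul (g := c ^ 3) (u := 1) (by rw [map_pow, hsm.cent c hc hcomm, map_one])
    rw [Units.val_pow_eq_pow_val, ec', Units.val_one, pow_succ, pow_two] at hl
    have e00 := congrFun (congrFun hl 0) 0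
    have e11 := congrFun (congrFun hl 1) 1
    simp [Matrix.mul_apply, Fin.sum_univ_two] at e00 e11
    linear_combination e00 - e11

theorem line (hN : NoTr H) {α : Pt → F} (h : In H (diagonal α)) (u : Pt) {w : Pt} (hw : w ≠ 0) :
    (α u * α u) ^ 3 = (α (w + u) * α (-w + u)) ^ 3 := by
  obtain ⟨q, hq⟩ := line_table2 w hw
  have := hH.line_zero hN (hH.in_diag_comp (hH.in_diag_shift h u) (linPerm_add q w hq))
  simpa [linPerm_apply, show (2 : ZMod 3) = -1 by decide, show ((-w.1, -w.2) : Pt) = -w from rfl,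
    Prod.mk_zero_zero] using this

/-- Diagonal members are scalars times quadratic powers of the root. -/
theorem diag_quadr (hN : NoTr H) {α : Pt → F} (h : In H (diagonal α)) :
    ∃ (l : F) (f : Pt → ZMod 3), Quadr f ∧ l ^ 9 = 1 ∧ diagonal α = l • dg ω f := by
  have hω := hH.root
  have hne := hH.ne_zero_of_in h
  have nine : ∀ v, α v ^ 9 = α 0 ^ 9 := by
    intro v
    by_cases hv : v = 0
    · rw [hv]
    have e1 := hH.line hN h 0 hv
    have e2 := hH.line hN h v hv
    rw [add_zero, add_zero] at e1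
    have hvv : ∀ v : Pt, v + v = -v := by decide
    rw [neg_add_cancel, hvv] at e2
    refine mul_right_cancel₀ (pow_ne_zero 3 (hne (-v))) ?_
    linear_combination -(α 0 ^ 3 * α (-v) ^ 3) * e1 + (α v ^ 3 * α (-v) ^ 3) * e2
  -- cubes of the ratios
  have h0 : α 0 ≠ 0 := hne 0
  choose f hf using fun v => hω.cube_cases (x := (α v / α 0) ^ 3) (by
    rw [← pow_mul, div_pow, nine v, div_self (pow_ne_zero _ h0)])
  have hf3 : ∀ v, α v ^ 3 = wp ω (f v) * α 0 ^ 3 := fun v => by
    rw [← hf v, div_pow, div_mul_cancel₀ _ (pow_ne_zero _ h0)]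
  have hlin : ∀ u w, w ≠ 0 → f u + f u = f (w + u) + f (-w + u) := by
    intro u w hw
    refine wp_injective hω ?_
    rw [wp_add hω, wp_add hω]
    refine mul_right_cancel₀ (mul_ne_zero (pow_ne_zero 3 h0) (pow_ne_zero 3 h0)) ?_
    have e := hH.line hN h u hw
    rw [mul_pow, mul_pow, hf3 u, hf3 (w + u), hf3 (-w + u)] at e
    linear_combination e
  have hf0 : f 0 = 0 := wp_injective hω (by rw [← hf, div_self h0, one_pow, wp_zero])
  obtain ⟨c, hc⟩ : ∃ c : Pt, f = dot c := by
    refine ⟨(f (1, 0), f (0, 1)), funext fun v => ?_⟩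
    have l1 := hlin 0 (1, 0) (by decide)
    have l2 := hlin 0 (0, 1) (by decide)
    have l3 := hlin 0 (1, 1) (by decide)
    have l4 := hlin 0 (1, 2) (by decide)
    have l5 := hlin (1, 0) (0, 1) (by decide)
    have l6 := hlin (0, 1) (1, 0) (by decide)
    rw [hf0] at l1 l2 l3 l4
    simp only [add_zero, Prod.neg_mk, Prod.mk_add_mk, zero_add, neg_zero, show -(1 : ZMod 3) = 2 by decide,
      show -(2 : ZMod 3) = 1 by decide] at l1 l2 l3 l4 l5 l6
    obtain ⟨a, b⟩ := v
    obtain ⟨q1, q2, q3, q4, q5, q6⟩ := line_table3 (f (1, 0)) (f (0, 1)) (f (1, 1)) (f (2, 2)) (f (1, 2)) (f (2, 1))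
      (f (2, 0)) (f (0, 2)) l1 l2 l3 l4 l5 l6
    rcases zmod3_cases a with rfl | rfl | rfl <;> rcases zmod3_cases b with rfl | rfl | rfl <;>
      simp only [dot, mul_zero, mul_one, add_zero, zero_add, Prod.mk_zero_zero] <;>
      first | exact hf0 | rfl | assumption
  by_cases hc0 : c = 0
  · -- all cubes agree
    choose g hg using fun v => hω.cube_cases (x := α v / α 0) (by
      have := hf v; rwa [hc, hc0, zero_dot, wp_zero] at this)
    have e : diagonal α = α 0 • dg ω g := by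
      rw [dg, ← diagonal_smul]; congr 1; funext v
      rw [Pi.smul_apply, ← hg v, smul_eq_mul, mul_div_cancel₀ _ h0]
    obtain ⟨hq, hl⟩ := hH.quadr_of_in hN (l := α 0) (f := g) (e ▸ h)
    exact ⟨α 0, g, hq, hl, e⟩
  exfalso
  obtain ⟨q, r, hq0, hr1, hb⟩ := dual_table c hc0
  have hβ := hH.in_diag_comp h (linPerm_add q r hb)
  obtain ⟨β, hβdef⟩ : ∃ β, β = α ∘ linPerm q r hb := ⟨_, rfl⟩
  rw [← hβdef] at hβ
  have b0 : β 0 = α 0 := by
    rw [hβdef, Function.comp_apply, linPerm_apply]; simp [Prod.mk_zero_zero]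
  have hβ3 : ∀ v, β v ^ 3 = wp ω v.2 * β 0 ^ 3 := fun v => by
    rw [b0, hβdef, Function.comp_apply, hf3, hc, linPerm_apply]
    congr 2
    simp only [dot] at hq0 hr1 ⊢
    linear_combination v.1 * hq0 + v.2 * hr1
  obtain ⟨θ, hθ⟩ : ∃ θ, θ = β (0, 1) / β 0 := ⟨_, rfl⟩
  have hb0 : β 0 ≠ 0 := b0 ▸ h0
  have hθ3 : θ ^ 3 = ω := by
    rw [hθ, div_pow, hβ3, mul_div_assoc, div_self (pow_ne_zero 3 hb0), mul_one, wp_one]
  have hθ0 : θ ≠ 0 := fun e => hω.ne_zero (by rw [← hθ3, e]; ring)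
  choose k hk using fun v : Pt => hω.cube_cases (x := β v / (β 0 * θ ^ v.2.val)) (by
    have e : (θ ^ v.2.val) ^ 3 = wp ω v.2 := by rw [← pow_mul, mul_comm, pow_mul, hθ3, wp]
    rw [div_pow, mul_pow, hβ3, e, mul_comm, div_self (mul_ne_zero (pow_ne_zero 3 hb0) (wp_ne_zero hω _))])
  have hk' : ∀ v, β v = β 0 * θ ^ v.2.val * wp ω (k v) := fun v => by
    rw [← hk v, mul_div_cancel₀ _ (mul_ne_zero hb0 (pow_ne_zero _ hθ0))]
  -- the moment in the first coordinate
  let na : Equiv.Perm Pt := (Equiv.neg (ZMod 3)).prodCongr (Equiv.refl _)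
  have hna : ∀ a b, na (a + b) = na a + na b := fun a b => by ext <;> simp [na, add_comm]
  have inv_diag : ∀ {γ : Pt → F}, In H (diagonal γ) → In H (diagonal fun v => (γ v)⁻¹) := fun {γ} hγ =>
    hγ.inv (by
      rw [diagonal_mul_diagonal, ← diagonal_one]; congr 1; funext v
      exact mul_inv_cancel₀ (hH.ne_zero_of_in hγ v))
  have hP := (hH.in_diag_comp hβ hna).mul (inv_diag hβ)
  rw [diagonal_mul_diagonal] at hP
  have hP' : (fun v => (β ∘ na) v * (β v)⁻¹) = fun v => wp ω (k (na v) - k v) := by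
    funext v
    rw [Function.comp_apply, hk' (na v), hk' v, show (na v).2 = v.2 from rfl, ← wp_sub hω (k (na v)) (k v)]
    field_simp
    rw [mul_div_assoc, div_self (wp_ne_zero hω _), mul_one]
  rw [hP'] at hP
  have mP := hH.moments_eq_zero hN (l := 1) (f := fun v => k (na v) - k v) (by rw [one_smul]; exact hP)
  have hma : ma k = 0 := by
    have := mP.2.1
    simp only [ma, mul_sub, Finset.sum_sub_distrib] at this
    have e : ∑ v : Pt, v.1 * k (na v) = -ma k := by
      rw [ma, ← Equiv.sum_comp na, ← Finset.sum_neg_distrib]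
      exact Finset.sum_congr rfl fun v _ => by
        rw [show na (na v) = v by ext <;> simp [na]]; simp [na]
    rw [e, ma] at this
    have key : ∀ x : ZMod 3, -x - x = 0 → x = 0 := by decide
    exact key _ this
  -- the shear
  let sw : Equiv.Perm Pt := Equiv.prodComm _ _
  have hsw : ∀ a b, sw (a + b) = sw a + sw b := fun a b => rfl
  have hS := ((hH.in_diag_comp hβ shear_add).mul (inv_diag hβ)).mul (inv_diag (hH.in_diag_comp hβ hsw))
  rw [diagonal_mul_diagonal, diagonal_mul_diagonal] at hS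
  obtain ⟨m, hm⟩ : ∃ m : Pt → ZMod 3, m = fun v => carry v + k (shear v) - k v - k (sw v) := ⟨_, rfl⟩
  have hcarry : ∀ v : Pt, θ ^ (shear v).2.val * wp ω (-carry v) = θ ^ v.2.val * θ ^ v.1.val := by
    intro v
    obtain ⟨a, b⟩ := v
    show θ ^ (a + b).val * _ = _
    rw [← pow_add, ZMod.val_add, carry]
    have h1 := ZMod.val_lt a
    have h2 := ZMod.val_lt b
    dsimp only
    split_ifs with e
    · rw [Nat.mod_eq_of_lt e, neg_zero, wp_zero, mul_one, add_comm a.val]
    · rw [Nat.mod_eq_sub_mod (by omega), Nat.mod_eq_of_lt (by omega), neg_neg, wp_one]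
      rw [← hθ3, ← pow_add]
      congr 1
      omega
  have hS' : (fun v => (β ∘ shear) v * (β v)⁻¹ * ((β ∘ sw) v)⁻¹) = fun v => (β 0)⁻¹ * wp ω (m v) := by
    funext v
    rw [Function.comp_apply, Function.comp_apply, hk' (shear v), hk' v, hk' (sw v), show (sw v).2 = v.1 from rfl]
    have e1 := hcarry v
    have e2 : wp ω (m v) * (wp ω (k v) * (wp ω (k (sw v)) * wp ω (-carry v))) = wp ω (k (shear v)) := by
      rw [← wp_add hω, ← wp_add hω, ← wp_add hω, hm]; congr 1; ring
    have n1 := wp_ne_zero hω (k v)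
    have n2 := wp_ne_zero hω (k (sw v))
    have n3 := wp_ne_zero hω (-carry v)
    rw [← e2]
    field_simp
    linear_combination (wp ω (m v)) * e1
  rw [hS'] at hS
  have hS'' : In H ((β 0)⁻¹ • dg ω m) := by
    rw [dg, ← diagonal_smul]; exact hS
  have hmb := (hH.moments_eq_zero hN hS'').2.2
  rw [hm] at hmb
  simp only [mb, mul_sub, mul_add, Finset.sum_sub_distrib, Finset.sum_add_distrib] at hmb
  have e1 : ∑ v : Pt, v.2 * k (shear v) = mb k - ma k := by
    have := mb_comp k shear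
    rw [mb] at this
    rw [show ∑ v : Pt, v.2 * k (shear v) = ∑ v : Pt, v.2 * (k ∘ shear) v from rfl, this, mb, ma,
      ← Finset.sum_sub_distrib]
    exact Finset.sum_congr rfl fun v _ => sub_mul _ _ _
  have e2 : ∑ v : Pt, v.2 * k (sw v) = ma k := by
    have := mb_comp k sw
    rw [mb] at this
    rw [show ∑ v : Pt, v.2 * k (sw v) = ∑ v : Pt, v.2 * (k ∘ sw) v from rfl, this]
    rfl
  rw [show ∑ v : Pt, v.2 * carry v = 1 from mb_carry, e1, e2, hma, ← mb] at hmb
  simp at hmb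

end Amb

end CfsgLib.Classical.QutritMax
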