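import Cfsg.Agent.Lib.Classical.QutritMax.Setting

/-!
# Elements of the normaliser of the standard group
-/

set_option autoImplicit false
set_option linter.unusedSectionVars false
set_option linter.unusedSimpArgs false

namespace CfsgLib.Classical.QutritMax

open Matrix
open scoped Kronecker

variable {F : Type*} [Field F] {ω : F}

theorem sum3 {β : Type*} [AddCommMonoid β] (f : ZMod 3 → β) : ∑ i, f i = f 0 + f 1 + f 2 := Fin.sum_univ_three f

theorem sum9 {β : Type*} [AddCommMonoid β] (f : Pt → β) :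
    ∑ i, f i = f (0, 0) + f (0, 1) + f (0, 2) + (f (1, 0) + f (1, 1) + f (1, 2))
      + (f (2, 0) + f (2, 1) + f (2, 2)) := by
  rw [Fintype.sum_prod_type, sum3, sum3, sum3, sum3]

/-- Functions of degree at most two. -/
def Quadr (f : Pt → ZMod 3) : Prop :=
  ∃ c₀ c₁ c₂ c₃ c₄ c₅ : ZMod 3,
    f = fun w => c₀ + c₁ * w.1 + c₂ * w.2 + c₃ * (w.1 * w.1) + c₄ * (w.1 * w.2) + c₅ * (w.2 * w.2)

theorem Quadr.sum_eq_zero {f : Pt → ZMod 3} (hf : Quadr f) : ∑ v, f v = 0 := by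
  obtain ⟨c₀, c₁, c₂, c₃, c₄, c₅, rfl⟩ := hf
  have e : ∑ w : Pt, (1 : ZMod 3) = 0 ∧ ∑ w : Pt, w.1 = 0 ∧ ∑ w : Pt, w.2 = 0 ∧ ∑ w : Pt, w.1 * w.1 = 0 ∧
      ∑ w : Pt, w.1 * w.2 = 0 ∧ ∑ w : Pt, w.2 * w.2 = 0 := by decide
  obtain ⟨e0, e1, e2, e3, e4, e5⟩ := e
  have : ∀ c : ZMod 3, ∑ _w : Pt, c = c * ∑ _w : Pt, (1 : ZMod 3) := fun c => by rw [Finset.mul_sum]; simp
  simp only [Finset.sum_add_distrib, ← Finset.mul_sum, this c₀, e0, e1, e2, e3, e4, e5, mul_zero, add_zero]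

theorem pm_sh {σ : Equiv.Perm Pt} (hσ : ∀ a b, σ (a + b) = σ a + σ b) (u : Pt) :
    (pm σ * sh u : M9 F) = sh (σ u) * pm σ := by
  rw [sh, sh, pm_mul, pm_mul]
  congr 1
  ext w <;> simp [hσ]

theorem dg_mul_sh (f : Pt → ZMod 3) (u : Pt) : dg ω f * sh u = sh u * dg ω (fun w => f (w + u)) := by
  ext i j
  rw [dg, dg, diagonal_mul, mul_diagonal, sh_apply]
  split_ifs with e
  · rw [e, mul_one, one_mul]
  · simp

theorem pm_mul_dg (σ : Equiv.Perm Pt) (f : Pt → ZMod 3) : pm σ * dg ω f = dg ω (f ∘ σ.symm) * pm σ := by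
  rw [dg, pm_mul_diagonal]; rfl

theorem additive_eq_dot {f : Pt → ZMod 3} (hf : ∀ a b, f (a + b) = f a + f b) :
    f = dot (f (1, 0), f (0, 1)) := by
  have h0 : f (0, 0) = 0 := by
    have := hf 0 0
    rwa [add_zero, right_eq_add] at this
  have hl : ∀ a : ZMod 3, f (a, 0) = a * f (1, 0) := by
    intro a
    rcases zmod3_cases a with rfl | rfl | rfl
    · rw [zero_mul, h0]
    · rw [one_mul]
    · rw [show ((2 : ZMod 3), (0 : ZMod 3)) = (1, 0) + (1, 0) by decide, hf, two_mul]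
  have hr : ∀ a : ZMod 3, f (0, a) = a * f (0, 1) := by
    intro a
    rcases zmod3_cases a with rfl | rfl | rfl
    · rw [zero_mul, h0]
    · rw [one_mul]
    · rw [show ((0 : ZMod 3), (2 : ZMod 3)) = (0, 1) + (0, 1) by decide, hf, two_mul]
  funext ⟨a, b⟩
  rw [show ((a, b) : Pt) = (a, 0) + (0, b) by simp, hf, hl, hr, dot_add]
  simp only [dot]; ring

theorem det3 (A : Matrix (ZMod 3) (ZMod 3) F) :
    A.det = A 0 0 * A 1 1 * A 2 2 - A 0 0 * A 1 2 * A 2 1 - A 0 1 * A 1 0 * A 2 2 + A 0 1 * A 1 2 * A 2 0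
      + A 0 2 * A 1 0 * A 2 1 - A 0 2 * A 1 1 * A 2 0 := Matrix.det_fin_three A

variable (h : Root ω)
include h

theorem nor_dg {f : Pt → ZMod 3} (hf : Quadr f) : Nor ω (dg ω f) := by
  obtain ⟨c₀, c₁, c₂, c₃, c₄, c₅, rfl⟩ := hf
  have key : ∀ u : Pt, ∃ s, InR ω s ∧
      dg ω (fun w => c₀ + c₁ * w.1 + c₂ * w.2 + c₃ * (w.1 * w.1) + c₄ * (w.1 * w.2) + c₅ * (w.2 * w.2)) * sh u
        = s * dg ω (fun w => c₀ + c₁ * w.1 + c₂ * w.2 + c₃ * (w.1 * w.1) + c₄ * (w.1 * w.2) + c₅ * (w.2 * w.2)) := by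
    intro u
    refine ⟨Rm ω (c₁ * u.1 + c₂ * u.2 + c₃ * (u.1 * u.1) + c₄ * (u.1 * u.2) + c₅ * (u.2 * u.2)) u
      (2 * c₃ * u.1 + c₄ * u.2, c₄ * u.1 + 2 * c₅ * u.2), ⟨_, _, _, rfl⟩, ?_⟩
    rw [dg_mul_sh, Rm, Matrix.smul_mul, mul_assoc, dg_mul h, ← Matrix.mul_smul]
    congr 1
    rw [dg, dg, ← Matrix.diagonal_smul]
    congr 1
    funext w
    simp only [Pi.smul_apply, Pi.add_apply, smul_eq_mul, ← wp_add h, dot, Prod.fst_add, Prod.snd_add]
    congr 1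
    ring
  refine nor_of_gen h (key _) (key _) ⟨_, inR_dg (1, 0), ?_⟩ ⟨_, inR_dg (0, 1), ?_⟩ <;>
    rw [dg_mul h, dg_mul h, add_comm]

theorem det_dg_quadr {f : Pt → ZMod 3} (hf : Quadr f) : (dg ω f).det = 1 := by
  rw [det_dg h, hf.sum_eq_zero, wp_zero]

theorem nor_sh (u : Pt) : Nor ω (sh u : M9 F) := by
  refine nor_of_gen h ⟨_, inR_sh (1, 0), ?_⟩ ⟨_, inR_sh (0, 1), ?_⟩ ⟨wp ω (-dot (1, 0) u) • dg ω (dot (1, 0)), ?_, ?_⟩
    ⟨wp ω (-dot (0, 1) u) • dg ω (dot (0, 1)), ?_, ?_⟩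
  · rw [sh_mul, sh_mul, add_comm]
  · rw [sh_mul, sh_mul, add_comm]
  · exact ⟨-dot (1, 0) u, 0, (1, 0), by simp [Rm, sh_zero]⟩
  · rw [Matrix.smul_mul, dg_sh h, smul_smul, mul_comm (wp ω _), wp_mul_neg h, one_smul]
  · exact ⟨-dot (0, 1) u, 0, (0, 1), by simp [Rm, sh_zero]⟩
  · rw [Matrix.smul_mul, dg_sh h, smul_smul, mul_comm (wp ω _), wp_mul_neg h, one_smul]

theorem nor_pm {σ : Equiv.Perm Pt} (hσ : ∀ a b, σ (a + b) = σ a + σ b) : Nor ω (pm σ : M9 F) := by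
  have hd : ∀ v : Pt, InR ω (dg ω (dot v ∘ σ.symm)) := by
    intro v
    have hadd : ∀ a b, (dot v ∘ σ.symm) (a + b) = (dot v ∘ σ.symm) a + (dot v ∘ σ.symm) b := by
      intro a b
      have e : σ.symm (a + b) = σ.symm a + σ.symm b :=
        σ.injective (by simp only [Equiv.apply_symm_apply, hσ])
      simp only [Function.comp_apply, e, dot_add]
    rw [additive_eq_dot hadd]
    exact inR_dg _
  exact nor_of_gen h ⟨_, inR_sh _, pm_sh hσ _⟩ ⟨_, inR_sh _, pm_sh hσ _⟩ ⟨_, hd _, pm_mul_dg _ _⟩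
    ⟨_, hd _, pm_mul_dg _ _⟩

omit h in
theorem det_smul_sign (σ : Equiv.Perm Pt) :
    ((((Equiv.Perm.sign σ : ℤ) : F)) • (pm σ : M9 F)).det = 1 := by
  rw [Matrix.det_smul, det_pm, ← pow_succ, Fintype.card_prod, ZMod.card]
  rcases Int.units_eq_one_or (Equiv.Perm.sign σ) with e | e <;> rw [e] <;> norm_num

omit h in
theorem det_sh (u : Pt) : (sh u : M9 F).det = 1 := by
  have e3 : (sh u : M9 F) * sh u * sh u = 1 := by
    rw [sh_mul, sh_mul, ← sh_zero]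
    congr 1
    rcases zmod3_cases u.1 with e | e | e <;> rcases zmod3_cases u.2 with e' | e' | e' <;>
      ext <;> simp [e, e'] <;> decide
  have h3 := congrArg Matrix.det e3
  rw [det_one, det_mul, det_mul, sh, det_pm] at h3
  rcases Int.units_eq_one_or (Equiv.Perm.sign (Equiv.addRight u)) with e | e
  · rw [sh, det_pm, e]; norm_num
  · rw [sh, det_pm, e]; rw [e] at h3; simpa using h3

/-- A matrix acting on the second coordinate. -/
abbrev blk (A : Matrix (ZMod 3) (ZMod 3) F) : M9 F := (1 : Matrix (ZMod 3) (ZMod 3) F) ⊗ₖ A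

omit h in
theorem blk_apply (A : Matrix (ZMod 3) (ZMod 3) F) (i j : Pt) :
    blk A i j = if i.1 = j.1 then A i.2 j.2 else 0 := by
  simp [Matrix.kroneckerMap_apply, Matrix.one_apply]

omit h in
theorem blk_mul (A B : Matrix (ZMod 3) (ZMod 3) F) : blk A * blk B = blk (A * B) := by
  rw [← Matrix.mul_kronecker_mul, one_mul]

omit h in
theorem det_blk (A : Matrix (ZMod 3) (ZMod 3) F) : (blk A).det = A.det ^ 3 := by
  rw [Matrix.det_kronecker, det_one, one_pow, one_mul, ZMod.card]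

/-- The shift. -/
def S3 : Matrix (ZMod 3) (ZMod 3) F := of fun i j => if i = j + 1 then 1 else 0

/-- The diagonal generator. -/
def D3 (ω : F) : Matrix (ZMod 3) (ZMod 3) F := diagonal (wp ω)

/-- The transformation with eigenvalue `ω` at the coordinate zero. -/
def Z3 (ω : F) : Matrix (ZMod 3) (ZMod 3) F := diagonal fun i => if i = 0 then ω else 1

/-- The projection onto the fixed space of the shift. -/
def J3 : Matrix (ZMod 3) (ZMod 3) F := of fun _ _ => 3⁻¹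

/-- The transformation with eigenvalue `ω` on the fixed space of the shift. -/
def X3 (ω : F) : Matrix (ZMod 3) (ZMod 3) F := 1 + (ω - 1) • J3

/-- The element interchanging the two transformations. -/
def n3 (ω : F) : Matrix (ZMod 3) (ZMod 3) F := Z3 ω * X3 ω * Z3 ω

omit h in
theorem sh01 : (sh (0, 1) : M9 F) = blk S3 := by
  ext ⟨a, b⟩ ⟨c, d⟩
  rw [sh_apply, blk_apply, S3, of_apply]
  simp only [Prod.mk_add_mk, add_zero, Prod.mk.injEq]
  by_cases e : a = c <;> simp [e]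

omit h in
theorem sh10 : (sh (1, 0) : M9 F) = S3 ⊗ₖ (1 : Matrix (ZMod 3) (ZMod 3) F) := by
  ext ⟨a, b⟩ ⟨c, d⟩
  rw [sh_apply, Matrix.kroneckerMap_apply, S3, of_apply, Matrix.one_apply]
  simp only [Prod.mk_add_mk, add_zero, Prod.mk.injEq]
  by_cases e : b = d <;> simp [e]

omit h in
theorem dg01 : dg ω (dot (0, 1)) = blk (D3 ω) := by
  rw [blk, D3, ← Matrix.diagonal_one, Matrix.diagonal_kronecker_diagonal, dg]
  congr 1
  funext w
  simp [dot]

omit h in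
theorem dg10 : dg ω (dot (1, 0)) = (D3 ω) ⊗ₖ (1 : Matrix (ZMod 3) (ZMod 3) F) := by
  rw [D3, ← Matrix.diagonal_one, Matrix.diagonal_kronecker_diagonal, dg]
  congr 1
  funext w
  simp [dot]

theorem X3_S3 : X3 ω * S3 = (S3 : Matrix (ZMod 3) (ZMod 3) F) * X3 ω := by
  ext i j
  rcases zmod3_cases i with rfl | rfl | rfl <;> rcases zmod3_cases j with rfl | rfl | rfl <;>
    simp [X3, J3, S3, Matrix.mul_apply, sum3, Matrix.one_apply,
      show (2 : ZMod 3) + 1 = 0 by decide, show (1 : ZMod 3) + 1 = 2 by decide,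
      show (0 : ZMod 3) ≠ 2 by decide, show (2 : ZMod 3) ≠ 0 by decide, show (1 : ZMod 3) ≠ 2 by decide,
      show (2 : ZMod 3) ≠ 1 by decide]

theorem X3_D3 : X3 ω * D3 ω = (ω • (S3 * S3 * D3 ω)) * X3 ω := by
  have h3 : (3 : F) ≠ 0 := h.three
  ext i j
  rcases zmod3_cases i with rfl | rfl | rfl <;> rcases zmod3_cases j with rfl | rfl | rfl <;>
    simp [X3, J3, S3, D3, Matrix.mul_apply, sum3, Matrix.one_apply, wp_zero, wp_one, wp_two,
      show (2 : ZMod 3) + 1 = 0 by decide, show (1 : ZMod 3) + 1 = 2 by decide,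
      show (0 : ZMod 3) ≠ 2 by decide, show (2 : ZMod 3) ≠ 0 by decide, show (1 : ZMod 3) ≠ 2 by decide,
      show (2 : ZMod 3) ≠ 1 by decide] <;> field_simp <;>
    grind [h.eq]

theorem braid3 : Z3 ω * X3 ω * Z3 ω = X3 ω * Z3 ω * X3 ω := by
  have h3 : (3 : F) ≠ 0 := h.three
  ext i j
  rcases zmod3_cases i with rfl | rfl | rfl <;> rcases zmod3_cases j with rfl | rfl | rfl <;>
    simp [X3, J3, Z3, Matrix.mul_apply, sum3, Matrix.one_apply,
      show (0 : ZMod 3) ≠ 2 by decide, show (2 : ZMod 3) ≠ 0 by decide, show (1 : ZMod 3) ≠ 2 by decide,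
      show (2 : ZMod 3) ≠ 1 by decide] <;> field_simp <;>
    grind [h.eq]

theorem n3_Z3 : n3 ω * Z3 ω = X3 ω * n3 ω := by
  have hb := braid3 h
  calc n3 ω * Z3 ω = X3 ω * Z3 ω * X3 ω * Z3 ω := by rw [n3, hb]
    _ = X3 ω * n3 ω := by rw [n3]; simp only [mul_assoc]

omit h in
theorem det_Z3 : (Z3 ω).det = ω := by
  rw [Z3, det_diagonal, show ∀ f : ZMod 3 → F, ∏ i, f i = f 0 * f 1 * f 2 from Fin.prod_univ_three]
  simp [show (2 : ZMod 3) ≠ 0 by decide]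

theorem det_X3 : (X3 ω).det = ω := by
  have h3 : (3 : F) ≠ 0 := h.three
  rw [det3]
  simp [X3, J3, Matrix.one_apply, show (0 : ZMod 3) ≠ 2 by decide, show (2 : ZMod 3) ≠ 0 by decide,
    show (1 : ZMod 3) ≠ 2 by decide, show (2 : ZMod 3) ≠ 1 by decide]
  field_simp
  ring

theorem nor_blk_X3 : Nor ω (blk (X3 ω)) := by
  refine nor_of_gen h ⟨_, inR_sh (1, 0), ?_⟩ ⟨_, inR_sh (0, 1), ?_⟩ ⟨_, inR_dg (1, 0), ?_⟩
    ⟨ω • (blk S3 * blk S3 * dg ω (dot (0, 1))), ?_, ?_⟩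
  · simp only [sh10, ← Matrix.mul_kronecker_mul, one_mul, mul_one]
  · rw [sh01, blk_mul, blk_mul, X3_S3 h]
  · simp only [dg10, ← Matrix.mul_kronecker_mul, one_mul, mul_one]
  · have := ((inR_scalar (ω := ω) 1).mul h (((inR_sh (ω := ω) (0, 1)).mul h (inR_sh (0, 1))).mul h
      (inR_dg (0, 1))))
    rwa [Matrix.smul_mul, one_mul, wp_one, sh01] at this
  · rw [dg01, blk_mul, blk_mul, blk_mul, X3_D3 h, Matrix.smul_mul, Matrix.smul_mul, blk_mul, blk,
      Matrix.kronecker_smul]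

omit h in
theorem quadr_Z : Quadr (fun w : Pt => 1 - w.2 * w.2) :=
  ⟨1, 0, 0, 0, 0, -1, funext fun w => by ring⟩

omit h in
theorem blk_Z3 : blk (Z3 ω) = dg ω (fun w => 1 - w.2 * w.2) := by
  rw [blk, Z3, ← Matrix.diagonal_one, Matrix.diagonal_kronecker_diagonal, dg]
  congr 1
  funext w
  rcases zmod3_cases w.2 with e | e | e <;> simp [e, wp_zero, wp_one]
  · simp [show (2 : ZMod 3) ≠ 0 by decide, show (1 : ZMod 3) - 2 * 2 = 0 by decide, wp_zero]

theorem nor_blk_n3 : Nor ω (blk (n3 ω)) := by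
  rw [n3, ← blk_mul, ← blk_mul]
  exact ((blk_Z3 (ω := ω) ▸ nor_dg h quadr_Z).mul (nor_blk_X3 h)).mul (blk_Z3 (ω := ω) ▸ nor_dg h quadr_Z)

theorem det_blk_n3 : (blk (n3 ω)).det = 1 := by
  rw [det_blk, n3, det_mul, det_mul, det_Z3, det_X3 h, show ω * ω * ω = 1 by linear_combination h.pow_three,
    one_pow]

end CfsgLib.Classical.QutritMax
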