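import Cfsg.Agent.Lib.Classical.QutritMax.CentXPow

/-!
# Projections on a value of the first coordinate
-/

set_option autoImplicit false
set_option linter.unusedSectionVars false
set_option linter.unusedSimpArgs false

namespace CfsgLib.Classical.QutritMax

open Matrix

variable {F : Type*} [Field F] {ω : F} {p : ℕ} {H : Subgroup (M9 F)ˣ}

theorem eq_zero_of_trace_zero {ι : Type*} [Fintype ι] [DecidableEq ι] {E : Matrix ι ι F} (hE : E * E = E)
    (h0 : E.trace = 0) (hc : ∀ n : ℕ, 0 < n → n ≤ Fintype.card ι → (n : F) ≠ 0) : E = 0 := by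
  have hid : IsIdempotentElem (Matrix.toLin' E) := by
    show Matrix.toLin' E * Matrix.toLin' E = Matrix.toLin' E
    rw [Module.End.mul_eq_comp, ← Matrix.toLin'_mul, hE]
  have hp : LinearMap.IsProj (LinearMap.range (Matrix.toLin' E)) (Matrix.toLin' E) :=
    LinearMap.IsIdempotentElem.isProj_range (Matrix.toLin' E) hid
  have ht := hp.trace
  rw [Matrix.trace_toLin'_eq, h0] at ht
  have hle : Module.finrank F (LinearMap.range (Matrix.toLin' E)) ≤ Fintype.card ι := by
    refine (Submodule.finrank_le _).trans ?_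
    rw [Module.finrank_pi]
  have hzero : Module.finrank F (LinearMap.range (Matrix.toLin' E)) = 0 := by
    by_contra hne
    exact hc _ (Nat.pos_of_ne_zero hne) hle ht.symm
  exact Matrix.toLin'.injective (by rw [map_zero]; exact LinearMap.range_eq_bot.1 (Submodule.finrank_eq_zero.1 hzero))

/-- The projection on a value of the first coordinate. -/
def P1 (k : ZMod 3) : M9 F := diagonal fun v : Pt => if v.1 = k then (1 : F) else 0

theorem P1_idem (k : ZMod 3) : (P1 k : M9 F) * P1 k = P1 k := by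
  rw [P1, diagonal_mul_diagonal]; congr 1; funext v; split_ifs <;> simp

theorem bd_P1 (B : ZMod 3 → Matrix (ZMod 3) (ZMod 3) F) (k : ZMod 3) : bd B * P1 k = P1 k * bd B := by
  ext s t
  rw [P1, mul_diagonal, diagonal_mul, bd_apply]
  by_cases e : s.1 = t.1
  · simp [e, mul_comm]
  · simp [e]

theorem P1_mul_of_ne {i j : ZMod 3} (h : i ≠ j) : (P1 i : M9 F) * P1 j = 0 := by
  rw [P1, P1, diagonal_mul_diagonal, ← diagonal_zero]
  congr 1
  funext v
  by_cases e : v.1 = i <;> simp [e, h]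

theorem P1_single (k a b : ZMod 3) :
    (P1 k : M9 F) *ᵥ Pi.single (a, b) 1 = (if a = k then 1 else 0 : F) • (Pi.single (a, b) 1 : Pt → F) := by
  funext i
  rw [P1, mulVec_diagonal, Pi.smul_apply, Pi.single_apply, smul_eq_mul]
  by_cases e : i = (a, b)
  · subst e; simp
  · simp [e]

theorem comm_x_of_P1 (h : Root ω) {g : M9 F} {i j : ZMod 3} (hij : i ≠ j) (hi : g * P1 i = P1 i * g)
    (hj : g * P1 j = P1 j * g) : g * xM ω = xM ω * g := by
  ext s t
  rw [xM, dg, mul_diagonal, diagonal_mul]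
  by_cases e0 : g s t = 0
  · simp [e0]
  have key : ∀ k, g * P1 k = P1 k * g → (s.1 = k ↔ t.1 = k) := by
    intro k hk
    have := congrFun (congrFun hk s) t
    rw [P1, mul_diagonal, diagonal_mul] at this
    by_cases a : t.1 = k <;> by_cases b : s.1 = k <;> simp [a, b, e0] at this ⊢
    exact e0 this.symm
  have table : ∀ i j s t : ZMod 3, i ≠ j → (s = i ↔ t = i) → (s = j ↔ t = j) → s = t := by decide
  have := table i j s.1 t.1 hij (key i hi) (key j hj)
  simp [dot, this, mul_comm]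

theorem tU_P1 (k : ZMod 3) : tU ω (P1 k : M9 F) = dg ω (fun w : Pt => 1 - (w.1 - k) * (w.1 - k)) := by
  rw [P1, tU, dg, ← diagonal_smul, ← diagonal_one, diagonal_add]
  congr 1
  funext v
  simp only [Pi.smul_apply, smul_eq_mul]
  by_cases e : v.1 = k
  · rw [if_pos e, e, sub_self, mul_zero, sub_zero, wp_one]; ring
  · rw [if_neg e, mul_zero, add_zero]
    have key : ∀ a b : ZMod 3, a ≠ b → 1 - (a - b) * (a - b) = 0 := by decide
    rw [key _ _ e, wp_zero]

theorem quadr_P1 (k : ZMod 3) : Quadr (fun w : Pt => 1 - (w.1 - k) * (w.1 - k)) :=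
  ⟨1 - k * k, 2 * k, 0, -1, 0, 0, funext fun w => by ring⟩

/-- The signed negation of the first coordinate. -/
def Za : M9 F := ((Equiv.Perm.sign ((Equiv.neg (ZMod 3)).prodCongr (Equiv.refl (ZMod 3))) : ℤ) : F) •
  pm ((Equiv.neg (ZMod 3)).prodCongr (Equiv.refl (ZMod 3)))

theorem negA_add (a b : Pt) : ((Equiv.neg (ZMod 3)).prodCongr (Equiv.refl (ZMod 3))) (a + b)
    = ((Equiv.neg (ZMod 3)).prodCongr (Equiv.refl (ZMod 3))) a + ((Equiv.neg (ZMod 3)).prodCongr (Equiv.refl (ZMod 3))) b := by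
  ext <;> simp [add_comm]

theorem nor_Za (h : Root ω) : Nor ω (Za : M9 F) := (nor_pm h negA_add).smul _

theorem Za_P1 (k : ZMod 3) : (Za : M9 F) * P1 k = P1 (-k) * Za := by
  rw [Za, Matrix.smul_mul, Matrix.mul_smul, P1, P1, pm_mul_diagonal]
  congr 2
  congr 1
  funext v
  rw [Function.comp_apply]
  refine if_congr ?_ rfl rfl
  simp [neg_eq_iff_eq_neg]

theorem Za_mul_self : (Za : M9 F) * Za = 1 := by
  rw [Za, Matrix.smul_mul, Matrix.mul_smul, smul_smul, pm_mul,
    show ((Equiv.neg (ZMod 3)).prodCongr (Equiv.refl (ZMod 3))) * ((Equiv.neg (ZMod 3)).prodCongr (Equiv.refl (ZMod 3)))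
      = 1 by decide, pm_one,
    show ((Equiv.Perm.sign ((Equiv.neg (ZMod 3)).prodCongr (Equiv.refl (ZMod 3)))) : ℤ) = -1 by decide]
  simp

theorem comm_bd_of_gens (h : Root ω) {g : M9 F} (hx : g * xM ω = xM ω * g)
    (hZ : g * Bv ω (0, 1) = Bv ω (0, 1) * g) (hX : g * Bv ω (1, 0) = Bv ω (1, 0) * g) :
    ∃ c : ZMod 3 → F, g = bd fun a => c a • (1 : Matrix (ZMod 3) (ZMod 3) F) := by
  have eZ : (Bv ω (0, 1) : M9 F) = bd fun _ => D3 ω := by
    rw [Bv, Rm, wp_zero, one_smul, Prod.mk_zero_zero, sh_zero, one_mul, dg01, blk_eq_bd]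
  have eX : (Bv ω (1, 0) : M9 F) = bd fun _ => S3 := by
    rw [Bv, Rm, wp_zero, one_smul, Prod.mk_zero_zero,
      show dot (0 : Pt) = fun _ => (0 : ZMod 3) from funext zero_dot, dg_zero, mul_one, sh01, blk_eq_bd]
  rw [eZ] at hZ
  rw [eX] at hX
  refine ⟨fun a => row g a 0 0, ?_⟩
  conv_lhs => rw [bd_row h hx]
  congr 1
  funext a
  have e1 := congrArg (fun A => row A a) hZ
  have e2 := congrArg (fun A => row A a) hX
  rw [row_mul h hx (bd_x _), row_mul h (bd_x _) hx, row_bd] at e1 e2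
  have off : ∀ i j : ZMod 3, i ≠ j → row g a i j = 0 := fun i j hij => by
    have := congrFun (congrFun e1 i) j
    rw [D3, mul_diagonal, diagonal_mul] at this
    have : row g a i j * (wp ω j - wp ω i) = 0 := by linear_combination this
    exact (mul_eq_zero.1 this).resolve_right (sub_ne_zero.2 fun e => hij (wp_injective h e).symm)
  have hdiag : ∀ i, row g a (i + 1) (i + 1) = row g a i i := fun i => by
    have := congrFun (congrFun e2 (i + 1)) i
    simpa [S3, Matrix.mul_apply, Finset.sum_eq_single] using this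
  ext i j
  by_cases e : i = j
  · subst e
    rcases zmod3_cases i with rfl | rfl | rfl
    · simp
    · simpa using hdiag 0
    · simp [← hdiag 0, ← hdiag 1, show (1 : ZMod 3) + 1 = 2 by decide]
  · simp [e, off i j e]

namespace Amb

variable (hH : Amb ω p H)
include hH

theorem in_Za : In H (Za : M9 F) := hH.in_signed negA_add

theorem exists_T1 (k : ZMod 3) : ∃ T ∈ H, ((T : (M9 F)ˣ) : M9 F) = tU ω (P1 k) := by
  rw [tU_P1]; exact hH.in_dg_quadr (quadr_P1 k)

theorem trace_ne (E : Matrix (ZMod 3) (ZMod 3) F) (hE : E * E = E) (h0 : E.trace = 0) : E = 0 :=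
  eq_zero_of_trace_zero hE h0 fun n h1 h2 => hH.natCast_ne h1 (by
    rw [ZMod.card] at h2; have := hH.seven; omega)

/-- A normalising member fixing the first block moves the two lifts by powers of the central generator. -/
theorem lifts_of_fixed {t : (M9 F)ˣ} (ht : Nor ω (t : M9 F))
    (hfix : ∀ b, (t : M9 F) *ᵥ Pi.single ((0 : ZMod 3), b) 1 = Pi.single ((0 : ZMod 3), b) 1) (v : Pt) :
    ∃ i, (t : M9 F) * Bv ω v = (Bv ω v * dg ω (dot (i, 0))) * t := by
  have hω := hH.root
  obtain ⟨s, ⟨k, u, w, rfl⟩, e⟩ := ht (Bv ω v) ⟨_, _, _, rfl⟩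
  obtain ⟨u1, u2⟩ := u
  have hb : ∀ (k : ZMod 3) (u w : Pt) (c : ZMod 3), (Rm ω k u w : M9 F) *ᵥ Pi.single ((0 : ZMod 3), c) 1 =
      (wp ω k * wp ω (w.2 * c)) • (Pi.single (((0 : ZMod 3), c) + u) 1 : Pt → F) := by
    intro k u w c
    funext i
    rw [mulVec_single_one, Rm]
    show (wp ω k • (sh u * dg ω (dot w)) : M9 F) i (0, c) = _
    rw [Matrix.smul_apply, dg, mul_diagonal, sh_apply, Pi.smul_apply, Pi.single_apply, smul_eq_mul, smul_eq_mul]
    split_ifs <;> simp [dot]
  have key : ∀ c : ZMod 3, (Bv ω v : M9 F) *ᵥ Pi.single ((0 : ZMod 3), c) 1 =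
      (Rm ω k (u1, u2) w : M9 F) *ᵥ Pi.single ((0 : ZMod 3), c) 1 := by
    intro c
    have h1 := congrArg (fun A : M9 F => A *ᵥ Pi.single ((0 : ZMod 3), c) 1) e
    simp only [← mulVec_mulVec, hfix] at h1
    rw [← h1, Bv, hb, mulVec_smul]
    congr 1
    rw [Prod.mk_add_mk, add_zero, hfix]
  have k2 : ∀ c, wp ω (v.2 * c) • (Pi.single ((0, c + v.1) : Pt) (1 : F) : Pt → F) =
      (wp ω k * wp ω (w.2 * c)) • Pi.single ((u1, c + u2) : Pt) 1 := fun c => by
    have := key c
    rw [Bv, hb, hb, wp_zero, one_mul, Prod.mk_add_mk, Prod.mk_add_mk, add_zero, zero_add] at this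
    exact this
  have hu : ((0, 0 + v.1) : Pt) = (u1, 0 + u2) := by
    by_contra hne
    have := congrFun (k2 0) (0, 0 + v.1)
    rw [Pi.smul_apply, Pi.smul_apply, Pi.single_eq_same, Pi.single_eq_of_ne hne, smul_eq_mul, mul_one, smul_zero] at this
    exact wp_ne_zero hω _ this
  simp only [zero_add, Prod.mk.injEq] at hu
  obtain ⟨rfl, rfl⟩ := hu
  have k3 : ∀ c, v.2 * c = k + w.2 * c := fun c => by
    have := congrFun (k2 c) (0, c + v.1)
    simp only [Pi.smul_apply, Pi.single_eq_same, smul_eq_mul, mul_one, ← wp_add hω] at this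
    exact wp_injective hω this
  have hk : k = 0 := by simpa using (k3 0).symm
  subst hk
  have hw : w.2 = v.2 := by simpa using (k3 1).symm
  refine ⟨w.1, ?_⟩
  obtain ⟨w1, w2⟩ := w
  obtain rfl : w2 = v.2 := hw
  rw [e, Rm_split hω 0 w1 v, wp_zero, one_smul]

end Amb

end CfsgLib.Classical.QutritMax
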