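import Cfsg.Agent.Lib.Classical.QutritMax.FixPlane

/-!
# The fixing group lies in the normaliser
-/

set_option autoImplicit false
set_option linter.unusedSectionVars false
set_option linter.unusedSimpArgs false

namespace CfsgLib.Classical.QutritMax

open Matrix
open scoped MatrixGroups

variable {F : Type*} [Field F] {ω : F} {p : ℕ} {H : Subgroup (M9 F)ˣ}

namespace Amb

variable (hH : Amb ω p H)
include hH

/-- The normalising units, as a subgroup. -/
def norG : Subgroup (M9 F)ˣ where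
  carrier := {g | Nor ω (g : M9 F)}
  one_mem' := by simpa using nor_one (ω := ω) (F := F)
  mul_mem' := fun {g k} hg hk => by simpa using Nor.mul hg hk
  inv_mem' := fun {g} hg => by
    haveI := hH.finite
    haveI : Finite (M9 F)ˣ := Finite.of_injective _ Units.val_injective
    have hpow : ∀ n : ℕ, Nor ω ((g ^ n : (M9 F)ˣ) : M9 F) := by
      intro n
      induction n with
      | zero => simpa using nor_one (ω := ω) (F := F)
      | succ n ih => rw [pow_succ, Units.val_mul]; exact ih.mul hg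
    have h1 : g ^ (orderOf g - 1) = g⁻¹ := by
      rw [eq_inv_iff_mul_eq_one, ← pow_succ, Nat.sub_add_cancel (orderOf_pos g), pow_orderOf_eq_one]
    show Nor ω ((g⁻¹ : (M9 F)ˣ) : M9 F)
    rw [← h1]; exact hpow _

theorem mem_norG {g : (M9 F)ˣ} : g ∈ hH.norG ↔ Nor ω (g : M9 F) := Iff.rfl

theorem KM_le_sub : KM ω H ≤ (plane (F := F) 0).sub := fun _ hg => CZ_mem_sub hH.root hg.1 0

/-- The action on the first plane. -/
noncomputable def phi : KM ω H →* GL (Fin 2) F :=
  (plane (F := F) 0).rho.comp (Subgroup.inclusion hH.KM_le_sub)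

theorem phi_val (k : KM ω H) :
    ((hH.phi k : GL (Fin 2) F) : Matrix (Fin 2) (Fin 2) F) = planeMat (row ((k : (M9 F)ˣ) : M9 F) 0) :=
  (plane (F := F) 0).rho_eq _ (mul_plane_L hH.root k.2.1.2.1 k.2.1.2.2 0)

theorem phi_injective (hN : NoTr H) : Function.Injective hH.phi := by
  rw [injective_iff_map_eq_one]
  intro k hk
  refine Subtype.ext (hH.KM_plane_trivial hN k.2 ?_)
  rw [← hH.phi_val, hk, Units.val_one]

theorem KM_le_norG (hN : NoTr H) : KM ω H ≤ hH.norG := by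
  classical
  intro k hk
  have hω := hH.root
  haveI := hH.char
  haveI : Fact p.Prime := ⟨hH.prime⟩
  haveI := hH.finite
  haveI := Fintype.ofFinite F
  have h3 : (3 : F) ≠ 0 := hω.three
  have hd1 : ω - 1 ≠ 0 := sub_ne_zero.2 hω.ne_one
  obtain ⟨T, hT, eT1, eT, eT'⟩ := hH.exists_T
  obtain ⟨U, hU, eU⟩ := hH.exists_U
  obtain ⟨a, ha⟩ : ∃ a, a = hH.phi ⟨T, hT⟩ := ⟨_, rfl⟩
  obtain ⟨b, hb⟩ : ∃ b, b = hH.phi ⟨U, hU⟩ := ⟨_, rfl⟩
  have ea : (a : Matrix (Fin 2) (Fin 2) F) = !![ω, 0; 0, 1] := by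
    rw [ha, hH.phi_val]
    simp only [eT1, blk_eq_bd, row_bd]
    ext i j; fin_cases i <;> fin_cases j <;> simp [planeMat, Z3, diagonal_apply, show (1 : ZMod 3) ≠ 2 by decide,
      show (0 : ZMod 3) ≠ 1 by decide]
  have eb : (b : Matrix (Fin 2) (Fin 2) F) = !![(2 + ω) / 3, 2 * (ω - 1) / 3; (ω - 1) / 3, (1 + 2 * ω) / 3] := by
    rw [hb, hH.phi_val]
    simp only [eU, blk_eq_bd, row_bd]
    ext i j; fin_cases i <;> fin_cases j <;> simp [planeMat, X3, J3, Matrix.one_apply,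
      show (1 : ZMod 3) ≠ 2 by decide, show (0 : ZMod 3) ≠ 1 by decide] <;> field_simp <;> ring
  have ha3 : a ^ 3 = 1 := by
    rw [ha, ← map_pow, show (⟨T, hT⟩ : KM ω H) ^ 3 = 1 from Subtype.ext (by simp [hH.T_cube eT']), map_one]
  have hb3 : b ^ 3 = 1 := Units.ext (by
    rw [pow_succ, pow_two, Units.val_mul, Units.val_mul, eb, Units.val_one]
    ext i j; fin_cases i <;> fin_cases j <;> simp [Matrix.mul_apply, Fin.sum_univ_two] <;> field_simp <;>
      grind [hω.eq])
  have hne : ProjGenLinGroup.mk a * ProjGenLinGroup.mk b ≠ ProjGenLinGroup.mk b * ProjGenLinGroup.mk a := by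
    intro e
    rw [← map_mul, ← map_mul] at e
    obtain ⟨l, hl⟩ := mk_eq_smul e
    rw [Units.val_mul, Units.val_mul, ea, eb] at hl
    have e01 := congrFun (congrFun hl 0) 1
    have e10 := congrFun (congrFun hl 1) 0
    simp [Matrix.mul_apply, Fin.sum_univ_two] at e01 e10
    have l1 : l = ω := by
      refine mul_right_cancel₀ (mul_ne_zero hH.two_ne hd1) ?_
      rcases e01 with e | e
      · rw [e]
      · exfalso; rcases e with e | e
        · rcases e with e | e
          exacts [hH.two_ne e, hd1 e]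
        · exact h3 e
    rw [l1] at e10
    field_simp at e10
    exact hω.mul_self_ne_one (by linear_combination -e10)
  -- elements that act as scalars on the plane
  have scal : ∀ x : KM ω H, ProjGenLinGroup.mk (hH.phi x) = 1 →
      ((x : (M9 F)ˣ) : M9 F) * (P2 0 : M9 F) = (P2 0 : M9 F) * ((x : (M9 F)ˣ) : M9 F) := by
    intro x hx
    obtain ⟨l, hl⟩ := mk_eq_smul (g := hH.phi x) (u := 1) (by rw [hx, map_one])
    have hcom : hH.phi x * a = a * hH.phi x := Units.ext (by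
      rw [Units.val_mul, Units.val_mul, hl, Units.val_one, Matrix.smul_mul, Matrix.mul_smul, one_mul, mul_one])
    rw [ha, ← map_mul, ← map_mul] at hcom
    have hc : Commute ((x : (M9 F)ˣ) : M9 F) (T : M9 F) := by
      have := congrArg (fun y : KM ω H => ((y : (M9 F)ˣ) : M9 F)) (hH.phi_injective hN hcom)
      simpa [Commute, SemiconjBy] using this
    rw [eT] at hc
    exact ((tU_comm hω.cube).1 hc).eq
  have mem : ∀ {g : GL (Fin 2) F}, g ∈ hH.phi.range → ∃ x, hH.phi x = g := fun hg => hg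
  rcases dichotomy p hH.cast_surj (G := hH.phi.range) (a := a) (b := b) ⟨_, ha.symm⟩ ⟨_, hb.symm⟩
      (by rw [ea]; simp) (by rw [ea]; simp) (by rw [ea]; simp [hω.ne_one])
      (by rw [← map_pow, ha3, map_one]) (by rw [← map_pow, hb3, map_one]) hne
    with ⟨g, hg, l, c, hc, hgU⟩ | hsm
  · exfalso
    obtain ⟨x, rfl⟩ := mem hg
    rw [hH.phi_val] at hgU
    exact hH.no_unip hN x.2.1.1 x.2.1.2.1 x.2.1.2.2 hc hgU
  · -- no member inverts the first generator
    have hinv : ∀ g ∈ hH.phi.range, ProjGenLinGroup.mk (g * a * g⁻¹) ≠ (ProjGenLinGroup.mk a)⁻¹ := by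
      intro g hg e
      obtain ⟨x, rfl⟩ := mem hg
      obtain ⟨t, ht⟩ : ∃ t : KM ω H, t = x * ⟨T, hT⟩ * x⁻¹ := ⟨_, rfl⟩
      have h1 : ProjGenLinGroup.mk (hH.phi (t * ⟨T, hT⟩)) = 1 := by
        rw [map_mul hH.phi, map_mul, ← ha, ht, map_mul hH.phi, map_mul hH.phi, map_inv hH.phi, ← ha, e, inv_mul_cancel]
      have hc := scal _ h1
      have hTc : (T : M9 F) * (P2 0 : M9 F) = (P2 0 : M9 F) * T := by
        rw [eT]; exact ((tU_comm hω.cube).2 (Commute.refl _)).symm.eq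
      have htc : (((t : KM ω H) : (M9 F)ˣ) : M9 F) * (P2 0 : M9 F) = (P2 0 : M9 F) * ((t : (M9 F)ˣ) : M9 F) := by
        have e1 : ((t : (M9 F)ˣ) : M9 F) = (((t * ⟨T, hT⟩ : KM ω H) : (M9 F)ˣ) : M9 F) * ((T⁻¹ : (M9 F)ˣ) : M9 F) := by
          rw [Subgroup.coe_mul, Units.val_mul, mul_assoc, Units.mul_inv, mul_one]
        rw [e1]
        exact ((Commute.mul_left hc (Commute.units_inv_left hTc)) : _)
      have ht3 : ((t : (M9 F)ˣ)) ^ (3 ^ 1) = 1 := by
        rw [pow_one, ht]; simp only [Subgroup.coe_mul, Subgroup.coe_inv]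
        rw [conj_pow, hH.T_cube eT', mul_one, mul_inv_cancel]
      obtain ⟨n, hn, hn'⟩ := hH.KM_cent_three hN eT' t.2 htc ht3
      rw [hH.trace_eq_one eT' (g := (x : (M9 F)ˣ)) (j := (n : ZMod 3)) (by rw [← hn', ht]; simp)] at hn'
      have htT : t = ⟨T, hT⟩ := Subtype.ext (Units.ext (hn'.trans eT'.symm))
      rw [htT, map_mul hH.phi, map_mul, ← ha] at h1
      have hp3 : ProjGenLinGroup.mk a ^ 3 = 1 := by rw [← map_pow, ha3, map_one]
      have hA : ProjGenLinGroup.mk a = 1 := by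
        rw [pow_succ, pow_two, h1, one_mul] at hp3; exact hp3
      exact hne (by rw [hA, one_mul, mul_one])
    obtain ⟨m, hm, em⟩ := hsm.gen hinv (hH.phi ⟨k, hk⟩) ⟨_, rfl⟩
    have hcl : Subgroup.closure ({a, b} : Set (GL (Fin 2) F)) =
        (Subgroup.closure ({⟨T, hT⟩, ⟨U, hU⟩} : Set (KM ω H))).map hH.phi := by
      rw [MonoidHom.map_closure, Set.image_pair, ha, hb]
    rw [hcl] at hm
    obtain ⟨k₁, hk₁, rfl⟩ := hm
    have hk₁N : (k₁ : (M9 F)ˣ) ∈ hH.norG := by
      refine (Subgroup.closure_le (hH.norG.comap (KM ω H).subtype)).2 ?_ hk₁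
      rintro y (rfl | rfl)
      · show Nor ω (T : M9 F)
        rw [eT']; exact nor_dg hω ⟨1, 0, 0, 0, 0, -1, funext fun w => by simp only [ez]; ring⟩
      · show Nor ω (U : M9 F)
        rw [eU]; exact nor_blk_X3 hω
    have h2 := scal (k₁⁻¹ * ⟨k, hk⟩) (by rw [map_mul hH.phi, map_inv hH.phi, map_mul, map_inv, em, inv_mul_cancel])
    have hN2 := hH.nor_cent_x_P2 hN (k₁⁻¹ * ⟨k, hk⟩ : KM ω H).2.1.1 (k₁⁻¹ * ⟨k, hk⟩ : KM ω H).2.1.2.1 h2
    have := mul_mem hk₁N (hH.mem_norG.2 hN2)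
    simpa using this

end Amb

end CfsgLib.Classical.QutritMax
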