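import Cfsg.Agent.Lib.Classical.QutritMax.CentXP

/-!
# Members fixing the vectors negated by the coordinate reflection
-/

set_option autoImplicit false
set_option linter.unusedSectionVars false
set_option linter.unusedSimpArgs false

namespace CfsgLib.Classical.QutritMax

open Matrix
open scoped MatrixGroups

/-- An element of order three whose centraliser has no further `3`-elements generates a Sylow subgroup. -/
theorem exists_sylow_le_zpowers {G : Type*} [Group G] [Finite G] {t : G} (ht : t ^ 3 = 1) (ht1 : t ≠ 1)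
    (hC : ∀ k, k * t = t * k → (∃ i : ℕ, k ^ (3 ^ i) = 1) → k ∈ Subgroup.zpowers t) :
    ∃ S : Sylow 3 G, t ∈ (S : Subgroup G) ∧ ∀ s ∈ (S : Subgroup G), s ∈ Subgroup.zpowers t := by
  haveI : Fact (Nat.Prime 3) := ⟨Nat.prime_three⟩
  have hpg : ∀ x : G, x ^ 3 = 1 → IsPGroup 3 (Subgroup.zpowers x) := by
    rintro x hx ⟨y, hy⟩
    obtain ⟨n, rfl⟩ := Subgroup.mem_zpowers_iff.1 hy
    refine ⟨1, Subtype.ext ?_⟩
    rw [Subgroup.coe_pow, Subgroup.coe_one, pow_one, ← zpow_natCast, ← _root_.zpow_mul, mul_comm, _root_.zpow_mul, zpow_natCast, hx,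
      _root_.one_zpow]
  obtain ⟨S, hS⟩ := (hpg t ht).exists_le_sylow
  have htS : t ∈ (S : Subgroup G) := hS (Subgroup.mem_zpowers t)
  have hSle : ∀ s ∈ (S : Subgroup G), s ∈ Subgroup.zpowers t := by
    haveI : Nontrivial (S : Subgroup G) := ⟨⟨⟨t, htS⟩, 1, fun e => ht1 (congrArg Subtype.val e)⟩⟩
    haveI := S.2.center_nontrivial
    obtain ⟨⟨z, hz⟩, hz1⟩ := exists_ne (1 : Subgroup.center (S : Subgroup G))
    have pp : ∀ y : (S : Subgroup G), ∃ i : ℕ, (y : G) ^ (3 ^ i) = 1 := fun y => by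
      obtain ⟨i, hi⟩ := S.2 y
      exact ⟨i, by rw [← Subgroup.coe_pow, hi, Subgroup.coe_one]⟩
    have hzc : ∀ y : (S : Subgroup G), (y : G) * (z : G) = (z : G) * y := fun y => by
      rw [← Subgroup.coe_mul, Subgroup.mem_center_iff.1 hz y, Subgroup.coe_mul]
    have hzt : (z : G) ∈ Subgroup.zpowers t := hC _ (hzc ⟨t, htS⟩).symm (pp z)
    have hz1' : (z : G) ≠ 1 := fun e => hz1 (Subtype.ext (Subtype.ext e))
    have htz : t ∈ Subgroup.zpowers (z : G) := by
      have hot : orderOf t = 3 := orderOf_eq_prime ht ht1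
      have hzc3 : (z : G) ^ 3 = 1 := by
        obtain ⟨n, hn⟩ := Subgroup.mem_zpowers_iff.1 hzt
        rw [← hn, ← zpow_natCast, ← _root_.zpow_mul, mul_comm, _root_.zpow_mul, zpow_natCast, ht, _root_.one_zpow]
      have e : Subgroup.zpowers (z : G) = Subgroup.zpowers t :=
        Subgroup.eq_of_le_of_card_ge (Subgroup.zpowers_le.2 hzt) (by
          rw [Nat.card_zpowers, Nat.card_zpowers, hot, orderOf_eq_prime hzc3 hz1'])
      rw [e]; exact Subgroup.mem_zpowers t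
    intro s hs
    refine hC s ?_ (pp ⟨s, hs⟩)
    obtain ⟨n, hn⟩ := Subgroup.mem_zpowers_iff.1 htz
    rw [← hn]
    exact (Commute.zpow_right (hzc ⟨s, hs⟩) n)
  exact ⟨S, htS, hSle⟩

/-- Elements of order three are conjugate into the Sylow subgroup generated by such an element. -/
theorem exists_conj_mem_zpowers {G : Type*} [Group G] [Finite G] {t : G} (ht : t ^ 3 = 1) (ht1 : t ≠ 1)
    (hC : ∀ k, k * t = t * k → (∃ i : ℕ, k ^ (3 ^ i) = 1) → k ∈ Subgroup.zpowers t) {q : G} (hq : q ^ 3 = 1) :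
    ∃ k : G, k⁻¹ * q * k ∈ Subgroup.zpowers t := by
  haveI : Fact (Nat.Prime 3) := ⟨Nat.prime_three⟩
  obtain ⟨S, -, hSle⟩ := exists_sylow_le_zpowers ht ht1 hC
  have hpg : ∀ x : G, x ^ 3 = 1 → IsPGroup 3 (Subgroup.zpowers x) := by
    rintro x hx ⟨y, hy⟩
    obtain ⟨n, rfl⟩ := Subgroup.mem_zpowers_iff.1 hy
    refine ⟨1, Subtype.ext ?_⟩
    rw [Subgroup.coe_pow, Subgroup.coe_one, pow_one, ← zpow_natCast, ← _root_.zpow_mul, mul_comm, _root_.zpow_mul,
      zpow_natCast, hx, _root_.one_zpow]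
  obtain ⟨S', hS'⟩ := (hpg q hq).exists_le_sylow
  obtain ⟨k, rfl⟩ := MulAction.exists_smul_eq G S S'
  refine ⟨k, hSle _ ?_⟩
  have := hS' (Subgroup.mem_zpowers q)
  rw [Sylow.coe_subgroup_smul, Subgroup.mem_pointwise_smul_iff_inv_smul_mem] at this
  simpa [← map_inv, MulAut.conj_apply, MulAut.smul_def, mul_assoc] using this

variable {F : Type*} [Field F] {ω : F}

theorem blk_comm_Zp {B : Matrix (ZMod 3) (ZMod 3) F} (hB : ∀ i j, B (-i) (-j) = B i j) :
    blk B * (Zp : M9 F) = (Zp : M9 F) * blk B := by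
  rw [blk_eq_bd, Zp, bd_mul, bd_mul]
  congr 1
  funext _
  rw [mul_neg, neg_mul]
  congr 1
  ext i j
  have e1 : (B * Par3 : Matrix (ZMod 3) (ZMod 3) F) i j = B i (-j) := by
    rw [Matrix.mul_apply, Finset.sum_eq_single (-j)] <;> simp +contextual [Par3, neg_eq_iff_eq_neg]
  have e2 : (Par3 * B : Matrix (ZMod 3) (ZMod 3) F) i j = B (-i) j := by
    rw [Matrix.mul_apply, Finset.sum_eq_single (-i)]
    · simp [Par3]
    · intro k _ hk
      rw [Par3, of_apply, if_neg fun e => hk (by rw [e, neg_neg]), zero_mul]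
    · simp
  rw [e1, e2, ← hB (-i) j, neg_neg]

theorem blk_mvec {B : Matrix (ZMod 3) (ZMod 3) F} (hB : ∀ i j, B (-i) (-j) = B i j) (a : ZMod 3) :
    blk B *ᵥ mvec a = (B 1 1 - B 1 2) • (mvec a : Pt → F) := by
  rw [blk_eq_bd]
  refine bd_mvec (B := fun _ => B) ⟨?_, ?_, ?_, ?_⟩
  · simpa [show -(2 : ZMod 3) = 1 by decide] using hB 0 2
  · simpa [show -(2 : ZMod 3) = 1 by decide] using hB 2 0
  · simpa [show -(2 : ZMod 3) = 1 by decide] using hB 2 2
  · simpa [show -(2 : ZMod 3) = 1 by decide, show -(1 : ZMod 3) = 2 by decide] using hB 2 1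

theorem Zp_mvec (a : ZMod 3) : (Zp : M9 F) *ᵥ mvec a = mvec a := by
  rw [show (Zp : M9 F) = blk (-Par3) from (blk_eq_bd _).symm, blk_mvec (B := -Par3)]
  · simp [Par3, show -(1 : ZMod 3) = 2 by decide, show -(2 : ZMod 3) = 1 by decide, show (1 : ZMod 3) ≠ 2 by decide]
  · intro i j; simp [Par3, neg_eq_iff_eq_neg]

theorem dg_pow (h : Root ω) (f : Pt → ZMod 3) : ∀ n : ℕ, dg ω f ^ n = dg ω (fun w => (n : ZMod 3) * f w)
  | 0 => by rw [pow_zero, ← dg_zero (ω := ω)]; congr 1; funext w; simp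
  | n + 1 => by
    rw [pow_succ, dg_pow h f n, dg_mul h]
    congr 1; funext w; simp [add_mul]

/-- The exponent of the powers of the first generator. -/
def ez (j : ZMod 3) : Pt → ZMod 3 := fun w => j * (1 - w.2 * w.2)

theorem moment_table : ∀ c1 c2 c3 c4 : ZMod 3, c2 = 0 → c2 + c4 = 0 → c1 + c3 + c4 = 0 →
    c1 * 2 + c3 * 4 + c4 * 2 = 0 → c1 = 0 ∧ c3 = 0 ∧ c4 = 0 := by decide

theorem ez_table {f : Pt → ZMod 3} (hf : Quadr f) (hs : ∀ v, f (negB v) = f v)
    (hm : ∀ a, f (a, 1) = f (0, 1)) : ∃ j, ∀ v, f v = f (0, 1) + ez j v := by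
  obtain ⟨c0, c1, c2, c3, c4, c5, rfl⟩ := hf
  have s0 := hs (0, 1)
  have s1 := hs (1, 1)
  have m1 := hm 1
  have m2 := hm 2
  simp only [negB, Equiv.prodCongr_apply, Prod.map, Equiv.refl_apply, Equiv.neg_apply] at s0 s1 m1 m2 ⊢
  have k : ∀ x : ZMod 3, 2 * x = 0 → x = 0 := by decide
  have e2 : c2 = 0 := k _ (by linear_combination -s0)
  have e24 : c2 + c4 = 0 := k _ (by linear_combination -s1)
  obtain ⟨e1, e3, e4⟩ := moment_table c1 c2 c3 c4 e2 e24 (by linear_combination m1) (by linear_combination m2)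
  subst e1 e2 e3 e4
  exact ⟨-c5, fun v => by simp only [ez]; ring⟩

variable {p : ℕ} {H : Subgroup (M9 F)ˣ}

/-- Members commuting with the central generator and the reflection, fixing its negated vectors. -/
def KM (ω : F) (H : Subgroup (M9 F)ˣ) : Subgroup (M9 F)ˣ where
  carrier := {k | k ∈ CZ ω H ∧ ∀ a, (k : M9 F) *ᵥ mvec a = mvec a}
  one_mem' := ⟨one_mem _, fun a => by simp⟩
  mul_mem' := fun {g k} hg hk => ⟨mul_mem hg.1 hk.1, fun a => by
    rw [Units.val_mul, ← mulVec_mulVec, hk.2, hg.2]⟩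
  inv_mem' := fun {g} hg => ⟨inv_mem hg.1, fun a => by
    conv_lhs => rw [← hg.2 a]
    rw [mulVec_mulVec, Units.inv_mul, one_mulVec]⟩

theorem dg_ez_single (j : ZMod 3) (a : ZMod 3) :
    dg ω (ez j) *ᵥ Pi.single (a, 0) 1 = wp ω j • (Pi.single (a, 0) 1 : Pt → F) := by
  funext i
  rw [dg, mulVec_diagonal, Pi.smul_apply, Pi.single_apply, smul_eq_mul]
  split_ifs with e
  · subst e; simp [ez]
  · simp

theorem trace_dg_ez (j : ZMod 3) : (dg ω (ez j)).trace = 6 + 3 * wp ω j := by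
  rw [dg, trace_diagonal, Fintype.sum_prod_type, sum3, sum3, sum3, sum3]
  simp [ez, wp_zero, show (1 : ZMod 3) - 2 * 2 = 0 by decide]
  ring

theorem Zp_single (a : ZMod 3) :
    (Zp : M9 F) *ᵥ Pi.single (a, 0) 1 = (-1 : F) • (Pi.single (a, 0) 1 : Pt → F) := by
  funext i
  obtain ⟨c, b⟩ := i
  rw [Zp, bd_mulVec_single, Pi.smul_apply, Pi.single_apply, smul_eq_mul]
  by_cases e : c = a <;> by_cases e' : b = 0 <;>
    simp [e, e', Par3, Prod.ext_iff]

namespace Amb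

variable (hH : Amb ω p H)
include hH

theorem exists_Z : ∃ Z ∈ KM ω H, ((Z : (M9 F)ˣ) : M9 F) = Zp := by
  obtain ⟨Z, hZ, eZ⟩ := hH.in_Zp
  exact ⟨Z, ⟨⟨hZ, by rw [eZ]; exact bd_x _, by rw [eZ]⟩, fun a => by rw [eZ, Zp_mvec]⟩, eZ⟩

theorem exists_T : ∃ T ∈ KM ω H, ((T : (M9 F)ˣ) : M9 F) = blk (Z3 ω) ∧ ((T : (M9 F)ˣ) : M9 F) = tU ω (P2 0) ∧
    ((T : (M9 F)ˣ) : M9 F) = dg ω (ez 1) := by
  obtain ⟨T, hT, eT⟩ := hH.exists_T20
  have e1 : (T : M9 F) = blk (Z3 ω) := eT.trans tU_P2_zero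
  have hB : ∀ i j, (Z3 ω) (-i) (-j) = Z3 ω i j := fun i j => by simp [Z3, diagonal_apply]
  refine ⟨T, ⟨⟨hT, by rw [e1, blk_eq_bd]; exact bd_x _, by rw [e1]; exact blk_comm_Zp hB⟩,
    fun a => by rw [eT, tU_P2_mvec]⟩, e1, eT, ?_⟩
  rw [e1, blk_Z3]; congr 1; funext w; simp [ez]

theorem exists_U : ∃ U ∈ KM ω H, ((U : (M9 F)ˣ) : M9 F) = blk (X3 ω) := by
  obtain ⟨U, hU, eU⟩ := hH.in_of_nor (nor_blk_X3 hH.root) (by rw [det_blk, det_X3 hH.root, hH.root.pow_three])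
  have hB : ∀ i j, (X3 ω) (-i) (-j) = X3 ω i j := fun i j => by simp [X3, J3, Matrix.one_apply]
  refine ⟨U, ⟨⟨hU, by rw [eU, blk_eq_bd]; exact bd_x _, by rw [eU]; exact blk_comm_Zp hB⟩, fun a => ?_⟩, eU⟩
  rw [eU, blk_mvec hB]
  simp [X3, J3, show (1 : ZMod 3) ≠ 2 by decide]

/-- The members of the fixing group commuting with the first projection. -/
theorem KM_cent (hN : NoTr H) {k : (M9 F)ˣ} (hk : k ∈ KM ω H) (h0 : (k : M9 F) * (P2 0 : M9 F) = (P2 0 : M9 F) * k) :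
    ∃ j, (k : M9 F) = dg ω (ez j) ∨ (k : M9 F) = (Zp : M9 F) * dg ω (ez j) := by
  obtain ⟨l, f, hf, hl, hcase⟩ := hH.cent_x_P2 hN hk.1.1 hk.1.2.1 h0
  obtain ⟨D, hD⟩ : ∃ D : M9 F, D = l • dg ω f := ⟨_, rfl⟩
  have hl0 : l ≠ 0 := fun e => by simp [e] at hl
  rw [← hD] at hcase
  have hcomm : D * (Zp : M9 F) = (Zp : M9 F) * D := by
    rcases hcase with e | e
    · rw [← e]; exact hk.1.2.2
    · have hz := hk.1.2.2
      rw [e, mul_assoc] at hz
      have := congrArg ((Zp : M9 F) * ·) hz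
      simp only [← mul_assoc, Zp_mul_self, one_mul] at this
      exact this
  have hfix : ∀ a, D *ᵥ mvec a = mvec a := fun a => by
    have hk2 := hk.2 a
    rcases hcase with e | e
    · rwa [e] at hk2
    · rw [e, ← mulVec_mulVec] at hk2
      have := congrArg ((Zp : M9 F) *ᵥ ·) hk2
      simp only [mulVec_mulVec, ← mul_assoc, Zp_mul_self, one_mul, Zp_mvec] at this
      exact this
  have hsym : ∀ v, f (negB v) = f v := by
    intro v
    have e : (Zp : M9 F) * D * Zp = D := by rw [mul_assoc, hcomm, ← mul_assoc, Zp_mul_self, one_mul]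
    rw [hD, dg, ← diagonal_smul, diag_Zp_conj] at e
    have := congrFun (diagonal_injective e) v
    simp only [Function.comp_apply, Pi.smul_apply, smul_eq_mul] at this
    exact wp_injective hH.root (mul_left_cancel₀ hl0 this)
  have hone : ∀ a, l * wp ω (f (a, 1)) = 1 := fun a => by
    have := congrFun (hfix a) (a, 1)
    rw [hD, dg, ← diagonal_smul, mulVec_diagonal] at this
    simpa [mvec, show (1 : ZMod 3) ≠ 2 by decide] using this
  obtain ⟨j, hj⟩ := ez_table hf hsym fun a =>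
    wp_injective hH.root (mul_left_cancel₀ hl0 ((hone a).trans (hone 0).symm))
  refine ⟨j, ?_⟩
  have eD : D = dg ω (ez j) := by
    rw [hD, dg, dg, ← diagonal_smul]
    congr 1
    funext v
    rw [Pi.smul_apply, smul_eq_mul, hj v, wp_add hH.root, ← mul_assoc, hone 0, one_mul]
  rw [← eD]; exact hcase

/-- A member of the fixing group commuting with the projection and fixing the origin is trivial. -/
theorem KM_cent_fix (hN : NoTr H) {k : (M9 F)ˣ} (hk : k ∈ KM ω H)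
    (h0 : (k : M9 F) * (P2 0 : M9 F) = (P2 0 : M9 F) * k)
    (hf : (k : M9 F) *ᵥ Pi.single ((0 : ZMod 3), (0 : ZMod 3)) 1 = Pi.single ((0 : ZMod 3), (0 : ZMod 3)) 1) : k = 1 := by
  obtain ⟨j, e | e⟩ := hH.KM_cent hN hk h0
  · rw [e, dg_ez_single] at hf
    have h1 : wp ω j = 1 := by simpa using congrFun hf (0, 0)
    have : j = 0 := wp_injective hH.root (h1.trans wp_zero.symm)
    refine Units.ext ?_
    rw [e, this, Units.val_one, ← dg_zero (ω := ω)]
    congr 1; funext w; simp [ez]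
  · exfalso
    rw [e, ← mulVec_mulVec, dg_ez_single, mulVec_smul, Zp_single, smul_smul] at hf
    have h1 : wp ω j * -1 = 1 := by simpa using congrFun hf (0, 0)
    have h2 := congrArg (· ^ 3) h1
    simp only [mul_pow, wp_pow_three hH.root, one_pow, one_mul] at h2
    exact hH.two_ne (by linear_combination -h2)

/-- The `3`-elements of the fixing group commuting with the first generator are its powers. -/
theorem KM_cent_three (hN : NoTr H) {T : (M9 F)ˣ} (eT : (T : M9 F) = dg ω (ez 1)) {k : (M9 F)ˣ} (hk : k ∈ KM ω H)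
    (h0 : (k : M9 F) * (P2 0 : M9 F) = (P2 0 : M9 F) * k) {i : ℕ} (hi : k ^ (3 ^ i) = 1) :
    ∃ n : ℕ, k = T ^ n ∧ (k : M9 F) = dg ω (ez (n : ZMod 3)) := by
  have hT : ∀ n : ℕ, ((T ^ n : (M9 F)ˣ) : M9 F) = dg ω (ez (n : ZMod 3)) := fun n => by
    rw [Units.val_pow_eq_pow_val, eT, dg_pow hH.root]; congr 1; funext w; simp [ez]
  obtain ⟨j, e | e⟩ := hH.KM_cent hN hk h0
  · refine ⟨j.val, Units.ext ?_, ?_⟩
    · rw [hT, ZMod.natCast_zmod_val, e]
    · rw [ZMod.natCast_zmod_val, e]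
  · exfalso
    have hv : (k : M9 F) *ᵥ Pi.single ((0 : ZMod 3), (0 : ZMod 3)) 1 =
        (wp ω j * -1) • (Pi.single ((0 : ZMod 3), (0 : ZMod 3)) 1 : Pt → F) := by
      rw [e, ← mulVec_mulVec, dg_ez_single, mulVec_smul, Zp_single, smul_smul]
    have hp := pow_mulVec hv (3 ^ i)
    rw [← Units.val_pow_eq_pow_val, hi, Units.val_one, one_mulVec] at hp
    have h1 : (1 : F) = (wp ω j * -1) ^ (3 ^ i) := by simpa using congrFun hp (0, 0)
    have h2 := congrArg (· ^ 3) h1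
    simp only [one_pow, ← pow_mul] at h2
    rw [mul_comm (3 ^ i) 3, pow_mul, mul_pow, wp_pow_three hH.root, one_mul, show (-1 : F) ^ 3 = -1 by ring,
      (Odd.pow (by decide : Odd 3)).neg_one_pow] at h2
    exact hH.two_ne (by linear_combination h2)

theorem T_cube {T : (M9 F)ˣ} (eT : (T : M9 F) = dg ω (ez 1)) : T ^ 3 = 1 := by
  refine Units.ext ?_
  rw [Units.val_pow_eq_pow_val, eT, dg_pow hH.root, Units.val_one, ← dg_zero (ω := ω)]
  congr 1
  funext w
  rw [show ((3 : ℕ) : ZMod 3) = 0 from ZMod.natCast_self 3, zero_mul]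

theorem trace_eq_one {T : (M9 F)ˣ} (eT : (T : M9 F) = dg ω (ez 1)) {g : (M9 F)ˣ} {j : ZMod 3}
    (e : ((g * T * g⁻¹ : (M9 F)ˣ) : M9 F) = dg ω (ez j)) : j = 1 := by
  have h := congrArg Matrix.trace e
  rw [Units.val_mul, Units.val_mul, Matrix.trace_units_conj, eT, trace_dg_ez, trace_dg_ez] at h
  exact wp_injective hH.root (mul_left_cancel₀ hH.root.three (by linear_combination -h))

/-- The action on the first plane is faithful. -/
theorem KM_plane_trivial (hN : NoTr H) {k : (M9 F)ˣ} (hk : k ∈ KM ω H)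
    (h : planeMat (row (k : M9 F) 0) = 1) : k = 1 := by
  have hω := hH.root
  obtain ⟨T, hT, -, eT, eT'⟩ := hH.exists_T
  have hS := symm3_row hω hk.1.2.1 hk.1.2.2 0
  have h00 : row (k : M9 F) 0 0 0 = 1 := by simpa [planeMat] using congrFun (congrFun h 0) 0
  have h10 : row (k : M9 F) 0 1 0 = 0 := by simpa [planeMat] using congrFun (congrFun h 1) 0
  have hk0 : (k : M9 F) *ᵥ Pi.single ((0 : ZMod 3), (0 : ZMod 3)) 1 =
      (1 : F) • Pi.single ((0 : ZMod 3), (0 : ZMod 3)) 1 := by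
    conv_lhs => rw [bd_row hω hk.1.2.1]
    rw [bd_single0 hS, h00, h10, zero_smul, add_zero]
  have hTv : (T : M9 F) *ᵥ Pi.single ((0 : ZMod 3), (0 : ZMod 3)) 1 =
      ω • Pi.single ((0 : ZMod 3), (0 : ZMod 3)) 1 := by rw [eT, tU_P2_single]
  have hQv := conj_eig hk0 hTv
  have hTQ : k * T * k⁻¹ ∈ KM ω H := mul_mem (mul_mem hk hT) (inv_mem hk)
  rcases hH.conj_cases (P2_idem 0) eT hT.1.1 hk.1.1 with hc | ⟨z, hz0, -, hz1, -, hzP, -⟩ |
    ⟨u, hu0, -, hu1, -, huP⟩ | ⟨u, hu0, huH, hu1, -, hs⟩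
  · have hc' : ((k * T * k⁻¹ : (M9 F)ˣ) : M9 F) * (P2 0 : M9 F) = (P2 0 : M9 F) * (k * T * k⁻¹ : (M9 F)ˣ) := by
      rw [Units.val_mul, Units.val_mul, eT, tU]
      simp only [mul_add, add_mul, mul_one, one_mul, Units.mul_inv, mul_smul_comm, smul_mul_assoc, hc]
    have hp3 : (k * T * k⁻¹) ^ (3 ^ 1) = 1 := by
      rw [pow_one, conj_pow, show T ^ 3 = 1 from hH.T_cube eT', mul_one, mul_inv_cancel]
    obtain ⟨n, hn, hn'⟩ := hH.KM_cent_three hN eT' hTQ hc' hp3
    rw [hH.trace_eq_one eT' hn', ← eT'] at hn'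
    have hcT : Commute (k : M9 F) (T : M9 F) := by
      have := congrArg (· * (k : M9 F)) hn'
      simp only [Units.val_mul, mul_assoc, Units.inv_mul, mul_one] at this
      exact this
    rw [eT] at hcT
    refine hH.KM_cent_fix hN hk ((tU_comm hω.cube).1 hcT).eq ?_
    rw [hk0, one_smul]
  · exact absurd (hH.KM_cent_fix hN (DGrp.le hT hTQ hz0) hzP (DGrp.fix hz0 hTv hQv)) hz1
  · exact absurd (hH.KM_cent_fix hN (DGrp.le hT hTQ hu0) huP (DGrp.fix hu0 hTv hQv)) hu1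
  · exact absurd (Units.ext ((hH.no_one_sided hN ⟨u, huH, rfl⟩ (DGrp.le hT hTQ hu0).1.2.1 hs).trans Units.val_one.symm)) hu1

end Amb

end CfsgLib.Classical.QutritMax
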