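import Cfsg.Agent.Lib.Classical.QutritMax.PairPlane

/-!
# The group cannot contain all diagonal elements of order three
-/

set_option autoImplicit false
set_option linter.unusedSectionVars false
set_option linter.unusedSimpArgs false

namespace CfsgLib.Classical.QutritMax

open Matrix

variable {F : Type*} [Field F] {ω : F} {p : ℕ} {H : Subgroup (M9 F)ˣ}

/-- The group contains all diagonal elements of order three and determinant one. -/
def Full (ω : F) (H : Subgroup (M9 F)ˣ) : Prop := ∀ f : Pt → ZMod 3, ∑ v, f v = 0 → In H (dg ω f)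

theorem Z3_mul (x y : F) : Z3 x * Z3 y = Z3 (x * y) := by
  rw [Z3, Z3, Z3, diagonal_mul_diagonal]
  congr 1
  funext i
  by_cases e : i = 0 <;> simp [e]

theorem J3_mul (h3 : (3 : F) ≠ 0) : (J3 : Matrix (ZMod 3) (ZMod 3) F) * J3 = J3 := by
  ext i j
  simp only [Matrix.mul_apply, sum3, J3, of_apply]
  field_simp
  ring

theorem X3_mul (h3 : (3 : F) ≠ 0) (x y : F) : X3 x * X3 y = X3 (x * y) := by
  simp only [X3, Matrix.add_mul, Matrix.mul_add, Matrix.one_mul, Matrix.mul_one, Matrix.smul_mul, Matrix.mul_smul,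
    J3_mul h3]
  match_scalars <;> ring

theorem Z3_one : Z3 (1 : F) = 1 := by simp [Z3]

theorem X3_one : X3 (1 : F) = 1 := by simp [X3]

theorem not_full (hH : Amb ω p H) (hN : NoTr H) : ¬ Full ω H := by
  intro hfull
  have hω := hH.root
  have h3 : (3 : F) ≠ 0 := hω.three
  have w4 : ω * ω * (ω * ω) = ω := by linear_combination ω * hω.pow_three
  have w3 : ω * (ω * ω) = 1 := by linear_combination hω.pow_three
  have w3' : ω * ω * ω = 1 := by linear_combination hω.pow_three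
  obtain ⟨gn, hgn, en⟩ := hH.in_of_nor (nor_blk_n3 hω) (det_blk_n3 hω)
  have nZ : n3 ω * Z3 (ω * ω) = X3 (ω * ω) * n3 ω := by
    rw [← Z3_mul, ← X3_mul h3, ← mul_assoc, n3_Z3 hω, mul_assoc, n3_Z3 hω, ← mul_assoc]
  -- block diagonal members
  let b3 : Matrix (ZMod 3) (ZMod 3) F → Matrix (ZMod 3) (ZMod 3) F → Matrix (ZMod 3) (ZMod 3) F →
      ZMod 3 → Matrix (ZMod 3) (ZMod 3) F := fun A B C a => if a = 0 then A else if a = 1 then B else C
  have hb3 : ∀ A B C A' B' C', bd (b3 A B C) * bd (b3 A' B' C') = bd (b3 (A * A') (B * B') (C * C')) := by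
    intro A B C A' B' C'
    rw [bd_mul]
    congr 1
    funext a
    simp only [b3]
    split_ifs <;> rfl
  have hd : ∀ i j k : ZMod 3, i + j + k = 0 → In H (bd (b3 (Z3 (wp ω i)) (Z3 (wp ω j)) (Z3 (wp ω k)))) := by
    intro i j k hijk
    have h := hfull (fun v => if v.2 = 0 then (if v.1 = 0 then i else if v.1 = 1 then j else k) else 0) (by
      rw [sum9]
      simp [show (2 : ZMod 3) ≠ 0 by decide, show (2 : ZMod 3) ≠ 1 by decide]
      exact hijk)
    convert h using 1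
    rw [dg_eq_bd]
    congr 1
    funext a
    simp only [b3, Z3]
    split_ifs <;> congr 1 <;> funext b <;> split_ifs <;> simp_all [wp_zero]
  have hd0 : In H (bd (b3 (Z3 ω) (Z3 (ω * ω)) 1)) := by
    simpa [wp_zero, wp_one, wp_two, Z3_one] using hd 1 2 0 (by decide)
  have hd0' : In H (bd (b3 (Z3 (ω * ω)) (Z3 ω) 1)) := by
    simpa [wp_zero, wp_one, wp_two, Z3_one] using hd 2 1 0 (by decide)
  have hd1 : In H (bd (b3 (Z3 ω) 1 (Z3 (ω * ω)))) := by
    simpa [wp_zero, wp_one, wp_two, Z3_one] using hd 1 0 2 (by decide)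
  have hd1' : In H (bd (b3 (Z3 (ω * ω)) 1 (Z3 ω))) := by
    simpa [wp_zero, wp_one, wp_two, Z3_one] using hd 2 0 1 (by decide)
  have hblk : blk (n3 ω) = bd (b3 (n3 ω) (n3 ω) (n3 ω)) := by
    rw [blk_eq_bd]; congr 1; funext a; simp only [b3]; split_ifs <;> rfl
  have conjn : ∀ {A B : M9 F}, In H A → blk (n3 ω) * A = B * blk (n3 ω) → In H B := by
    rintro A B ⟨g, hg, rfl⟩ e
    refine ⟨gn * g * gn⁻¹, mul_mem (mul_mem hgn hg) (inv_mem hgn), ?_⟩
    rw [Units.val_mul, Units.val_mul, en, e, mul_assoc, ← en, Units.mul_inv, mul_one]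
  have hA : In H (bd (b3 (X3 ω) (X3 (ω * ω)) 1)) := conjn hd0 (by
    rw [hblk, hb3, hb3, n3_Z3 hω, nZ, mul_one, one_mul])
  have hA' : In H (bd (b3 (X3 (ω * ω)) (X3 ω) 1)) := conjn hd0' (by
    rw [hblk, hb3, hb3, n3_Z3 hω, nZ, mul_one, one_mul])
  obtain ⟨W, hWdef⟩ : ∃ W, W = X3 ω * Z3 ω * (X3 (ω * ω) * Z3 (ω * ω)) := ⟨_, rfl⟩
  obtain ⟨W', hW'def⟩ : ∃ W', W' = Z3 ω * X3 ω * (Z3 (ω * ω) * X3 (ω * ω)) := ⟨_, rfl⟩
  have hW : In H (bd (b3 W 1 1)) := by
    have := (hA.mul hd1).mul (hA'.mul hd1')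
    rwa [hb3, hb3, hb3, mul_one, mul_one, one_mul, one_mul, X3_mul h3, w3', X3_one, Z3_mul, w3',
      Z3_one, ← hWdef] at this
  have hW' : In H (bd (b3 W' 1 1)) := by
    have := (hd1.mul hA).mul (hd1'.mul hA')
    rwa [hb3, hb3, hb3, mul_one, one_mul, mul_one, one_mul, X3_mul h3, w3', X3_one, Z3_mul, w3',
      Z3_one, ← hW'def] at this
  have hWW' : W * W' = 1 := by
    rw [hWdef, hW'def]
    calc X3 ω * Z3 ω * (X3 (ω * ω) * Z3 (ω * ω)) * (Z3 ω * X3 ω * (Z3 (ω * ω) * X3 (ω * ω)))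
        = X3 ω * Z3 ω * (X3 (ω * ω) * (Z3 (ω * ω) * Z3 ω) * X3 ω) * (Z3 (ω * ω) * X3 (ω * ω)) := by
          simp only [mul_assoc]
      _ = X3 ω * (Z3 ω * Z3 (ω * ω)) * X3 (ω * ω) := by
          rw [Z3_mul, w3', Z3_one, mul_one, X3_mul h3, w3', X3_one, mul_one]
          simp only [mul_assoc]
      _ = 1 := by rw [Z3_mul, w3, Z3_one, mul_one, X3_mul h3, w3, X3_one]
  have hW'W : W' * W = 1 := mul_eq_one_comm.1 hWW'
  -- the rank one parts
  let u₀ : Pt → F := fun i => if i.1 = 0 then W i.2 0 else 0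
  let v₀ : Pt → F := fun i => if i.1 = 0 then W' 0 i.2 else 0
  let σ : Equiv.Perm Pt := Equiv.prodComm _ _
  let D : M9 F := diagonal fun i => if i = (1, 1) ∨ i = (2, 2) then 1 else 0
  obtain ⟨δ, hδ⟩ : ∃ δ : Pt → ZMod 3, δ = fun i => if i = (0, 0) ∨ i = (1, 1) ∨ i = (2, 2) then 1 else 0 := ⟨_, rfl⟩
  have hE : In H (dg ω δ) := hfull δ (by rw [hδ]; decide)
  have hq : W 0 0 * W' 0 0 = 3⁻¹ := by
    rw [hWdef, hW'def]
    simp [Matrix.mul_apply, sum3, X3, Z3, J3, Matrix.one_apply, show (0 : ZMod 3) ≠ 2 by decide,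
      show (2 : ZMod 3) ≠ 0 by decide, show (1 : ZMod 3) ≠ 2 by decide, show (2 : ZMod 3) ≠ 1 by decide,
      show (0 : ZMod 3) ≠ 1 by decide]
    field_simp
    grind [hω.eq]
  have hsum : W' 0 0 * W 0 0 + W' 0 1 * W 1 0 + W' 0 2 * W 2 0 = 1 := by
    have := congrFun (congrFun hW'W 0) 0
    rwa [Matrix.mul_apply, sum3, Matrix.one_apply_eq] at this
  have n20 : (2 : ZMod 3) ≠ 0 := by decide
  have n21 : (2 : ZMod 3) ≠ 1 := by decide
  have n10 : (1 : ZMod 3) ≠ 0 := by decide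
  have hT : Two u₀ v₀ (u₀ ∘ σ) (v₀ ∘ σ) D := by
    constructor
    · rw [dotProduct, sum9]; simp [u₀, v₀, n20, n21, n10]; linear_combination hsum
    · rw [dotProduct, sum9]; simp [u₀, v₀, σ, n20, n21, n10]; linear_combination hsum
    · rw [dotProduct, sum9]; simp [u₀, v₀, σ, n20, n21, n10]; linear_combination hq
    · rw [dotProduct, sum9]; simp [u₀, v₀, σ, n20, n21, n10]; linear_combination hq
    · funext i; rw [mulVec_diagonal]
      by_cases e : i = (1, 1) ∨ i = (2, 2)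
      · rcases e with rfl | rfl <;> simp [u₀, n10, n20]
      · simp [e]
    · funext i; rw [mulVec_diagonal]
      by_cases e : i = (1, 1) ∨ i = (2, 2)
      · rcases e with rfl | rfl <;> simp [u₀, σ, n10, n20]
      · simp [e]
    · funext i; rw [vecMul_diagonal]
      by_cases e : i = (1, 1) ∨ i = (2, 2)
      · rcases e with rfl | rfl <;> simp [v₀, n10, n20]
      · simp [e]
    · funext i; rw [vecMul_diagonal]
      by_cases e : i = (1, 1) ∨ i = (2, 2)
      · rcases e with rfl | rfl <;> simp [v₀, σ, n10, n20]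
      · simp [e]
    · rw [diagonal_mul_diagonal]; congr 1; funext i; split_ifs <;> simp
  have hTP : qel ω u₀ v₀ D = bd (b3 W 1 1) * dg ω δ * bd (b3 W' 1 1) := by
    have hWd : dg ω δ = 1 + (ω - 1) • (vecMulVec (Pi.single (0, 0) 1) (Pi.single (0, 0) 1) + D) := by
      have hv : vecMulVec (Pi.single ((0, 0) : Pt) (1 : F)) (Pi.single (0, 0) 1)
          = diagonal (Pi.single ((0, 0) : Pt) (1 : F)) := by
        ext i j
        simp only [vecMulVec_apply, diagonal_apply, Pi.single_apply]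
        split_ifs <;> simp_all
      rw [hv, dg, show D = _ from rfl, diagonal_add, ← diagonal_smul, ← diagonal_one, diagonal_add]
      congr 1
      funext i
      rw [hδ]
      by_cases e0 : i = (0, 0)
      · subst e0; simp [wp_one, Prod.ext_iff, (show (0 : ZMod 3) ≠ 2 by decide)]
      · by_cases e1 : i = (1, 1) ∨ i = (2, 2) <;> simp [e0, e1, wp_one, wp_zero]
    have hone : bd (b3 W 1 1) * bd (b3 W' 1 1) = 1 := by
      rw [hb3, hWW', one_mul, ← bd_one]; congr 1; funext a; simp only [b3]; split_ifs <;> rfl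
    have hcol : bd (b3 W 1 1) *ᵥ Pi.single (0, 0) 1 = u₀ := by
      rw [mulVec_single_one]; funext i
      show bd (b3 W 1 1) i (0, 0) = _
      simp only [bd_apply, b3, u₀]; split_ifs <;> simp_all
    have hrow : Pi.single (0, 0) 1 ᵥ* bd (b3 W' 1 1) = v₀ := by
      rw [single_one_vecMul]; funext i
      show bd (b3 W' 1 1) (0, 0) i = _
      simp only [bd_apply, b3, v₀]
      by_cases e : i.1 = 0
      · simp [e]
      · simp [e, Ne.symm e]
    have hDb : D = bd (b3 0 (diagonal (Pi.single 1 1)) (diagonal (Pi.single 2 1))) := by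
      ext ⟨a, b⟩ ⟨c, d⟩
      simp only [D, bd_apply, b3, diagonal_apply]
      by_cases e : a = c
      · subst e
        rcases zmod3_cases a with rfl | rfl | rfl <;> by_cases e' : b = d <;>
          simp [e', Pi.single_apply, Prod.ext_iff, n10, n20, n21, show (1 : ZMod 3) ≠ 2 by decide,
            show (0 : ZMod 3) ≠ 1 by decide, show (0 : ZMod 3) ≠ 2 by decide]
      · simp [e, Prod.ext_iff]
    have hDl : bd (b3 W 1 1) * D = D := by rw [hDb, hb3, mul_zero, one_mul, one_mul]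
    have hDr : D * bd (b3 W' 1 1) = D := by rw [hDb, hb3, zero_mul, mul_one, mul_one]
    rw [hWd]
    simp only [Matrix.mul_add, Matrix.mul_one, Matrix.mul_smul, Matrix.add_mul, Matrix.smul_mul,
      Matrix.mul_vecMulVec, Matrix.vecMulVec_mul, hcol, hrow, hone, hDl, hDr, qel]
  have hTQ : qel ω (u₀ ∘ σ) (v₀ ∘ σ) D = (((Equiv.Perm.sign σ : ℤ) : F) • pm σ) * qel ω u₀ v₀ D *
      (((Equiv.Perm.sign σ : ℤ) : F) • pm σ) := by
    have hs : ((Equiv.Perm.sign σ : ℤ) : F) * ((Equiv.Perm.sign σ : ℤ) : F) = 1 := by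
      rcases Int.units_eq_one_or (Equiv.Perm.sign σ) with e | e <;> rw [e] <;> norm_num
    rw [Matrix.smul_mul, Matrix.smul_mul, Matrix.mul_smul, smul_smul, hs, one_smul]
    ext i j
    rw [mul_pm_apply, pm_mul_apply]
    simp only [qel, Matrix.add_apply, Matrix.smul_apply, Matrix.one_apply, vecMulVec_apply, Function.comp_apply,
      D, diagonal_apply, σ, Equiv.prodComm_symm, Equiv.prodComm_apply, Prod.swap_inj]
    obtain ⟨a, b⟩ := i; obtain ⟨c, d⟩ := j
    simp [Prod.ext_iff, and_comm]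
  have hin0 : In H (qel ω u₀ v₀ D) := hTP ▸ (hW.mul hE).mul hW'
  have hσ : In H (((Equiv.Perm.sign σ : ℤ) : F) • (pm σ : M9 F)) :=
    hH.in_of_nor ((nor_pm hω (σ := σ) fun a b => rfl).smul _) (det_smul_sign σ)
  exact no_two hH hN hT hin0 (hTQ ▸ (hσ.mul hin0).mul hσ)

end CfsgLib.Classical.QutritMax
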