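import Cfsg.Agent.Lib.Classical.QutritMax.Invol

/-!
# Without transvections every member normalises
-/

set_option autoImplicit false
set_option linter.unusedSectionVars false
set_option linter.unusedSimpArgs false

namespace CfsgLib.Classical.QutritMax

open Matrix
open scoped Kronecker

theorem three_zero : (3 : ZMod 3) = 0 := by decide

theorem half_table : ∀ i : ZMod 3, i ≠ 0 → i = 1 ∨ i = 2 := by decide

theorem sep_table : ∀ a b d a' b' d' : ZMod 3, a ≠ 0 → a = a' → b - d = b' - d' → a * d = a' * d' →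
    b = b' ∧ d = d' := by decide +kernel

theorem x_P1_table : ∀ s t k : ZMod 3, t = 2 * s → (t = k ↔ s = 2 * k) := by decide

variable {F : Type*} [Field F] {ω : F} {p : ℕ} {H : Subgroup (M9 F)ˣ}

theorem Za_dg (h : Root ω) (j : ZMod 3) : (Za : M9 F) * dg ω (dot (j, 0)) = dg ω (dot (j + j, 0)) * Za := by
  rw [Za, Matrix.smul_mul, Matrix.mul_smul, pm_mul_dg]
  congr 3
  funext v
  have key : ∀ a b : ZMod 3, j * -a + 0 * b = (j + j) * a + 0 * b := by
    intro a b; linear_combination (-j * a) * three_zero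
  exact key v.1 v.2

theorem Za_blk (A : Matrix (ZMod 3) (ZMod 3) F) : (Za : M9 F) * blk A = blk A * Za := by
  rw [Za, Matrix.smul_mul, Matrix.mul_smul]
  congr 1
  ext ⟨a, b⟩ ⟨c, d⟩
  rw [pm_mul_apply, mul_pm_apply]
  simp only [blk, kroneckerMap_apply, Equiv.prodCongr_symm, Equiv.prodCongr_apply, Prod.map, Equiv.refl_symm,
    Equiv.refl_apply, Equiv.neg_symm, Equiv.neg_apply, Matrix.one_apply, neg_eq_iff_eq_neg]

theorem Zp_Bv01 : (Zp : M9 F) * Bv ω (0, 1) = Rm ω 0 (0, 0) (0, 2) * Zp := by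
  rw [Bv01, Rm, wp_zero, one_smul, Prod.mk_zero_zero, sh_zero, one_mul, ← signed_negB, Matrix.smul_mul, Matrix.mul_smul,
    pm_mul_dg]
  congr 3
  funext v
  have key : ∀ a b : ZMod 3, 0 * a + 1 * -b = 0 * a + 2 * b := by decide
  exact key v.1 v.2

theorem Zp_Bv10 : (Zp : M9 F) * Bv ω (1, 0) = Rm ω 0 (0, 2) (0, 0) * Zp := by
  rw [Bv10, Rm, wp_zero, one_smul, Prod.mk_zero_zero, show dot (0 : Pt) = fun _ => (0 : ZMod 3) from funext zero_dot,
    dg_zero, mul_one, ← signed_negB, Matrix.smul_mul, Matrix.mul_smul, pm_sh negB_add]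
  congr 3

theorem Zp_P1 : (Zp : M9 F) * P1 0 = P1 0 * Zp := bd_P1 _ _

theorem trace_Zp : (Zp : M9 F).trace = -3 ∧ ((Zp : M9 F) * P1 0).trace = -1 := by
  have h : ∀ s : Pt, (Zp : M9 F) s s = if s.2 = 0 then -1 else 0 := by
    rintro ⟨a, b⟩
    rw [Zp, bd_apply, if_pos rfl]
    rcases zmod3_cases b with rfl | rfl | rfl <;>
      simp [Par3, show (2 : ZMod 3) ≠ 0 by decide, show (1 : ZMod 3) ≠ -1 by decide, show -(2 : ZMod 3) = 1 by decide,
        show (2 : ZMod 3) ≠ 1 by decide]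
  constructor
  · rw [Matrix.trace, Fintype.sum_prod_type]
    simp only [diag_apply, h, sum3, if_pos, if_neg (show (1 : ZMod 3) ≠ 0 by decide),
      if_neg (show (2 : ZMod 3) ≠ 0 by decide)]
    ring
  · rw [trace_P1_row, Matrix.trace]
    simp only [diag_apply, row_apply, h, sum3, if_pos, if_neg (show (1 : ZMod 3) ≠ 0 by decide),
      if_neg (show (2 : ZMod 3) ≠ 0 by decide)]
    ring

namespace Amb

variable (hH : Amb ω p H)
include hH

theorem lift_image {z : (M9 F)ˣ} (hnor : Nor ω (z : M9 F)) (hx : (z : M9 F) * xM ω = xM ω * (z : M9 F)) (v : Pt) :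
    ∃ k u i w, (z : M9 F) * Bv ω v = Rm ω k (0, u) (i, w) * (z : M9 F) := by
  have hω := hH.root
  obtain ⟨s, ⟨k, u, t, rfl⟩, e⟩ := hnor (Bv ω v) ⟨_, _, _, rfl⟩
  have e1 : (xM ω : M9 F) = Rm ω 0 0 (1, 0) := by simp [Rm, wp_zero, sh_zero, xM]
  have hxx : (Bv ω v : M9 F) * xM ω = xM ω * Bv ω v := by
    rw [e1, Bv, Rm_mul hω, Rm_mul hω]
    congr 1 <;> simp [dot, add_comm]
  have hs : (Rm ω k u t : M9 F) * xM ω = xM ω * Rm ω k u t := by
    refine (Units.mul_left_inj z).1 ?_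
    rw [mul_assoc, mul_assoc, ← hx, ← mul_assoc, ← e, mul_assoc, hxx, ← mul_assoc, hx, mul_assoc]
  rw [e1, Rm_mul hω, Rm_mul hω] at hs
  have := (Rm_injective hω hs).1
  simp [dot] at this
  obtain ⟨u1, u2⟩ := u
  obtain rfl : u1 = 0 := this
  exact ⟨k, u2, t.1, t.2, e⟩

/-- An involution in the derived group commuting with the central generator cannot occur. -/
theorem invol_fixing_x (hN : NoTr H) {z : (M9 F)ˣ} (hz : z ∈ H) (hz1 : z ≠ 1) (hzz : (z : M9 F) * (z : M9 F) = 1)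
    (hP : (z : M9 F) * P1 0 = (P1 0 : M9 F) * (z : M9 F)) (hx : (z : M9 F) * xM ω = xM ω * (z : M9 F))
    (htr : (z : M9 F).trace - 2 * ((z : M9 F) * P1 0).trace = 3) : False := by
  have hω := hH.root
  have hnor := hH.nor_cent_P1 hN hz hP
  obtain ⟨k, u, i, w, e1⟩ := hH.lift_image hnor hx (0, 1)
  obtain ⟨k', u', i', w', e2⟩ := hH.lift_image hnor hx (1, 0)
  have back : ∀ {A B : M9 F}, (z : M9 F) * A = B * (z : M9 F) → (z : M9 F) * B = A * (z : M9 F) := by
    intro A B e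
    calc (z : M9 F) * B = (z : M9 F) * (B * (z : M9 F)) * (z : M9 F) := by simp only [mul_assoc, hzz, mul_one]
      _ = A * (z : M9 F) := by rw [← e, ← mul_assoc, hzz, one_mul]
  have pair : ∀ {A B C D : M9 F}, (z : M9 F) * A = B * (z : M9 F) → (z : M9 F) * C = D * (z : M9 F) →
      (z : M9 F) * (A * C) = B * D * (z : M9 F) := fun {A B C D} a c => by
    rw [← mul_assoc, a, mul_assoc, c, mul_assoc]
  have shift : ∀ (a b : ZMod 3) (U W : Pt), (Rm ω (a + b) U W : M9 F) = wp ω b • Rm ω a U W := fun a b U W => by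
    rw [Rm, Rm, smul_smul, ← wp_add hω, add_comm a b]
  have scalar_back : ∀ {a b c : ZMod 3} {U W U' W' : Pt}, (z : M9 F) * Rm ω a U W = Rm ω c U' W' * (z : M9 F) →
      (z : M9 F) * Rm ω (a + b) U W = Rm ω (c + b) U' W' * (z : M9 F) := fun {a b c U W U' W'} e => by
    rw [shift, shift, Matrix.mul_smul, e, Matrix.smul_mul]
  have unique : ∀ {a c : ZMod 3} {U W U' W' : Pt}, (Rm ω a U W : M9 F) * (z : M9 F) = Rm ω c U' W' * (z : M9 F) → a = c :=
    fun {a c U W U' W'} e => (Rm_injective hω ((Units.mul_left_inj z).1 e)).1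
  -- the lift of the phase stays on its line
  have hu : u = 0 := by
    have f1 := pair (back e1) e1
    have f2 := pair e1 (back e1)
    rw [Bv, Rm_mul hω, Rm_mul hω] at f1 f2
    simp only [dot, Prod.mk_add_mk, add_zero, zero_add, mul_zero, zero_mul, one_mul] at f1 f2
    rw [add_comm ((1 : ZMod 3)) w] at f1
    have g := scalar_back (b := u) f1
    rw [add_comm (1 : ZMod 3) w] at f2
    have := unique (f2.symm.trans g)
    exact shift_two u (by linear_combination -this)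
  have hw : w' = 0 := by
    have f1 := pair (back e2) e2
    have f2 := pair e2 (back e2)
    rw [Bv, Rm_mul hω, Rm_mul hω] at f1 f2
    simp only [dot, Prod.mk_add_mk, add_zero, zero_add, mul_zero, zero_mul, mul_one] at f1 f2
    rw [add_comm (1 : ZMod 3) u'] at f1 f2
    have g := scalar_back (b := w') f2
    have := unique (f1.symm.trans g)
    exact shift_two w' (by linear_combination -this)
  subst hu hw
  -- the form is preserved
  have hdet : k + k' + 1 = k + k' + w * u' := by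
    have f1 := pair e1 e2
    have f2 := pair e2 e1
    rw [Bv, Bv, Rm_mul hω, Rm_mul hω] at f1 f2
    simp only [dot, Prod.mk_add_mk, add_zero, zero_add, mul_zero, zero_mul, one_mul] at f1 f2
    have g := scalar_back (b := 1) f2
    rw [zero_add, add_comm k' k, add_comm i' i] at g
    exact unique (g.symm.trans f1)
  rcases sigma_table u' w (k + k') hdet with ⟨rfl, rfl⟩ | ⟨rfl, rfl⟩
  · -- trivial on classes
    have triv : ∀ {c i : ZMod 3} {v : Pt}, (z : M9 F) * Bv ω v = Rm ω c (0, v.1) (i, v.2) * (z : M9 F) →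
        (z : M9 F) * Bv ω v = Bv ω v * (z : M9 F) := by
      intro c i v e
      have e' := step_class hω hx e c i
      rw [back e] at e'
      obtain ⟨a, -, b⟩ := Rm_injective hω (show (Rm ω 0 (0, v.1) (0, v.2) : M9 F) = Rm ω (c + c) (0, v.1) (i + i, v.2) from
        (Units.mul_left_inj z).1 e')
      rw [e, shift_two c a.symm, shift_two i (Prod.ext_iff.1 b).1.symm, Bv]
    obtain ⟨l, f, -, hl, ez⟩ := hH.scalar_member hN hz hx (triv (v := (0, 1)) e1) (triv (v := (1, 0)) e2)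
    exact hz1 (Units.ext (by rw [ez] at hzz; rw [ez, hH.scaled_sq hl hzz, Units.val_one]))
  · -- the negation
    obtain ⟨e, he⟩ := hH.exists_Mv k i k' i'
    obtain ⟨z', hz'⟩ : ∃ z', z' = e⁻¹ * z * e := ⟨_, rfl⟩
    have hei : ∀ {A B : M9 F}, (e : M9 F) * A = B * (e : M9 F) → ((e⁻¹ : (M9 F)ˣ) : M9 F) * B = A * ((e⁻¹ : (M9 F)ˣ) : M9 F) := by
      intro A B h
      calc ((e⁻¹ : (M9 F)ˣ) : M9 F) * B = ((e⁻¹ : (M9 F)ˣ) : M9 F) * (B * (e : M9 F)) * ((e⁻¹ : (M9 F)ˣ) : M9 F) := by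
            simp only [mul_assoc, Units.mul_inv, mul_one]
        _ = A * ((e⁻¹ : (M9 F)ˣ) : M9 F) := by rw [← h, ← mul_assoc, Units.inv_mul, one_mul]
    have hz'x : (z' : M9 F) * xM ω = xM ω * (z' : M9 F) := by
      rw [hz', Units.val_mul, Units.val_mul]
      exact ((Commute.mul_left (Commute.units_inv_left he.cx) hx).mul_left he.cx : _)
    have a1 : (z' : M9 F) * Bv ω (0, 1) = Rm ω 0 (0, 0) (0, 2) * (z' : M9 F) := by
      have h2 := pair (A := Bv ω (0, 1)) (C := Bv ω (0, 1)) (B := Rm ω k (0, 0) (i, 2)) e1 e1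
      have g : (z : M9 F) * Rm ω k (0, 0) (i, 1) = Rm ω (k + k) (0, 0) (i + i, 2) * (z : M9 F) :=
        step_class hω hx (v := (0, 1)) (w := (0, 2)) e1 k i
      have sq : (e : M9 F) * Rm ω 0 (0, 0) (0, 2) = Rm ω (k + k) (0, 0) (i + i, 2) * (e : M9 F) := by
        have hB : (Bv ω (0, 1) * Bv ω (0, 1) : M9 F) = Rm ω 0 (0, 0) (0, 2) := by
          rw [Bv, Rm_mul hω]
          simp only [dot, Prod.mk_add_mk, add_zero, mul_zero, zero_mul, show (1 : ZMod 3) + 1 = 2 by decide]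
        rw [← hB, ← mul_assoc, he.eq1, mul_assoc, he.eq1, ← mul_assoc, Rm_mul hω]
        simp only [dot, Prod.mk_add_mk, add_zero, mul_zero, zero_mul, show (1 : ZMod 3) + 1 = 2 by decide]
      simp only [hz', Units.val_mul, mul_assoc]
      rw [he.eq1, ← mul_assoc (z : M9 F), g, ← mul_assoc, ← mul_assoc, hei sq]
      simp only [mul_assoc]
    have a2 : (z' : M9 F) * Bv ω (1, 0) = Rm ω 0 (0, 2) (0, 0) * (z' : M9 F) := by
      have g : (z : M9 F) * Rm ω k' (0, 1) (i', 0) = Rm ω (k' + k') (0, 2) (i' + i', 0) * (z : M9 F) :=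
        step_class hω hx (v := (1, 0)) (w := (2, 0)) e2 k' i'
      have sq : (e : M9 F) * Rm ω 0 (0, 2) (0, 0) = Rm ω (k' + k') (0, 2) (i' + i', 0) * (e : M9 F) := by
        have hB : (Bv ω (1, 0) * Bv ω (1, 0) : M9 F) = Rm ω 0 (0, 2) (0, 0) := by
          rw [Bv, Rm_mul hω]
          simp only [dot, Prod.mk_add_mk, add_zero, mul_zero, zero_mul, show (1 : ZMod 3) + 1 = 2 by decide]
        rw [← hB, ← mul_assoc, he.eq2, mul_assoc, he.eq2, ← mul_assoc, Rm_mul hω]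
        simp only [dot, Prod.mk_add_mk, add_zero, mul_zero, zero_mul, show (1 : ZMod 3) + 1 = 2 by decide]
      simp only [hz', Units.val_mul, mul_assoc]
      rw [he.eq2, ← mul_assoc (z : M9 F), g, ← mul_assoc, ← mul_assoc, hei sq]
      simp only [mul_assoc]
    obtain ⟨Z, hZ, eZ⟩ := hH.in_Zp
    have hz'H : z' ∈ H := hz' ▸ mul_mem (mul_mem (inv_mem he.mem) hz) he.mem
    have hz'2 : z' * z' = 1 := by
      rw [hz', show e⁻¹ * z * e * (e⁻¹ * z * e) = e⁻¹ * (z * z) * e by group,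
        show z * z = 1 from Units.ext (by rw [Units.val_mul, hzz, Units.val_one])]
      group
    have hZ2 : Z * Z = 1 := Units.ext (by rw [Units.val_mul, eZ, Zp_mul_self, Units.val_one])
    have hZb : ∀ {A B : M9 F}, (Zp : M9 F) * A = B * Zp → (Zp : M9 F) * B = A * Zp := fun {A B} h => by
      calc (Zp : M9 F) * B = Zp * (B * Zp) * Zp := by simp only [mul_assoc, Zp_mul_self, mul_one]
        _ = A * Zp := by rw [← h, ← mul_assoc, Zp_mul_self, one_mul]
    obtain ⟨l, f, hf, hl, ed⟩ := hH.scalar_member hN (z := Z * z') (mul_mem hZ hz'H)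
      (by rw [Units.val_mul, eZ]; exact (Commute.mul_left (show (Zp : M9 F) * xM ω = xM ω * Zp from bd_x _) hz'x : _))
      (by rw [Units.val_mul, eZ, mul_assoc, a1, ← mul_assoc, hZb Zp_Bv01, mul_assoc])
      (by rw [Units.val_mul, eZ, mul_assoc, a2, ← mul_assoc, hZb Zp_Bv10, mul_assoc])
    have hconj := conj_to_basic hZ2 hz'2 rfl (hH.scaled_pow_nine hl ed)
    obtain ⟨c, hc⟩ : ∃ c, c = e * (Z * z') ^ 4 := ⟨_, rfl⟩
    have hcP : (c : M9 F) * P1 0 = (P1 0 : M9 F) * (c : M9 F) := by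
      rw [hc, Units.val_mul, Units.val_pow_eq_pow_val, ed]
      refine (Commute.mul_left he.cp ((show Commute (l • dg ω f) (P1 0 : M9 F) from ?_).pow_left 4) : _)
      show _ = _
      rw [Matrix.smul_mul, Matrix.mul_smul, dg, P1, diagonal_mul_diagonal, diagonal_mul_diagonal]
      congr 2; funext v; ring
    have hcz : c⁻¹ * z * c = Z := by rw [← hconj, hc, hz']; group
    have hz_eq : z = c * Z * c⁻¹ := by rw [← hcz]; group
    have t1 : (z : M9 F).trace = -3 := by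
      rw [hz_eq, Units.val_mul, Units.val_mul, eZ, Matrix.trace_units_conj, trace_Zp.1]
    have t2 : ((z : M9 F) * P1 0).trace = -1 := by
      rw [hz_eq, Units.val_mul, Units.val_mul, eZ, mul_assoc,
        show ((c⁻¹ : (M9 F)ˣ) : M9 F) * P1 0 = P1 0 * ((c⁻¹ : (M9 F)ˣ) : M9 F) from (Commute.units_inv_left hcP : _),
        ← mul_assoc, mul_assoc (c : M9 F), Matrix.trace_units_conj, trace_Zp.2]
    rw [t1, t2] at htr
    exact mul_ne_zero hH.two_ne hH.two_ne (by linear_combination -htr)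

/-- Away from commuting projections, members normalise. -/
theorem nor_all_aux (hN : NoTr H) {g : (M9 F)ˣ} (hg : g ∈ H)
    (hne : (P1 0 : M9 F) * ((g : M9 F) * P1 0 * ((g⁻¹ : (M9 F)ˣ) : M9 F)) ≠
      (g : M9 F) * P1 0 * ((g⁻¹ : (M9 F)ˣ) : M9 F) * P1 0) : Nor ω (g : M9 F) := by
  have hω := hH.root
  have h2 := hH.two_ne
  haveI := hH.finite
  haveI : Finite (M9 F)ˣ := Finite.of_injective _ Units.val_injective
  obtain ⟨T, hT, eT⟩ := hH.exists_T1 0
  obtain ⟨Q, hQ⟩ : ∃ Q, Q = (g : M9 F) * P1 0 * ((g⁻¹ : (M9 F)ˣ) : M9 F) := ⟨_, rfl⟩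
  rw [← hQ] at hne
  have hQQ : Q * Q = Q := by
    rw [hQ]; simp only [mul_assoc]; rw [← mul_assoc ((g⁻¹ : (M9 F)ˣ) : M9 F) (g : M9 F), Units.inv_mul, one_mul,
      ← mul_assoc (P1 0 : M9 F) (P1 0 : M9 F), P1_idem]
  have hTQ : ((g * T * g⁻¹ : (M9 F)ˣ) : M9 F) = tU ω Q := by
    rw [Units.val_mul, Units.val_mul, eT, tU, tU, hQ, mul_add, add_mul, mul_one, Units.mul_inv, mul_smul_comm,
      smul_mul_assoc]
  rcases hH.conj_cases (P1_idem 0) eT hT hg with hc | ⟨z, hz0, hzH, hz1, hzz, hzP, hzQ⟩ | ⟨u, hu0, huH, hu1, hup, huP⟩ |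
    ⟨u, hu0, huH, hu1, -, hs⟩
  · rw [← hQ] at hc; exact absurd hc hne
  · rw [← hQ] at hzQ
    have hznor := hH.nor_cent_P1 hN hzH hzP
    have hfix : ∀ (v : Pt → F) (α β : F), (P1 0 : M9 F) *ᵥ v = α • v → Q *ᵥ v = β • v → (z : M9 F) *ᵥ v = v := by
      intro v α β hα hβ
      refine DGrp.fix (α := 1 + (ω - 1) * α) (β := 1 + (ω - 1) * β) hz0 ?_ ?_
      · rw [eT, tU, add_mulVec, one_mulVec, smul_mulVec, hα, smul_smul, add_smul, one_smul]
      · rw [hTQ, tU, add_mulVec, one_mulVec, smul_mulVec, hβ, smul_smul, add_smul, one_smul]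
    obtain ⟨hb1, hb2⟩ := half_rank h2 (P1_idem 0) hQQ hzz hzP hzQ hfix
    have htr : (z : M9 F).trace - 2 * ((z : M9 F) * P1 0).trace = 3 := by
      have h' := hb1
      rw [hzP]
      simp only [Matrix.mul_smul, mul_sub, mul_one, trace_smul, trace_sub, trace_P1, smul_eq_mul, trace_one,
        show Fintype.card Pt = 9 by decide] at h'
      refine mul_left_cancel₀ (inv_ne_zero h2) ?_
      push_cast at h'
      linear_combination h'
    obtain ⟨i, hi, hconj⟩ := hH.x_conj hN hzH hzP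
    rcases half_table i hi with rfl | rfl
    · exact (hH.invol_fixing_x hN hzH hz1 hzz hzP (by
        have := hconj 1; rwa [one_mul] at this) htr).elim
    -- the involution inverts the central generator
    have supp : ∀ s t, (z : M9 F) s t ≠ 0 → t.1 = 2 * s.1 := by
      intro s t h
      have := congrFun (congrFun (hconj 1) s) t
      rw [dg, dg, mul_diagonal, diagonal_mul, mul_comm] at this
      simpa [dot] using wp_injective hω (mul_right_cancel₀ h this)
    have hd : (z : M9 F).trace = ((z : M9 F) * P1 0).trace := by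
      rw [Matrix.trace, Matrix.trace]
      refine Finset.sum_congr rfl fun s _ => ?_
      rw [diag_apply, diag_apply, P1, mul_diagonal]
      by_cases e : s.1 = 0
      · rw [if_pos e, mul_one]
      · rw [if_neg e, mul_zero]
        by_contra q
        exact e ((show ∀ a : ZMod 3, a = 2 * a → a = 0 by decide) _ (supp s s q))
    have t0 : ((z : M9 F) * P1 0).trace = -3 := by rw [hd] at htr; linear_combination -htr
    have hrow : row (z : M9 F) 0 = -1 := by
      have hR2 : row (z : M9 F) 0 * row (z : M9 F) 0 = 1 := by rw [← row_mul0 _ hzP, hzz, row_one]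
      have h0 : (2 : F)⁻¹ • (1 + row (z : M9 F) 0) = 0 := by
        refine hH.trace_ne _ ?_ ?_
        · rw [Matrix.smul_mul, Matrix.mul_smul, smul_smul]
          have : (1 + row (z : M9 F) 0) * (1 + row (z : M9 F) 0) = (2 : F) • (1 + row (z : M9 F) 0) := by
            simp only [add_mul, mul_add, one_mul, mul_one, hR2]; module
          rw [this, smul_smul, mul_assoc, inv_mul_cancel₀ h2, mul_one]
        · rw [trace_smul, trace_add, trace_one, ← trace_P1_row, t0, ZMod.card]; simp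
      exact eq_neg_of_add_eq_zero_right ((smul_eq_zero.1 h0).resolve_left (inv_ne_zero h2))
    have hzneg : (z : M9 F) * P1 0 = -P1 0 := by
      refine eq_neg_of_add_eq_zero_left (eq_zero_of_row0 ?_ ?_ ?_)
      · rw [add_mul, mul_assoc, P1_idem]
      · rw [mul_add, ← mul_assoc, ← hzP, mul_assoc, P1_idem]
      · have e1 : row ((z : M9 F) * P1 0 + P1 0) 0 = row (z : M9 F) 0 * row (P1 0 : M9 F) 0 + row (P1 0 : M9 F) 0 := by
          rw [← row_mul0 _ hzP]; rfl
        rw [e1, hrow, neg_one_mul, neg_add_cancel]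
    have hfix0 : ∀ b, ((-z : (M9 F)ˣ) : M9 F) *ᵥ Pi.single ((0 : ZMod 3), b) 1 = Pi.single ((0 : ZMod 3), b) 1 := by
      intro b
      have e : (Pi.single ((0 : ZMod 3), b) 1 : Pt → F) = P1 0 *ᵥ Pi.single ((0 : ZMod 3), b) 1 := by
        rw [P1_single, if_pos rfl, one_smul]
      rw [e, mulVec_mulVec, Units.val_neg, neg_mul, hzneg, neg_neg]
    have hlift : ∀ v, ∃ i, (z : M9 F) * Bv ω v = Rm ω 0 (0, v.1) (i, v.2) * (z : M9 F) := by
      intro v
      obtain ⟨i, e⟩ := hH.lifts_of_fixed (t := -z) (by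
        rw [Units.val_neg, ← neg_one_smul F]; exact hznor.smul _) hfix0 v
      rw [Units.val_neg, neg_mul, mul_neg, neg_inj] at e
      exact ⟨i, by rw [e, Rm_split hω, wp_zero, one_smul]⟩
    obtain ⟨i1, e1⟩ := hlift (0, 1)
    obtain ⟨i2, e2⟩ := hlift (1, 0)
    obtain ⟨e, he⟩ := hH.exists_Mv 0 (-i1) 0 (-i2)
    obtain ⟨z', hz'⟩ : ∃ z', z' = e⁻¹ * z * e := ⟨_, rfl⟩
    have hei : ∀ {A B : M9 F}, (e : M9 F) * A = B * (e : M9 F) → ((e⁻¹ : (M9 F)ˣ) : M9 F) * B = A * ((e⁻¹ : (M9 F)ˣ) : M9 F) := by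
      intro A B h
      calc ((e⁻¹ : (M9 F)ˣ) : M9 F) * B = ((e⁻¹ : (M9 F)ˣ) : M9 F) * (B * (e : M9 F)) * ((e⁻¹ : (M9 F)ˣ) : M9 F) := by
            simp only [mul_assoc, Units.mul_inv, mul_one]
        _ = A * ((e⁻¹ : (M9 F)ˣ) : M9 F) := by rw [← h, ← mul_assoc, Units.inv_mul, one_mul]
    have lift : ∀ {i : ZMod 3} {v : Pt}, (z : M9 F) * Bv ω v = Rm ω 0 (0, v.1) (i, v.2) * (z : M9 F) →
        (e : M9 F) * Bv ω v = Rm ω 0 (0, v.1) (-i, v.2) * (e : M9 F) →
        (z' : M9 F) * Bv ω v = Bv ω v * (z' : M9 F) := by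
      intro i v hzv hev
      have g : (z : M9 F) * Rm ω 0 (0, v.1) (-i, v.2) = Rm ω 0 (0, v.1) (-i, v.2) * (z : M9 F) := by
        rw [Rm_split hω 0 (-i) v, wp_zero, one_smul, ← mul_assoc, hzv, mul_assoc, hconj, ← mul_assoc, Rm_split hω,
          wp_zero, one_smul, mul_assoc (Bv ω v), dg_mul hω]
        congr 3
        funext w
        simp only [Pi.add_apply, dot]
        linear_combination (-(i * w.1)) * three_zero + (i * w.1) * three_zero
      simp only [hz', Units.val_mul, mul_assoc]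
      rw [hev, ← mul_assoc (z : M9 F), g, ← mul_assoc, ← mul_assoc, hei hev]
      simp only [mul_assoc]
    have a1 := lift e1 he.eq1
    have a2 := lift e2 he.eq2
    have hz'x : (z' : M9 F) * dg ω (dot (1, 0)) = dg ω (dot (2, 0)) * (z' : M9 F) := by
      have c2 : ((e⁻¹ : (M9 F)ˣ) : M9 F) * dg ω (dot (2, 0)) = dg ω (dot (2, 0)) * ((e⁻¹ : (M9 F)ˣ) : M9 F) :=
        dgi_comm hω (Commute.units_inv_left he.cx : _) 2
      simp only [hz', Units.val_mul, mul_assoc]
      rw [show (e : M9 F) * dg ω (dot (1, 0)) = dg ω (dot (1, 0)) * (e : M9 F) from he.cx, ← mul_assoc (z : M9 F), hconj,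
        mul_one, ← mul_assoc, ← mul_assoc, c2]
      simp only [mul_assoc]
    obtain ⟨Z, hZ, eZ⟩ := hH.in_Za
    have hz'H : z' ∈ H := hz' ▸ mul_mem (mul_mem (inv_mem he.mem) hzH) he.mem
    have hz'2 : z' * z' = 1 := by
      rw [hz', show e⁻¹ * z * e * (e⁻¹ * z * e) = e⁻¹ * (z * z) * e by group,
        show z * z = 1 from Units.ext (by rw [Units.val_mul, hzz, Units.val_one])]
      group
    have hZ2 : Z * Z = 1 := Units.ext (by rw [Units.val_mul, eZ, Za_mul_self, Units.val_one])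
    have hblk : ∀ v : Pt, v = (0, 1) ∨ v = (1, 0) → (Za : M9 F) * Bv ω v = Bv ω v * Za := by
      rintro v (rfl | rfl)
      · rw [Bv01, dg01, Za_blk]
      · rw [Bv10, sh01, Za_blk]
    obtain ⟨l, f, hf, hl, ed⟩ := hH.scalar_member hN (z := Z * z') (mul_mem hZ hz'H)
      (by
        rw [Units.val_mul, eZ, xM, mul_assoc, hz'x, ← mul_assoc, Za_dg hω, show (2 : ZMod 3) + 2 = 1 by decide,
          mul_assoc])
      (by rw [Units.val_mul, eZ, mul_assoc, a1, ← mul_assoc, hblk _ (Or.inl rfl), mul_assoc])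
      (by rw [Units.val_mul, eZ, mul_assoc, a2, ← mul_assoc, hblk _ (Or.inr rfl), mul_assoc])
    have hcv := conj_to_basic hZ2 hz'2 rfl (hH.scaled_pow_nine hl ed)
    obtain ⟨c, hc⟩ : ∃ c, c = e * (Z * z') ^ 4 := ⟨_, rfl⟩
    have hcH : c ∈ H := hc ▸ mul_mem he.mem (pow_mem (mul_mem hZ hz'H) 4)
    have hcN : c ∈ hH.norG := by
      rw [hc]
      refine mul_mem (hH.mem_norG.2 he.nor) (pow_mem (hH.mem_norG.2 ?_) 4)
      rw [ed]; exact (nor_dg hω hf).smul l
    have hcP : (c : M9 F) * P1 0 = (P1 0 : M9 F) * (c : M9 F) := by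
      rw [hc, Units.val_mul, Units.val_pow_eq_pow_val, ed]
      refine (Commute.mul_left he.cp ((show Commute (l • dg ω f) (P1 0 : M9 F) from ?_).pow_left 4) : _)
      show _ = _
      rw [Matrix.smul_mul, Matrix.mul_smul, dg, P1, diagonal_mul_diagonal, diagonal_mul_diagonal]
      congr 2; funext v; ring
    have hcz : c⁻¹ * z * c = Z := by rw [← hcv, hc, hz']; group
    -- the conjugate projection vanishes on the plus space
    have hplus : Q * (1 + (z : M9 F)) = 0 := by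
      have hPe : (P1 0 : M9 F) * ((2 : F)⁻¹ • (1 - (z : M9 F))) = P1 0 := by
        rw [Matrix.mul_smul, mul_sub, mul_one, ← hzP, hzneg, sub_neg_eq_add, ← two_smul F, smul_smul,
          inv_mul_cancel₀ h2, one_smul]
      rw [hPe, trace_P1] at hb2
      obtain ⟨E, hE⟩ : ∃ E, E = ((g⁻¹ : (M9 F)ˣ) : M9 F) * (Q * (1 + (z : M9 F))) * (g : M9 F) := ⟨_, rfl⟩
      have hgQ : ((g⁻¹ : (M9 F)ˣ) : M9 F) * Q = P1 0 * ((g⁻¹ : (M9 F)ˣ) : M9 F) := by
        rw [hQ, ← mul_assoc, ← mul_assoc, Units.inv_mul, one_mul]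
      have hQg : Q * (g : M9 F) = (g : M9 F) * P1 0 := by rw [hQ, mul_assoc, Units.inv_mul, mul_one]
      have hc1 : (1 + (z : M9 F)) * Q = Q * (1 + (z : M9 F)) := by rw [add_mul, mul_add, one_mul, mul_one, hzQ]
      have hEl : P1 0 * E = E := by
        rw [hE, ← mul_assoc, ← mul_assoc, ← hgQ, mul_assoc ((g⁻¹ : (M9 F)ˣ) : M9 F) Q, ← mul_assoc Q Q, hQQ]
      have hEr : E * P1 0 = E := by
        rw [hE, mul_assoc _ (g : M9 F), ← hQg]
        simp only [mul_assoc]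
        rw [← mul_assoc (1 + (z : M9 F)) Q, hc1, mul_assoc Q, ← mul_assoc Q Q, hQQ]
      have hEE : E * E = (2 : F) • E := by
        have e3 : (1 + (z : M9 F)) * (1 + (z : M9 F)) = (2 : F) • (1 + (z : M9 F)) := by
          simp only [add_mul, mul_add, one_mul, mul_one, hzz]; module
        have e4 : (Q * (1 + (z : M9 F))) * (Q * (1 + (z : M9 F))) = (2 : F) • (Q * (1 + (z : M9 F))) := by
          rw [mul_assoc Q (1 + (z : M9 F)), ← mul_assoc (1 + (z : M9 F)) Q, hc1, mul_assoc Q (1 + (z : M9 F)), e3,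
            ← mul_assoc Q Q, hQQ, Matrix.mul_smul]
        rw [hE]
        calc ((g⁻¹ : (M9 F)ˣ) : M9 F) * (Q * (1 + (z : M9 F))) * (g : M9 F) * (((g⁻¹ : (M9 F)ˣ) : M9 F) * (Q * (1 + (z : M9 F))) * (g : M9 F))
            = ((g⁻¹ : (M9 F)ˣ) : M9 F) * ((Q * (1 + (z : M9 F))) * (Q * (1 + (z : M9 F)))) * (g : M9 F) := by
              simp only [mul_assoc, Units.mul_inv_cancel_left]
          _ = _ := by rw [e4, Matrix.mul_smul, Matrix.smul_mul]
      have hEP : E * P1 0 = (P1 0 : M9 F) * E := hEr.trans hEl.symm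
      have htE : E.trace = 0 := by
        have hQt : Q.trace = 3 := by rw [hQ, Matrix.trace_units_conj, trace_P1]
        rw [hE, Matrix.trace_units_conj', mul_add, mul_one, trace_add]
        simp only [Matrix.mul_smul, mul_sub, mul_one, trace_smul, trace_sub, smul_eq_mul, hQt] at hb2
        rw [hQt]
        have := congrArg (fun x => (2 : F) * x) hb2
        field_simp at this
        linear_combination -this
      have hrowE : (2 : F)⁻¹ • row E 0 = 0 := by
        refine hH.trace_ne _ ?_ ?_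
        · rw [Matrix.smul_mul, Matrix.mul_smul, smul_smul, ← row_mul0 _ hEP, hEE,
            show row ((2 : F) • E) 0 = (2 : F) • row E 0 from rfl, smul_smul, mul_assoc, inv_mul_cancel₀ h2, mul_one]
        · rw [trace_smul, ← trace_P1_row, hEr, htE, smul_zero]
      have hE0 : E = 0 := eq_zero_of_row0 hEr hEl ((smul_eq_zero.1 hrowE).resolve_left (inv_ne_zero h2))
      have := congrArg (fun A => (g : M9 F) * A * ((g⁻¹ : (M9 F)ˣ) : M9 F)) hE
      simp only [hE0, mul_zero, zero_mul, mul_assoc, Units.mul_inv_cancel_left, Units.mul_inv, mul_one] at this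
      exact this.symm
    -- exchange the coordinates
    obtain ⟨S, hS, eS, hSi, hSN⟩ := hH.exists_Sw
    have hSS : S * S = 1 := inv_eq_iff_mul_eq_one.1 hSi
    obtain ⟨g₁, hg₁⟩ : ∃ g₁, g₁ = c⁻¹ * g := ⟨_, rfl⟩
    obtain ⟨g₂, hg₂⟩ : ∃ g₂, g₂ = S * g₁ * S := ⟨_, rfl⟩
    have hg₂H : g₂ ∈ H := hg₂ ▸ mul_mem (mul_mem hS (hg₁ ▸ mul_mem (inv_mem hcH) hg)) hS
    obtain ⟨T₂, hT₂, eT₂, eT₂'⟩ := hH.K2_T
    have eTS : T₂ = S * T * S := Units.ext (by
      rw [Units.val_mul, Units.val_mul, eS, eT, eT₂, tU, tU, mul_add, add_mul, mul_one, Sw_mul_self, Matrix.mul_smul,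
        Matrix.smul_mul, Sw_P1, mul_assoc, Sw_mul_self, mul_one])
    have hTc : c * T = T * c := Units.ext (by
      rw [Units.val_mul, Units.val_mul, eT]
      exact ((tU_comm hω.cube).2 (show Commute (c : M9 F) (P1 0) from hcP)).eq)
    obtain ⟨D, hD⟩ : ∃ D, D = S * c⁻¹ := ⟨_, rfl⟩
    have hconjT : g₂ * T₂ * g₂⁻¹ = D * (g * T * g⁻¹) * D⁻¹ := by
      rw [hg₂, hg₁, eTS, hD]
      rw [show S * (c⁻¹ * g) * S * (S * T * S) * (S * (c⁻¹ * g) * S)⁻¹ =
        S * (c⁻¹ * g) * (S * S) * T * (S * S) * (S * S)⁻¹ * (c⁻¹ * g)⁻¹ * S⁻¹ by group, hSS]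
      group
    obtain ⟨Z2, hZ2', eZ2'⟩ := hH.K2_Z
    have eD : Units.val D * (z : M9 F) = Zp * (D : M9 F) := by
      have h1 : D * z = (S * Z * S) * D := by
        rw [hD, ← hcz, show S * (c⁻¹ * z * c) * S * (S * c⁻¹) = S * c⁻¹ * z * c * (S * S) * c⁻¹ by group, hSS]
        group
      have h2' : ((S * Z * S : (M9 F)ˣ) : M9 F) = Zp := by
        rw [Units.val_mul, Units.val_mul, eS, eZ, Sw_Za, mul_assoc, Sw_mul_self, mul_one]
      have := congrArg Units.val h1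
      rwa [Units.val_mul, Units.val_mul, h2'] at this
    have hDi : ((D⁻¹ : (M9 F)ˣ) : M9 F) * Zp = (z : M9 F) * ((D⁻¹ : (M9 F)ˣ) : M9 F) := by
      calc ((D⁻¹ : (M9 F)ˣ) : M9 F) * Zp = ((D⁻¹ : (M9 F)ˣ) : M9 F) * (Zp * (D : M9 F)) * ((D⁻¹ : (M9 F)ˣ) : M9 F) := by
            simp only [mul_assoc, Units.mul_inv, mul_one]
        _ = (z : M9 F) * ((D⁻¹ : (M9 F)ˣ) : M9 F) := by rw [← eD, ← mul_assoc, Units.inv_mul, one_mul]
    have hK : g₂ * T₂ * g₂⁻¹ ∈ K2 H := by
      refine ⟨mul_mem (mul_mem hg₂H hT₂.1) (inv_mem hg₂H), ?_, ?_⟩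
      · rw [hconjT, Units.val_mul, Units.val_mul, hTQ]
        have cz : tU ω Q * (z : M9 F) = (z : M9 F) * tU ω Q := by
          exact ((tU_comm hω.cube).2 (show Commute (z : M9 F) Q from hzQ)).symm.eq
        calc (D : M9 F) * tU ω Q * ((D⁻¹ : (M9 F)ˣ) : M9 F) * Zp
            = (D : M9 F) * (tU ω Q * (z : M9 F)) * ((D⁻¹ : (M9 F)ˣ) : M9 F) := by simp only [mul_assoc, hDi]
          _ = Zp * ((D : M9 F) * tU ω Q * ((D⁻¹ : (M9 F)ˣ) : M9 F)) := by
            rw [cz, ← mul_assoc (D : M9 F), eD]; simp only [mul_assoc]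
      · rw [hconjT, Units.val_mul, Units.val_mul, hTQ, mul_assoc, mul_add, mul_one, hDi]
        have h1 : ((D⁻¹ : (M9 F)ˣ) : M9 F) + (z : M9 F) * ((D⁻¹ : (M9 F)ˣ) : M9 F) = (1 + (z : M9 F)) * ((D⁻¹ : (M9 F)ˣ) : M9 F) := by
          rw [add_mul, one_mul]
        rw [h1, ← mul_assoc, mul_assoc (D : M9 F), tU, add_mul, one_mul, smul_mul_assoc, hplus, smul_zero, add_zero,
          mul_add, mul_one, eD, add_mul, Units.mul_inv, mul_assoc, Units.mul_inv, mul_one]
    obtain ⟨k, hk, hkc⟩ := hH.K2_conj hN hT₂ eT₂ eT₂' hK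
    have hv : Nor ω ((k⁻¹ * g₂ : (M9 F)ˣ) : M9 F) := by
      refine hH.nor_cent_P2 hN (mul_mem (inv_mem hk.1) hg₂H) ?_
      refine ((tU_comm hω.cube).1 (show Commute ((k⁻¹ * g₂ : (M9 F)ˣ) : M9 F) (tU ω (P2 0)) from ?_)).eq
      rw [← eT₂]
      exact congrArg Units.val hkc
    have hg₂N : g₂ ∈ hH.norG := by
      have := mul_mem (hH.K2_le_norG hN hk) (hH.mem_norG.2 hv)
      rwa [mul_inv_cancel_left] at this
    have := mul_mem hcN (mul_mem (mul_mem (hH.mem_norG.2 hSN) hg₂N) (hH.mem_norG.2 hSN))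
    rwa [hg₂, show S * (S * g₁ * S) * S = (S * S) * g₁ * (S * S) by group, hSS, one_mul, mul_one, hg₁,
      mul_inv_cancel_left] at this
  · exfalso
    obtain ⟨i, hi, hconj⟩ := hH.x_conj hN huH huP
    have hpow : ∀ n : ℕ, ((u : M9 F) ^ n) * dg ω (dot (1, 0)) = dg ω (dot (i ^ n, 0)) * (u : M9 F) ^ n := by
      intro n
      induction n with
      | zero => rw [pow_zero, pow_zero, one_mul, mul_one]
      | succ n ih => rw [pow_succ', mul_assoc, ih, ← mul_assoc, hconj, mul_assoc, ← pow_succ' i]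
    have e := hpow p
    rw [hup, one_mul, mul_one] at e
    have e2 : (Rm ω 0 0 (1, 0) : M9 F) = Rm ω 0 0 (i ^ p, 0) := by
      rw [Rm, Rm, sh_zero, one_mul, one_mul, ← e]
    have hip : i ^ p = 1 := (Prod.ext_iff.1 (Rm_injective hω e2).2.2).1.symm
    have hi1 : i = 1 := by
      rcases half_table i hi with rfl | rfl
      · rfl
      · exfalso
        have hodd : Odd p := hH.prime.odd_of_ne_two (by have := hH.seven; omega)
        rw [two_mul_two, hodd.neg_one_pow] at hip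
        exact absurd hip (by decide)
    subst hi1
    have hx := hconj 1
    rw [one_mul] at hx
    exact hu1 (hH.cent_x_pow_p hN huH hx hup)
  · exfalso
    have hPl : ∀ s t, (P1 0 * ((u : M9 F) - 1) : M9 F) s t = if s.1 = 0 then ((u : M9 F) - 1) s t else 0 := fun s t => by
      rw [P1, diagonal_mul]; split_ifs <;> simp
    have hPr : ∀ s t, (((u : M9 F) - 1) * P1 0 : M9 F) s t = if t.1 = 0 then ((u : M9 F) - 1) s t else 0 := fun s t => by
      rw [P1, mul_diagonal]; split_ifs <;> simp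
    have qa : Quadr (fun w : Pt => w.1) := ⟨0, 1, 0, 0, 0, 0, funext fun w => by ring⟩
    have qb : Quadr (fun w : Pt => w.2) := ⟨0, 0, 1, 0, 0, 0, funext fun w => by ring⟩
    have qab : Quadr (fun w : Pt => w.1 * w.2) := ⟨0, 0, 0, 0, 1, 0, funext fun w => by ring⟩
    have hM : In H (1 + ((u : M9 F) - 1)) := ⟨u, huH, by rw [add_sub_cancel]⟩
    refine hu1 (Units.ext ((sub_eq_zero.1 ?_).trans Units.val_one.symm))
    rcases hs with ⟨e1, e2⟩ | ⟨e1, e2⟩
    · refine hH.no_supported_three hN (S := fun s t => s.1 = 0 ∧ t.1 ≠ 0) qa qb qab ?_ ?_ hM fun s t h => ⟨?_, fun e => h ?_⟩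
      · rintro ⟨a, b⟩ ⟨c, d⟩ ⟨a', b'⟩ ⟨c', d'⟩ ⟨r1, r2⟩ ⟨q1, q2⟩ h1 h2 h3
        simp only at r1 r2 q1 q2 h1 h2 h3
        subst r1 q1
        simp only [zero_sub, neg_inj, zero_mul] at h1 h3
        obtain ⟨rfl, rfl⟩ := sep_table c b d c' b' d' r2 h1 h2 h3
        exact ⟨rfl, Prod.ext h1 rfl⟩
      · rintro s t s' t' ⟨-, h2⟩ ⟨h1, -⟩ rfl; exact h2 h1
      · by_contra e; exact h (by rw [← congrFun (congrFun e1 s) t, hPl, if_neg e])
      · have := congrFun (congrFun e2 s) t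
        rwa [hPr, if_pos e, Matrix.zero_apply] at this
    · refine hH.no_supported_three hN (S := fun s t => s.1 ≠ 0 ∧ t.1 = 0) qa qb qab ?_ ?_ hM fun s t h => ⟨fun e => h ?_, ?_⟩
      · rintro ⟨a, b⟩ ⟨c, d⟩ ⟨a', b'⟩ ⟨c', d'⟩ ⟨r1, r2⟩ ⟨q1, q2⟩ h1 h2 h3
        simp only at r1 r2 q1 q2 h1 h2 h3
        subst r2 q2
        simp only [sub_zero, zero_mul] at h1 h3
        obtain ⟨rfl, rfl⟩ := sep_table a d b a' d' b' r1 h1 (by linear_combination -h2) h3
        exact ⟨Prod.ext h1 rfl, rfl⟩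
      · rintro s t s' t' ⟨-, h2⟩ ⟨h1, -⟩ rfl; exact h1 h2
      · have := congrFun (congrFun e1 s) t
        rwa [hPl, if_pos e, Matrix.zero_apply] at this
      · by_contra e; exact h (by rw [← congrFun (congrFun e2 s) t, hPr, if_neg e])

/-- Without transvections, every member normalises. -/
theorem nor_all (hN : NoTr H) {g : (M9 F)ˣ} (hg : g ∈ H) : Nor ω (g : M9 F) := by
  have hω := hH.root
  haveI := hH.finite
  haveI : Finite (M9 F)ˣ := Finite.of_injective _ Units.val_injective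
  obtain ⟨Q, hQ⟩ : ∃ Q, Q = (g : M9 F) * P1 0 * ((g⁻¹ : (M9 F)ˣ) : M9 F) := ⟨_, rfl⟩
  have key : ∀ (A : M9 F), (∃ n : (M9 F)ˣ, n ∈ H ∧ Nor ω (n : M9 F) ∧ (n : M9 F) * P1 0 = A * (n : M9 F)) →
      A * Q ≠ Q * A → Nor ω (g : M9 F) := by
    rintro A ⟨n, hn, hnN, hnA⟩ hne
    have h1 : Nor ω ((n⁻¹ * g : (M9 F)ˣ) : M9 F) := by
      refine hH.nor_all_aux hN (mul_mem (inv_mem hn) hg) fun h => hne ?_
      have eQ : ((n⁻¹ * g : (M9 F)ˣ) : M9 F) * P1 0 * (((n⁻¹ * g)⁻¹ : (M9 F)ˣ) : M9 F) =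
          ((n⁻¹ : (M9 F)ˣ) : M9 F) * Q * (n : M9 F) := by
        rw [hQ, _root_.mul_inv_rev, inv_inv, Units.val_mul, Units.val_mul]; simp only [mul_assoc]
      rw [eQ] at h
      have eA : (P1 0 : M9 F) = ((n⁻¹ : (M9 F)ˣ) : M9 F) * A * (n : M9 F) := by
        rw [mul_assoc, ← hnA, ← mul_assoc, Units.inv_mul, one_mul]
      rw [eA] at h
      have h' := congrArg (fun M => (n : M9 F) * M * ((n⁻¹ : (M9 F)ˣ) : M9 F)) h
      simpa [mul_assoc, Units.mul_inv_cancel_left] using h'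
    have := mul_mem (hH.mem_norG.2 hnN) (hH.mem_norG.2 h1)
    rwa [mul_inv_cancel_left] at this
  obtain ⟨S, hS, eS, hSi, hSN⟩ := hH.exists_Sw
  obtain ⟨X, hX, eX⟩ := hH.in_sh ((1, 0) : Pt)
  obtain ⟨Y, hY, eY⟩ := hH.in_sh ((0, 1) : Pt)
  obtain ⟨N, hN', eN⟩ := hH.in_of_nor (nor_blk_n3 hω) (det_blk_n3 hω)
  have hsw : (S : M9 F) * P1 0 = P2 0 * (S : M9 F) := by rw [eS, Sw_P1]
  have hNJ : (N : M9 F) * (S : M9 F) * P1 0 = blk J3 * ((N : M9 F) * (S : M9 F)) := by
    rw [mul_assoc, hsw, ← mul_assoc, eN, n3_P2 hω, mul_assoc]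
  by_cases h0 : (P1 0 : M9 F) * Q = Q * P1 0
  swap
  · exact hH.nor_all_aux hN hg (hQ ▸ h0)
  by_cases h1 : (P1 1 : M9 F) * Q = Q * P1 1
  swap
  · refine key _ ⟨X, hX, eX ▸ nor_sh hω _, ?_⟩ h1
    rw [eX, P1, P1, sh, pm_mul_diagonal]
    congr 2
    funext v
    rw [Function.comp_apply]
    refine if_congr ?_ rfl rfl
    simp [Equiv.addRight_symm, ← sub_eq_add_neg, sub_eq_zero]
  by_cases h20 : (P2 0 : M9 F) * Q = Q * P2 0
  swap
  · exact key _ ⟨S, hS, hSN, hsw⟩ h20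
  by_cases h21 : (P2 1 : M9 F) * Q = Q * P2 1
  swap
  · refine key _ ⟨Y * S, mul_mem hY hS, by rw [Units.val_mul, eY]; exact (nor_sh hω _).mul hSN, ?_⟩ h21
    rw [Units.val_mul, mul_assoc, hsw, ← mul_assoc, eY, sh01_P2, zero_add, mul_assoc]
  by_cases hJ : blk (J3 : Matrix (ZMod 3) (ZMod 3) F) * Q = Q * blk J3
  swap
  · exact key _ ⟨N * S, mul_mem hN' hS, by rw [Units.val_mul, eN]; exact (nor_blk_n3 hω).mul hSN,
      by rw [Units.val_mul]; exact hNJ⟩ hJ
  by_cases hJ' : ((J3 : Matrix (ZMod 3) (ZMod 3) F) ⊗ₖ (1 : Matrix (ZMod 3) (ZMod 3) F)) * Q =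
      Q * ((J3 : Matrix (ZMod 3) (ZMod 3) F) ⊗ₖ (1 : Matrix (ZMod 3) (ZMod 3) F))
  swap
  · refine key _ ⟨S * (N * S), mul_mem hS (mul_mem hN' hS), ?_, ?_⟩ hJ'
    · rw [Units.val_mul, Units.val_mul, eN]; exact hSN.mul ((nor_blk_n3 hω).mul hSN)
    · rw [Units.val_mul, Units.val_mul, mul_assoc, hNJ, ← mul_assoc, eS, Sw_blk]; simp only [mul_assoc]
  exfalso
  have hQQ : Q * Q = Q := by
    rw [hQ]; simp only [mul_assoc]; rw [← mul_assoc ((g⁻¹ : (M9 F)ˣ) : M9 F) (g : M9 F), Units.inv_mul, one_mul,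
      ← mul_assoc (P1 0 : M9 F) (P1 0 : M9 F), P1_idem]
  have hQx := comm_x_of_P1 hω (show (0 : ZMod 3) ≠ 1 by decide) h0.symm h1.symm
  have hd := eq_diagonal_of_comm hω hQx (show (0 : ZMod 3) ≠ 1 by decide) h20.symm h21.symm
  generalize hq : (fun v => Q v v) = q at hd
  have h3 : (3 : F) ≠ 0 := hω.three
  have hb : ∀ a b d, q (a, b) = q (a, d) := by
    intro a b d
    have := congrFun (congrFun hJ (a, b)) (a, d)
    rw [hd, mul_diagonal, diagonal_mul, blk_apply] at this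
    simp only [J3, of_apply, if_true] at this
    exact mul_left_cancel₀ (inv_ne_zero h3) (by linear_combination -this)
  have ha : ∀ a c b, q (a, b) = q (c, b) := by
    intro a c b
    have := congrFun (congrFun hJ' (a, b)) (c, b)
    rw [hd, mul_diagonal, diagonal_mul, kroneckerMap_apply] at this
    simp only [J3, of_apply, Matrix.one_apply_eq, mul_one] at this
    exact mul_left_cancel₀ (inv_ne_zero h3) (by linear_combination -this)
  have hconst : ∀ v, q v = q (0, 0) := fun v => (hb v.1 v.2 0).trans (ha v.1 0 0)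
  have htr : (9 : F) * q (0, 0) = 3 := by
    have h := Matrix.trace_units_conj g (P1 0 : M9 F)
    rw [← hQ, trace_P1, hd, trace_diagonal, Finset.sum_congr rfl fun v _ => hconst v, Finset.sum_const] at h
    simpa [nsmul_eq_mul] using h
  have hqq := congrFun (congrFun hQQ (0, 0)) (0, 0)
  rw [hd, diagonal_mul_diagonal, diagonal_apply_eq, diagonal_apply_eq] at hqq
  have : (3 : F) * 2 * (3 : F) = 0 := by linear_combination -81 * hqq + (9 * q (0, 0) - 6) * htr
  exact mul_ne_zero (mul_ne_zero h3 hH.two_ne) h3 this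

end Amb

end CfsgLib.Classical.QutritMax
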