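import Cfsg.Agent.Lib.Classical.QutritMax.PlusNor

/-!
# Involutions of the derived group of a pair of first-coordinate projections
-/

set_option autoImplicit false
set_option linter.unusedSectionVars false
set_option linter.unusedSimpArgs false

namespace CfsgLib.Classical.QutritMax

open Matrix

theorem shift_two : ∀ a : ZMod 3, a + a = 0 → a = 0 := by decide

theorem sigma_table : ∀ u w k : ZMod 3, k + 1 = k + w * u → (w = 1 ∧ u = 1) ∨ (w = 2 ∧ u = 2) := by decide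

theorem conj_to_basic {G : Type*} [Group G] {Z z d : G} (hZ : Z * Z = 1) (hz : z * z = 1) (hd : d = Z * z)
    (hd9 : d ^ 9 = 1) : (d ^ 4)⁻¹ * z * d ^ 4 = Z := by
  have hzd : z = Z * d := by rw [hd, ← mul_assoc, hZ, one_mul]
  have hinv : Z * d * Z = d⁻¹ := by rw [eq_inv_iff_mul_eq_one, mul_assoc, ← hzd, hz]
  have hinv4 : Z * d ^ 4 * Z = (d ^ 4)⁻¹ := by
    have hZi : Z⁻¹ = Z := inv_eq_of_mul_eq_one_right hZ
    have := conj_pow (i := 4) (a := Z) (b := d)
    rw [hZi, hinv] at this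
    rw [← this, inv_pow]
  have h1 : (d ^ 4)⁻¹ * Z = Z * d ^ 4 := by rw [← hinv4]; simp only [mul_assoc, hZ, mul_one]
  rw [hzd, ← mul_assoc, h1, mul_assoc, mul_assoc, ← pow_succ', ← pow_add, hd9, mul_one]

variable {F : Type*} [Field F] {ω : F} {p : ℕ} {H : Subgroup (M9 F)ˣ}

theorem trace_eq_of_intertwine {U A B : M9 F} (hU : IsUnit U) (e : U * A = B * U) : A.trace = B.trace := by
  obtain ⟨u, rfl⟩ := hU
  have : A = ((u⁻¹ : (M9 F)ˣ) : M9 F) * B * (u : M9 F) := by rw [mul_assoc, ← e, ← mul_assoc, Units.inv_mul, one_mul]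
  rw [this, Matrix.trace_units_conj']

/-- Two projections centralised by an involution fixing their common eigenvectors split its minus space evenly. -/
theorem half_rank (h2 : (2 : F) ≠ 0) {P Q z : M9 F} (hP : P * P = P) (hQ : Q * Q = Q) (hzz : z * z = 1)
    (hzP : z * P = P * z) (hzQ : z * Q = Q * z)
    (hfix : ∀ (v : Pt → F) (α β : F), P *ᵥ v = α • v → Q *ᵥ v = β • v → z *ᵥ v = v) :
    (P * ((2 : F)⁻¹ • (1 - z))).trace + (P * ((2 : F)⁻¹ • (1 - z))).trace = ((2 : F)⁻¹ • (1 - z)).trace ∧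
      (Q * ((2 : F)⁻¹ • (1 - z))).trace = (P * ((2 : F)⁻¹ • (1 - z))).trace := by
  obtain ⟨e, he⟩ : ∃ e, e = (2 : F)⁻¹ • (1 - z) := ⟨_, rfl⟩
  rw [← he]
  have hee : e * e = e := by
    rw [he, Matrix.smul_mul, Matrix.mul_smul, smul_smul]
    have : (1 - z) * (1 - z) = (2 : F) • (1 - z) := by
      simp only [sub_mul, mul_sub, one_mul, mul_one, hzz]; module
    rw [this, smul_smul, mul_assoc, inv_mul_cancel₀ h2, mul_one]
  have hze : z * e = -e := by
    rw [he, Matrix.mul_smul, ← smul_neg, mul_sub, mul_one, hzz, neg_sub]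
  have ePc : e * P = P * e := by
    rw [he, Matrix.smul_mul, Matrix.mul_smul, sub_mul, mul_sub, one_mul, mul_one, hzP]
  have eQc : e * Q = Q * e := by
    rw [he, Matrix.smul_mul, Matrix.mul_smul, sub_mul, mul_sub, one_mul, mul_one, hzQ]
  have kill : ∀ w : Pt → F, z *ᵥ w = -w → (P *ᵥ w = Q *ᵥ w ∨ P *ᵥ w + Q *ᵥ w = w) → w = 0 := by
    intro w hw hPQ
    have selfneg : ∀ y : Pt → F, z *ᵥ y = y → z *ᵥ y = -y → y = 0 := fun y a b => by
      have : (2 : F) • y = 0 := by rw [two_smul]; nth_rewrite 1 [← a]; rw [b, neg_add_cancel]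
      exact (smul_eq_zero.1 this).resolve_left h2
    have hPw : z *ᵥ (P *ᵥ w) = -(P *ᵥ w) := by
      rw [mulVec_mulVec, hzP, ← mulVec_mulVec, hw, mulVec_neg]
    have hPPw : P *ᵥ (P *ᵥ w) = P *ᵥ w := by rw [mulVec_mulVec, hP]
    rcases hPQ with h | h
    · have hQ' : Q *ᵥ (P *ᵥ w) = P *ᵥ w := by rw [h, mulVec_mulVec, hQ]
      have h0 := selfneg _ (hfix _ 1 1 (by rw [one_smul, hPPw]) (by rw [one_smul, hQ'])) hPw
      exact selfneg _ (hfix _ 0 0 (by rw [zero_smul, h0]) (by rw [zero_smul, ← h, h0])) hw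
    · have hQ' : Q *ᵥ (P *ᵥ w) = 0 := by
        rw [eq_sub_of_add_eq h, mulVec_sub, mulVec_mulVec, hQ, sub_self]
      have h0 := selfneg _ (hfix _ 1 0 (by rw [one_smul, hPPw]) (by rw [zero_smul, hQ'])) hPw
      rw [h0, zero_add] at h
      exact selfneg _ (hfix _ 0 1 (by rw [zero_smul, h0]) (by rw [one_smul, h])) hw
  have unit : ∀ D : M9 F, D * e = e * D →
      (∀ w : Pt → F, D *ᵥ w = 0 → (P *ᵥ w = Q *ᵥ w ∨ P *ᵥ w + Q *ᵥ w = w)) → IsUnit (D * e + (1 - e)) := by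
    intro D hDe hD
    refine Matrix.mulVec_injective_iff_isUnit.1 fun a b hab => ?_
    obtain ⟨v, hv⟩ : ∃ v, v = a - b := ⟨_, rfl⟩
    have hv0 : (D * e + (1 - e)) *ᵥ v = 0 := by rw [hv, mulVec_sub, hab, sub_self]
    have h1 : D *ᵥ (e *ᵥ v) = 0 := by
      have := congrArg (e *ᵥ ·) hv0
      simp only [mulVec_mulVec, mulVec_zero, mul_add, mul_sub, mul_one, hee, sub_self, add_zero] at this
      rw [← mul_assoc, ← hDe, mul_assoc, hee, ← mulVec_mulVec] at this
      exact this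
    have h2' : e *ᵥ v = 0 := kill _ (by rw [mulVec_mulVec, hze, neg_mulVec]) (hD _ h1)
    rw [add_mulVec, ← mulVec_mulVec, h2', mulVec_zero, zero_add, sub_mulVec, one_mulVec, h2', sub_zero, hv] at hv0
    exact sub_eq_zero.1 hv0
  have hDu := unit (P - Q) (by rw [sub_mul, mul_sub, ePc, eQc]) fun w hw => Or.inl (by
    rw [sub_mulVec, sub_eq_zero] at hw; exact hw)
  have hSu := unit (P + Q - 1) (by rw [sub_mul, mul_sub, add_mul, mul_add, ePc, eQc, one_mul, mul_one]) fun w hw => Or.inr (by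
    rw [sub_mulVec, add_mulVec, one_mulVec, sub_eq_zero] at hw; exact hw)
  have ePe : e * (P * e) = P * e := by rw [← mul_assoc, ePc, mul_assoc, hee]
  have e1e : (1 - e) * (P * e) = 0 := by rw [sub_mul, one_mul, ePe, sub_self]
  have hD : ((P - Q) * e + (1 - e)) * (P * e) = ((1 - Q) * e) * ((P - Q) * e + (1 - e)) := by
    have l : ((P - Q) * e + (1 - e)) * (P * e) = P * e - Q * (P * e) := by
      rw [add_mul, e1e, add_zero, mul_assoc, ePe, sub_mul, ← mul_assoc P P, hP]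
    have r : ((1 - Q) * e) * ((P - Q) * e + (1 - e)) = P * e - Q * (P * e) := by
      have : e * ((P - Q) * e + (1 - e)) = (P - Q) * e := by
        rw [mul_add, mul_sub e 1 e, mul_one, hee, sub_self, add_zero, ← mul_assoc, mul_sub, ePc, eQc, ← sub_mul,
          mul_assoc, hee]
      rw [mul_assoc, this]
      simp only [sub_mul, mul_sub, one_mul, ← mul_assoc Q Q, hQ]
      abel
    rw [l, r]
  have hS : ((P + Q - 1) * e + (1 - e)) * (P * e) = (Q * e) * ((P + Q - 1) * e + (1 - e)) := by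
    have l : ((P + Q - 1) * e + (1 - e)) * (P * e) = Q * (P * e) := by
      rw [add_mul, e1e, add_zero, mul_assoc, ePe, sub_mul, add_mul, one_mul, ← mul_assoc P P, hP]
      abel
    have r : (Q * e) * ((P + Q - 1) * e + (1 - e)) = Q * (P * e) := by
      have : e * ((P + Q - 1) * e + (1 - e)) = (P + Q - 1) * e := by
        rw [mul_add, mul_sub e 1 e, mul_one, hee, sub_self, add_zero, ← mul_assoc, mul_sub, mul_add, ePc, eQc, mul_one]
        rw [show P * e + Q * e - e = (P + Q - 1) * e by rw [sub_mul, add_mul, one_mul], mul_assoc, hee]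
      rw [mul_assoc, this, sub_mul, add_mul, one_mul, mul_sub, mul_add, ← mul_assoc Q Q, hQ]
      abel
    rw [l, r]
  have t1 := trace_eq_of_intertwine hDu hD
  have t2 := trace_eq_of_intertwine hSu hS
  refine ⟨?_, t2.symm⟩
  rw [sub_mul, one_mul, trace_sub, ← t2] at t1
  nth_rewrite 1 [t1]
  exact sub_add_cancel _ _

/-- The lifts moved by prescribed central factors. -/
structure Mv (ω : F) (H : Subgroup (M9 F)ˣ) (e : (M9 F)ˣ) (k₁ i₁ k₂ i₂ : ZMod 3) : Prop where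
  mem : e ∈ H
  nor : Nor ω (e : M9 F)
  cx : (e : M9 F) * xM ω = xM ω * (e : M9 F)
  cp : (e : M9 F) * P1 0 = (P1 0 : M9 F) * (e : M9 F)
  eq1 : (e : M9 F) * Bv ω (0, 1) = Rm ω k₁ (0, 0) (i₁, 1) * (e : M9 F)
  eq2 : (e : M9 F) * Bv ω (1, 0) = Rm ω k₂ (0, 1) (i₂, 0) * (e : M9 F)

theorem Mv.mul (h : Root ω) {e e' : (M9 F)ˣ} {a b c d a' b' c' d' : ZMod 3} (he : Mv ω H e a b c d)
    (he' : Mv ω H e' a' b' c' d') : Mv ω H (e * e') (a' + a) (b + b') (c' + c) (d + d') := by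
  refine ⟨mul_mem he.mem he'.mem, by rw [Units.val_mul]; exact he.nor.mul he'.nor,
    by rw [Units.val_mul]; exact (Commute.mul_left he.cx he'.cx : _),
    by rw [Units.val_mul]; exact (Commute.mul_left he.cp he'.cp : _), ?_, ?_⟩
  · rw [Units.val_mul, mul_assoc, he'.eq1, ← mul_assoc]
    rw [step_class h he.cx (v := (0, 1)) (w := (0, 1)) he.eq1 a' b', mul_assoc]
  · rw [Units.val_mul, mul_assoc, he'.eq2, ← mul_assoc]
    rw [step_class h he.cx (v := (1, 0)) (w := (1, 0)) he.eq2 c' d', mul_assoc]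

theorem Bv01 : (Bv ω (0, 1) : M9 F) = dg ω (dot (0, 1)) := by
  rw [Bv, Rm, wp_zero, one_smul, Prod.mk_zero_zero, sh_zero, one_mul]

theorem Bv10 : (Bv ω (1, 0) : M9 F) = sh (0, 1) := by
  rw [Bv, Rm, wp_zero, one_smul, Prod.mk_zero_zero, show dot (0 : Pt) = fun _ => (0 : ZMod 3) from funext zero_dot,
    dg_zero, mul_one]

/-- The shears of the second coordinate. -/
def shearBy (γ : ZMod 3) : Equiv.Perm Pt where
  toFun v := (v.1, v.2 + γ * v.1)
  invFun v := (v.1, v.2 - γ * v.1)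
  left_inv v := by simp
  right_inv v := by simp

theorem shearBy_add (γ : ZMod 3) (a b : Pt) : shearBy γ (a + b) = shearBy γ a + shearBy γ b := by
  ext
  · rfl
  · simp only [shearBy, Equiv.coe_fn_mk, Prod.fst_add, Prod.snd_add]; ring

namespace Amb

variable (hH : Amb ω p H)
include hH

theorem exists_Mv (k₁ i₁ k₂ i₂ : ZMod 3) : ∃ e, Mv ω H e k₁ i₁ k₂ i₂ := by
  have hω := hH.root
  have A1 : ∃ e, Mv ω H e k₁ 0 0 0 := by
    obtain ⟨S, hS, eS⟩ := hH.in_sh ((0, -k₁) : Pt)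
    refine ⟨S, hS, eS ▸ nor_sh hω _, ?_, ?_, ?_, ?_⟩
    · rw [eS, xM, dg_mul_sh]; congr 2; funext w; simp [dot]
    · rw [eS, P1, sh, pm_mul_diagonal]; congr 2; funext w; simp [Equiv.addRight_symm]
    · rw [eS, Bv01, Rm, Prod.mk_zero_zero, sh_zero, one_mul, Matrix.smul_mul, dg_mul_sh, ← Matrix.mul_smul]
      congr 1
      rw [dg, dg, ← diagonal_smul]
      congr 1; funext w
      rw [Pi.smul_apply, smul_eq_mul, ← wp_add hω]
      congr 1; simp [dot]
    · rw [eS, Bv10, Rm, wp_zero, one_smul, Prod.mk_zero_zero, show dot (0 : Pt) = fun _ => (0 : ZMod 3) from funext zero_dot,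
        dg_zero, mul_one, sh_mul, sh_mul, add_comm]
  have A2 : ∃ e, Mv ω H e 0 0 k₂ 0 := by
    obtain ⟨D, hD, eD⟩ := hH.in_dg_quadr (f := dot (0, k₂)) ⟨0, 0, k₂, 0, 0, 0, funext fun w => by simp [dot]⟩
    refine ⟨D, hD, eD ▸ nor_dg hω ⟨0, 0, k₂, 0, 0, 0, funext fun w => by simp [dot]⟩, ?_, ?_, ?_, ?_⟩
    · rw [eD, dg, diag_x]
    · rw [eD, dg, P1, diagonal_mul_diagonal, diagonal_mul_diagonal]; congr 1; funext v; ring
    · rw [eD, Bv01, Rm, wp_zero, one_smul, Prod.mk_zero_zero, sh_zero, one_mul, dg_mul hω, dg_mul hω, add_comm]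
    · rw [eD, Bv10, dg_mul_sh, Rm, Prod.mk_zero_zero, show dot (0 : Pt) = fun _ => (0 : ZMod 3) from funext zero_dot,
        dg_zero, mul_one, Matrix.smul_mul, ← Matrix.mul_smul]
      congr 1
      rw [dg, dg, ← diagonal_smul]
      congr 1; funext w
      rw [Pi.smul_apply, smul_eq_mul, ← wp_add hω]
      congr 1; simp [dot]; ring
  have A3 : ∃ e, Mv ω H e 0 0 0 i₂ := by
    have hq : Quadr (fun w : Pt => i₂ * (w.1 * w.2)) := ⟨0, 0, 0, 0, i₂, 0, funext fun w => by ring⟩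
    obtain ⟨D, hD, eD⟩ := hH.in_dg_quadr hq
    refine ⟨D, hD, eD ▸ nor_dg hω hq, ?_, ?_, ?_, ?_⟩
    · rw [eD, dg, diag_x]
    · rw [eD, dg, P1, diagonal_mul_diagonal, diagonal_mul_diagonal]; congr 1; funext v; ring
    · rw [eD, Bv01, Rm, wp_zero, one_smul, Prod.mk_zero_zero, sh_zero, one_mul, dg_mul hω, dg_mul hω, add_comm]
    · rw [eD, Bv10, dg_mul_sh, Rm, wp_zero, one_smul, mul_assoc (sh (0, 1)) _ (dg ω _), dg_mul hω]
      congr 2
      funext w
      simp [dot]; ring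
  have A4 : ∃ e, Mv ω H e 0 i₁ 0 0 := by
    obtain ⟨S, hS, eS⟩ := hH.in_signed (shearBy_add (-i₁))
    refine ⟨S, hS, eS ▸ (nor_pm hω (shearBy_add _)).smul _, ?_, ?_, ?_, ?_⟩
    · rw [eS, Matrix.smul_mul, Matrix.mul_smul, xM, pm_mul_dg]
      congr 3; funext w; simp [dot, shearBy]
    · rw [eS, Matrix.smul_mul, Matrix.mul_smul, P1, pm_mul_diagonal]
      congr 2
    · rw [eS, Bv01, Rm, wp_zero, one_smul, Prod.mk_zero_zero, sh_zero, one_mul, Matrix.smul_mul, Matrix.mul_smul,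
        pm_mul_dg]
      congr 3; funext w; simp [dot, shearBy]; ring
    · rw [eS, Bv10, Rm, wp_zero, one_smul, Prod.mk_zero_zero, show dot (0 : Pt) = fun _ => (0 : ZMod 3) from funext zero_dot,
        dg_zero, mul_one, Matrix.smul_mul, Matrix.mul_smul, pm_sh (shearBy_add _)]
      congr 3
      try simp [shearBy]
  obtain ⟨e1, h1⟩ := A1
  obtain ⟨e2, h2⟩ := A2
  obtain ⟨e3, h3⟩ := A3
  obtain ⟨e4, h4⟩ := A4
  exact ⟨_, by simpa using ((h1.mul hω h2).mul hω h3).mul hω h4⟩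

/-- Members commuting with the central generator and both lifts are scaled quadratic diagonals. -/
theorem scalar_member (hN : NoTr H) {z : (M9 F)ˣ} (hz : z ∈ H) (hx : (z : M9 F) * xM ω = xM ω * (z : M9 F))
    (h1 : (z : M9 F) * Bv ω (0, 1) = Bv ω (0, 1) * (z : M9 F))
    (h2 : (z : M9 F) * Bv ω (1, 0) = Bv ω (1, 0) * (z : M9 F)) :
    ∃ (l : F) (f : Pt → ZMod 3), Quadr f ∧ l ^ 9 = 1 ∧ (z : M9 F) = l • dg ω f := by
  obtain ⟨c, hc⟩ := comm_bd_of_gens hH.root hx h1 h2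
  have hd : (z : M9 F) = diagonal fun v : Pt => c v.1 := by
    rw [hc]; ext s t; rw [bd_apply, diagonal_apply]
    by_cases e : s = t
    · subst e; simp
    · rw [if_neg e]; split_ifs with e1
      · rw [Matrix.smul_apply, Matrix.one_apply_ne (fun q => e (Prod.ext e1 q)), smul_zero]
      · rfl
  obtain ⟨l, f, hf, hl, e⟩ := hH.diag_quadr hN ⟨z, hz, hd⟩
  exact ⟨l, f, hf, hl, hd.trans e⟩

theorem scaled_pow_nine {d : (M9 F)ˣ} {l : F} {f : Pt → ZMod 3} (hl : l ^ 9 = 1) (ed : (d : M9 F) = l • dg ω f) :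
    d ^ 9 = 1 := Units.ext (by
  rw [Units.val_pow_eq_pow_val, ed, Units.val_one, dg, ← diagonal_smul, diagonal_pow, ← diagonal_one]
  congr 1
  funext v
  rw [Pi.pow_apply, Pi.smul_apply, smul_eq_mul, mul_pow, hl, one_mul,
    show wp ω (f v) ^ 9 = (wp ω (f v) ^ 3) ^ 3 by rw [← pow_mul], wp_pow_three hH.root, one_pow])

end Amb

end CfsgLib.Classical.QutritMax
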