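import Cfsg.Agent.Lib.Classical.QutritMax.Full

/-!
# Diagonal elements of order three are quadratic
-/

set_option autoImplicit false
set_option linter.unusedSectionVars false
set_option linter.unusedSimpArgs false

namespace CfsgLib.Classical.QutritMax

open Matrix

/-- The first moment in the first coordinate. -/
def ma (f : Pt → ZMod 3) : ZMod 3 := ∑ v, v.1 * f v

/-- The first moment in the second coordinate. -/
def mb (f : Pt → ZMod 3) : ZMod 3 := ∑ v, v.2 * f v

set_option synthInstance.maxSize 2000 in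
theorem quadr_table : ∀ f00 f01 f02 f10 f11 f12 f20 f21 f22 : ZMod 3,
    f00 + f01 + f02 + (f10 + f11 + f12) + (f20 + f21 + f22) = 0 →
    f10 + f11 + f12 + 2 * (f20 + f21 + f22) = 0 →
    f01 + 2 * f02 + (f11 + 2 * f12) + (f21 + 2 * f22) = 0 →
    f12 = f00 + 2 * (f10 - f20) + 2 * (f01 - f02) * 2 + 2 * (f10 + f20 - 2 * f00)
        + (f11 - f10 - f01 + f00) * 2 + 2 * (f01 + f02 - 2 * f00) * (2 * 2) ∧
    f21 = f00 + 2 * (f10 - f20) * 2 + 2 * (f01 - f02) + 2 * (f10 + f20 - 2 * f00) * (2 * 2)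
        + (f11 - f10 - f01 + f00) * 2 + 2 * (f01 + f02 - 2 * f00) ∧
    f22 = f00 + 2 * (f10 - f20) * 2 + 2 * (f01 - f02) * 2 + 2 * (f10 + f20 - 2 * f00) * (2 * 2)
        + (f11 - f10 - f01 + f00) * (2 * 2) + 2 * (f01 + f02 - 2 * f00) * (2 * 2) := by
  decide +kernel

theorem line_table : ∀ f0 f1 f2 : ZMod 3,
    f1 = f0 + 2 * (f1 - f2) + 2 * (f1 + f2 - 2 * f0) ∧
    f2 = f0 + 2 * (f1 - f2) * 2 + 2 * (f1 + f2 - 2 * f0) * (2 * 2) := by decide

theorem quadr_of_moments {f : Pt → ZMod 3} (hs : ∑ v, f v = 0) (h1 : ma f = 0) (h2 : mb f = 0) : Quadr f := by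
  rw [sum9] at hs
  simp only [ma, mb, sum9, zero_mul, one_mul, zero_add] at h1 h2
  obtain ⟨e12, e21, e22⟩ := quadr_table _ _ _ _ _ _ _ _ _ hs (by linear_combination h1) (by linear_combination h2)
  obtain ⟨e10, e20⟩ := line_table (f (0, 0)) (f (1, 0)) (f (2, 0))
  obtain ⟨e01, e02⟩ := line_table (f (0, 0)) (f (0, 1)) (f (0, 2))
  refine ⟨f (0, 0), 2 * (f (1, 0) - f (2, 0)), 2 * (f (0, 1) - f (0, 2)),
    2 * (f (1, 0) + f (2, 0) - 2 * f (0, 0)), f (1, 1) - f (1, 0) - f (0, 1) + f (0, 0),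
    2 * (f (0, 1) + f (0, 2) - 2 * f (0, 0)), funext fun w => ?_⟩
  obtain ⟨a, b⟩ := w
  rcases zmod3_cases a with rfl | rfl | rfl <;> rcases zmod3_cases b with rfl | rfl | rfl <;>
    simp only [zero_mul, mul_zero, one_mul, mul_one, add_zero, zero_add]
  · exact e01
  · exact e02
  · exact e10
  · have h30 : (3 : ZMod 3) = 0 := by decide
    linear_combination (2 * f (0, 0) - f (1, 0) - f (0, 1)) * h30
  · exact e12
  · exact e20
  · exact e21
  · exact e22

theorem ma_comp (f : Pt → ZMod 3) (σ : Equiv.Perm Pt) : ma (f ∘ σ) = ∑ v, (σ.symm v).1 * f v := by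
  rw [ma, ← Equiv.sum_comp σ.symm]; simp

theorem mb_comp (f : Pt → ZMod 3) (σ : Equiv.Perm Pt) : mb (f ∘ σ) = ∑ v, (σ.symm v).2 * f v := by
  rw [mb, ← Equiv.sum_comp σ.symm]; simp

/-- The shear fixing the first coordinate. -/
def shear : Equiv.Perm Pt where
  toFun v := (v.1, v.1 + v.2)
  invFun v := (v.1, v.2 - v.1)
  left_inv v := by simp
  right_inv v := by simp

theorem shear_add (a b : Pt) : shear (a + b) = shear a + shear b := by
  ext <;> simp [shear, add_comm, add_left_comm, add_assoc]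

variable {F : Type*} [Field F] {ω : F} {p : ℕ} {H : Subgroup (M9 F)ˣ}

namespace Amb

variable (hH : Amb ω p H)
include hH

theorem in_dg_quadr {f : Pt → ZMod 3} (hf : Quadr f) : In H (dg ω f) :=
  hH.in_of_nor (nor_dg hH.root hf) (det_dg_quadr hH.root hf)

theorem in_sh (u : Pt) : In H (sh u : M9 F) := hH.in_of_nor (nor_sh hH.root u) (det_sh u)

theorem in_signed {σ : Equiv.Perm Pt} (hσ : ∀ a b, σ (a + b) = σ a + σ b) :
    In H (((Equiv.Perm.sign σ : ℤ) : F) • (pm σ : M9 F)) :=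
  hH.in_of_nor ((nor_pm hH.root hσ).smul _) (det_smul_sign σ)

theorem in_scalar {l : F} (hl : l ^ 9 = 1) : In H (l • (1 : M9 F)) := by
  refine hH.in_of_nor (nor_one.smul l) ?_
  rw [det_smul, det_one, mul_one, Fintype.card_prod, ZMod.card]
  exact hl

theorem in_inv_scalar {l : F} (hl : l ^ 9 = 1) {M : M9 F} (h : In H (l • M)) : In H M := by
  have := (hH.in_scalar (l := l ^ 8) (by rw [← pow_mul, mul_comm, pow_mul, hl, one_pow])).mul h
  rwa [Matrix.smul_mul, one_mul, smul_smul, ← pow_succ, hl, one_smul] at this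

theorem in_comp {l : F} {f : Pt → ZMod 3} (h : In H (l • dg ω f)) {σ : Equiv.Perm Pt}
    (hσ : ∀ a b, σ (a + b) = σ a + σ b) : In H (l • dg ω (f ∘ σ)) := by
  obtain ⟨g, hg, eg⟩ := hH.in_signed hσ
  obtain ⟨x, hx, ex⟩ := h
  refine ⟨g⁻¹ * x * g, mul_mem (mul_mem (inv_mem hg) hx) hg, ?_⟩
  rw [Units.val_mul, Units.val_mul, mul_assoc, Units.inv_mul_eq_iff_eq_mul, ex, eg]
  simp only [Matrix.smul_mul, Matrix.mul_smul, smul_smul]
  rw [pm_mul_dg, Function.comp_assoc, Equiv.self_comp_symm, Function.comp_id, mul_comm]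

theorem in_shift {l : F} {f : Pt → ZMod 3} (h : In H (l • dg ω f)) (u : Pt) :
    In H (dg ω (fun w => f (w + u) - f w)) := by
  have hl : l ≠ 0 := by
    rintro rfl
    have := hH.det_of_in h
    simp at this
  have h1 : In H (l • dg ω (fun w => f (w + u))) := by
    obtain ⟨g, hg, eg⟩ := hH.in_sh u
    obtain ⟨x, hx, ex⟩ := h
    refine ⟨g⁻¹ * x * g, mul_mem (mul_mem (inv_mem hg) hx) hg, ?_⟩
    rw [Units.val_mul, Units.val_mul, mul_assoc, Units.inv_mul_eq_iff_eq_mul, ex, eg, Matrix.smul_mul,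
      Matrix.mul_smul, dg_mul_sh]
  have h2 : In H (l⁻¹ • dg ω (-f)) := h.inv (by
    rw [Matrix.smul_mul, Matrix.mul_smul, smul_smul, mul_inv_cancel₀ hl, one_smul, det_dg_mul_neg hH.root])
  have := h1.mul h2
  rwa [Matrix.smul_mul, Matrix.mul_smul, smul_smul, mul_inv_cancel₀ hl, one_smul, dg_mul hH.root,
    show (fun w => f (w + u)) + -f = fun w => f (w + u) - f w by funext w; simp [sub_eq_add_neg]] at this

theorem det_scaled {l : F} {f : Pt → ZMod 3} (h : In H (l • dg ω f)) (hs : ∑ v, f v = 0) : l ^ 9 = 1 := by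
  have := hH.det_of_in h
  rwa [det_smul, det_dg hH.root, hs, wp_zero, mul_one, Fintype.card_prod, ZMod.card] at this

/-- The exponents of the diagonal members. -/
def expGroup : AddSubgroup (Pt → ZMod 3) where
  carrier := {f | In H (dg ω f)}
  zero_mem' := by
    show In H (dg ω 0)
    rw [show (0 : Pt → ZMod 3) = fun _ => 0 from rfl, dg_zero]; exact in_one H
  add_mem' := fun {f g} hf hg => by
    show In H (dg ω (f + g))
    rw [← dg_mul hH.root]; exact In.mul hf hg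
  neg_mem' := fun {f} hf => In.inv hf (det_dg_mul_neg hH.root f)

/-- Diagonal members have vanishing first moments. -/
theorem moments_eq_zero (hN : NoTr H) {l : F} {f : Pt → ZMod 3} (h : In H (l • dg ω f)) :
    ∑ v, f v = 0 ∧ ma f = 0 ∧ mb f = 0 := by
  have main : ∀ f, In H (dg ω f) → ∑ v, f v = 0 → ma f = 0 ∧ mb f = 0 := by
    intro f hf hs
    by_contra hm
    let E := hH.expGroup
    have hsmul : ∀ (c : ZMod 3) g, g ∈ E → c • g ∈ E := fun c g hg => by
      have : c • g = c.val • g := by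
        funext w
        rw [Pi.smul_apply, Pi.smul_apply, smul_eq_mul, nsmul_eq_mul, ZMod.natCast_zmod_val]
      rw [this]; exact nsmul_mem hg _
    have hcomp : ∀ σ : Equiv.Perm Pt, (∀ a b, σ (a + b) = σ a + σ b) → ∀ g ∈ E, g ∘ σ ∈ E := fun σ hσ g hg => by
      have := hH.in_comp (l := 1) (f := g) (by rw [one_smul]; exact hg) hσ
      rwa [one_smul] at this
    have hscomp : ∀ (σ : Equiv.Perm Pt) (g : Pt → ZMod 3), ∑ v, (g ∘ σ) v = ∑ v, g v := fun σ g => Equiv.sum_comp σ g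
    let sw : Equiv.Perm Pt := Equiv.prodComm _ _
    have hsw : ∀ a b, sw (a + b) = sw a + sw b := fun a b => rfl
    have hswm : ∀ g, ma (g ∘ sw) = mb g ∧ mb (g ∘ sw) = ma g := fun g => by
      rw [ma_comp, mb_comp]; exact ⟨rfl, rfl⟩
    obtain ⟨g, hg, hgs, hga⟩ : ∃ g ∈ E, ∑ v, g v = 0 ∧ ma g ≠ 0 := by
      by_cases ha : ma f = 0
      · refine ⟨f ∘ sw, hcomp sw hsw f hf, by rw [hscomp, hs], ?_⟩
        rw [(hswm f).1]
        exact fun hb => hm ⟨ha, hb⟩
      · exact ⟨f, hf, hs, ha⟩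
    obtain ⟨c, hc⟩ : ∃ c : ZMod 3, c * -ma g = 1 := by
      rcases zmod3_cases (ma g) with e | e | e
      · exact absurd e hga
      · exact ⟨2, by rw [e]; decide⟩
      · exact ⟨1, by rw [e]; decide⟩
    have hsh : ma (g ∘ shear) = ma g ∧ mb (g ∘ shear) = mb g - ma g := by
      rw [ma_comp, mb_comp, ma, mb, ← Finset.sum_sub_distrib]
      exact ⟨rfl, Finset.sum_congr rfl fun v _ => sub_mul _ _ _⟩
    obtain ⟨f₂, hf₂, s2, a2, b2⟩ : ∃ f₂ ∈ E, ∑ v, f₂ v = 0 ∧ ma f₂ = 0 ∧ mb f₂ = 1 := by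
      refine ⟨c • (g ∘ shear - g), hsmul _ _ (sub_mem (hcomp _ shear_add _ hg) hg), ?_, ?_, ?_⟩
      · simp only [Pi.smul_apply, Pi.sub_apply, ← Finset.smul_sum, Finset.sum_sub_distrib, hscomp, sub_self,
          smul_zero]
      · simp only [ma, Pi.smul_apply, Pi.sub_apply, smul_eq_mul, mul_left_comm _ c, ← Finset.mul_sum, mul_sub,
          Finset.sum_sub_distrib]
        show c * ma (g ∘ shear) - c * ma g = 0
        rw [hsh.1, sub_self]
      · simp only [mb, Pi.smul_apply, Pi.sub_apply, smul_eq_mul, mul_left_comm _ c, ← Finset.mul_sum, mul_sub,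
          Finset.sum_sub_distrib]
        show c * mb (g ∘ shear) - c * mb g = 1
        rw [hsh.2, ← hc]; ring
    obtain ⟨f₁, hf₁, s1, a1, b1⟩ : ∃ f₁ ∈ E, ∑ v, f₁ v = 0 ∧ ma f₁ = 1 ∧ mb f₁ = 0 :=
      ⟨f₂ ∘ sw, hcomp sw hsw _ hf₂, by rw [hscomp, s2], (hswm f₂).1.trans b2, (hswm f₂).2.trans a2⟩
    refine not_full hH hN fun k hk => ?_
    have hr : Quadr (k - ma k • f₁ - mb k • f₂) := by
      refine quadr_of_moments ?_ ?_ ?_
      · simp only [Pi.sub_apply, Pi.smul_apply, Finset.sum_sub_distrib, ← Finset.smul_sum, s1, s2, hk, smul_zero,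
          sub_self]
      · simp only [ma, Pi.sub_apply, Pi.smul_apply, smul_eq_mul, mul_sub, Finset.sum_sub_distrib]
        simp only [mul_left_comm (Prod.fst _), ← Finset.mul_sum]
        show ma k - ma k * ma f₁ - mb k * ma f₂ = 0
        rw [a1, a2]; ring
      · simp only [mb, Pi.sub_apply, Pi.smul_apply, smul_eq_mul, mul_sub, Finset.sum_sub_distrib]
        simp only [mul_left_comm (Prod.snd _), ← Finset.mul_sum]
        show mb k - ma k * mb f₁ - mb k * mb f₂ = 0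
        rw [b1, b2]; ring
    have hk' : (k - ma k • f₁ - mb k • f₂) + ma k • f₁ + mb k • f₂ ∈ E :=
      add_mem (add_mem (hH.in_dg_quadr hr) (hsmul _ _ hf₁)) (hsmul _ _ hf₂)
    rwa [show (k - ma k • f₁ - mb k • f₂) + ma k • f₁ + mb k • f₂ = k by abel] at hk'
  by_cases hs : ∑ v, f v = 0
  · exact ⟨hs, main f (hH.in_inv_scalar (hH.det_scaled h hs) h) hs⟩
  exfalso
  have e1 : ∑ v, f (v + ((1, 0) : Pt)) = ∑ v, f v := Equiv.sum_comp (Equiv.addRight ((1, 0) : Pt)) f
  have e2 : ∑ v : Pt, v.1 * f (v + ((1, 0) : Pt)) = ma f - ∑ v, f v := by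
    rw [ma, ← Finset.sum_sub_distrib, ← Equiv.sum_comp (Equiv.addRight ((1, 0) : Pt)) (fun v : Pt => v.1 * f v - f v)]
    exact Finset.sum_congr rfl fun v _ => by simp; ring
  have := (main _ (hH.in_shift h (1, 0)) (by rw [Finset.sum_sub_distrib, e1, sub_self])).1
  simp only [ma, mul_sub, Finset.sum_sub_distrib] at this
  rw [e2, ma] at this
  simp at this
  exact hs this

/-- Diagonal members of order dividing three, modulo scalars, have quadratic exponents. -/
theorem quadr_of_in (hN : NoTr H) {l : F} {f : Pt → ZMod 3} (h : In H (l • dg ω f)) : Quadr f ∧ l ^ 9 = 1 := by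
  obtain ⟨hs, h1, h2⟩ := hH.moments_eq_zero hN h
  exact ⟨quadr_of_moments hs h1 h2, hH.det_scaled h hs⟩

end Amb

end CfsgLib.Classical.QutritMax
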