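import Mathlib

/-!
# Groups of units in which `g + g⁻¹` is central on the derived group

If such a group is generated by two elements of order three and its derived group has odd order, then the derived
group is a `p`-group, `p` the characteristic.
-/

set_option autoImplicit false
set_option linter.unusedSectionVars false
set_option linter.unusedSimpArgs false

namespace CfsgLib.Classical.QutritMax

open Subgroup
open scoped commutatorElement

theorem eq_one_of_nilpotent {A : Type*} [Ring A] {p : ℕ} [Fact p.Prime] [CharP A p] {u : Aˣ}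
    (hn : IsNilpotent ((u : A) - 1)) (ho : ¬ p ∣ orderOf u) : u = 1 := by
  obtain ⟨n, hn⟩ := hn
  obtain ⟨k, hk⟩ : ∃ k, n ≤ p ^ k := ⟨n, (Nat.lt_pow_self (Fact.out : p.Prime).one_lt).le⟩
  have h1 : ((u : A) - 1) ^ (p ^ k) = 0 := pow_eq_zero_of_le hk hn
  rw [sub_pow_char_pow_of_commute p k (Commute.one_right (u : A)), one_pow, sub_eq_zero] at h1
  have h2 : u ^ (p ^ k) = 1 := Units.ext (by simpa using h1)
  have h3 := orderOf_dvd_of_pow_eq_one h2
  have h4 : orderOf u = 1 := Nat.eq_one_of_dvd_coprimes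
    (((Fact.out : p.Prime).coprime_iff_not_dvd.2 ho).pow_left k) h3 dvd_rfl
  exact orderOf_eq_one_iff.1 h4

theorem not_dvd_orderOf_mul {p : ℕ} [Fact p.Prime] {G : Type*} [Monoid G] {x y : G} (h : Commute x y)
    (hx : ¬ p ∣ orderOf x) (hy : ¬ p ∣ orderOf y) : ¬ p ∣ orderOf (x * y) := fun hd => by
  rcases (Fact.out : p.Prime).dvd_mul.1 (hd.trans (h.orderOf_mul_dvd_lcm.trans (Nat.lcm_dvd_mul _ _))) with e | e
  exacts [hx e, hy e]

variable {A : Type*} [Ring A] {G : Type*} [Group G]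

/-- The algebraic core: `Δ ^ n (δ - δ₁) = 0` and `(δ - δ₁) ^ 3 = 4 Δ (δ - δ₁)`. -/
theorem nilpotent_sub {α α' δ δ₁ : A} (n : ℕ) (hn : Odd n) (aa' : α * α' = 1) (a'a : α' * α = 1)
    (hα : α ^ n = 1) (eδ₁ : α * δ * α' = δ₁) (cd : Commute δ δ₁) (cΔ : Commute (δ * δ) α)
    (cσ : Commute (δ * δ₁) α) : IsNilpotent (δ - δ₁) := by
  have conj1 : ∀ x : A, Commute x α → α * x * α' = x := fun x hx => by
    rw [← hx.eq, mul_assoc, aa', mul_one]
  have cmul : ∀ x y : A, α * (x * y) * α' = (α * x * α') * (α * y * α') := fun x y => by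
    simp only [mul_assoc]; rw [← mul_assoc α' α, a'a, one_mul]
  have eΔ : δ₁ * δ₁ = δ * δ := by rw [← eδ₁, ← cmul]; exact conj1 _ cΔ
  obtain ⟨Δ, hΔ⟩ : ∃ Δ, Δ = δ * δ := ⟨_, rfl⟩
  obtain ⟨σ, hσ⟩ : ∃ σ, σ = δ * δ₁ := ⟨_, rfl⟩
  rw [← hΔ] at cΔ eΔ
  rw [← hσ] at cσ
  have cΔd : Commute Δ δ := by rw [hΔ]; exact (Commute.refl δ).mul_left (Commute.refl δ)
  have cΔd₁ : Commute Δ δ₁ := by rw [hΔ]; exact cd.mul_left cd
  have cσd : Commute σ δ := by rw [hσ]; exact (Commute.refl δ).mul_left cd.symm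
  have eσδ : σ * δ = Δ * δ₁ := by rw [hσ, hΔ, mul_assoc, ← cd.eq, ← mul_assoc]
  have eσ' : δ₁ * δ = σ := by rw [hσ]; exact cd.symm.eq
  have rec' : ∀ i : ℕ, α ^ i * δ * α' ^ i * Δ ^ i = σ ^ i * δ := by
    intro i
    induction i with
    | zero => simp
    | succ i ih =>
      calc α ^ (i + 1) * δ * α' ^ (i + 1) * Δ ^ (i + 1)
          = α * (α ^ i * δ * α' ^ i * Δ ^ i) * α' * Δ := by
            rw [cmul _ (Δ ^ i), conj1 _ (cΔ.pow_left i), pow_succ' α, pow_succ α', pow_succ Δ]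
            simp only [mul_assoc]
        _ = σ ^ i * (δ₁ * Δ) := by rw [ih, cmul, conj1 _ (cσ.pow_left i), eδ₁, mul_assoc]
        _ = σ ^ (i + 1) * δ := by rw [pow_succ, hΔ, ← mul_assoc δ₁, eσ', mul_assoc]
  have hα' : α' ^ n = 1 := by
    have e : Commute α' α := a'a.trans aa'.symm
    have := e.mul_pow n; rwa [a'a, one_pow, hα, mul_one, eq_comm] at this
  have en : δ * Δ ^ n = σ ^ n * δ := by
    have := rec' n; rwa [hα, hα', one_mul, mul_one] at this
  have eσ2 : σ * σ = Δ * Δ := by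
    rw [hσ]
    calc δ * δ₁ * (δ * δ₁) = δ * δ * (δ₁ * δ₁) := Commute.mul_mul_mul_comm cd.symm δ δ₁
      _ = Δ * Δ := by rw [eΔ, ← hΔ]
  obtain ⟨j, hj⟩ := hn
  obtain ⟨η, hη⟩ : ∃ η, η = δ - δ₁ := ⟨_, rfl⟩
  rw [← hη]
  have e0 : Δ ^ n * η = 0 := by
    have h1 : σ ^ n * δ = Δ ^ n * δ₁ := by
      rw [hj, pow_succ, pow_succ, pow_mul, pow_mul, pow_two, pow_two, mul_assoc, eσδ, eσ2, mul_assoc]
    rw [hη, mul_sub, (cΔd.pow_left n).eq, en, h1, sub_self]
  have cube : η * η * η = 4 * (Δ * η) := by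
    have q1 : η * η = 2 * (Δ - σ) := by
      rw [hη, two_mul]; simp only [sub_mul, mul_sub, ← hΔ, eΔ, ← hσ, eσ']; abel
    have r2 : σ * δ₁ = Δ * δ := by rw [hσ, mul_assoc, eΔ]; exact cΔd.symm.eq
    rw [q1, mul_assoc, hη]
    simp only [sub_mul, mul_sub, eσδ, r2]
    rw [show (4 : A) = ((4 : ℕ) : A) by norm_num, show (2 : A) = ((2 : ℕ) : A) by norm_num]
    simp only [← nsmul_eq_mul]
    abel
  have this : ∀ i : ℕ, η ^ (2 * i + 1) = 4 ^ i * (Δ ^ i * η) := by
    intro i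
    induction i with
    | zero => simp
    | succ i ih =>
      rw [show 2 * (i + 1) + 1 = (2 * i + 1) + 2 by ring, pow_add, ih, pow_two]
      calc 4 ^ i * (Δ ^ i * η) * (η * η) = 4 ^ i * (Δ ^ i * (η * η * η)) := by simp only [mul_assoc]
        _ = 4 ^ i * (Δ ^ i * (4 * (Δ * η))) := by rw [cube]
        _ = 4 ^ (i + 1) * (Δ ^ (i + 1) * η) := by
          rw [pow_succ (4 : A), pow_succ Δ, ← mul_assoc (Δ ^ i) 4, ← ((show Commute (4 : A) Δ from Nat.cast_commute 4 Δ).pow_right i).eq]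
          simp only [mul_assoc]
  exact ⟨2 * n + 1, by rw [this n, e0, mul_zero]⟩

/-- The representation is faithful and `g + g⁻¹` is central for `g` in the derived group. -/
structure Ctr (p : ℕ) (ι : G →* Aˣ) : Prop where
  inj : Function.Injective ι
  central : ∀ g ∈ commutator G, ∀ y : G, Commute ((ι g : A) + (ι g⁻¹ : Aˣ)) (ι y : A)
  prime : p.Prime
  char : CharP A p
  five : 5 ≤ p

namespace Ctr

variable {p : ℕ} {ι : G →* Aˣ} (h : Ctr p ι)
include h

theorem two_ne : IsUnit (2 : A) := by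
  haveI := h.char
  haveI : Fact p.Prime := ⟨h.prime⟩
  obtain ⟨a, ha⟩ : ∃ a : ℕ, (2 * a) % p = 1 := ⟨(p + 1) / 2, by
    rcases h.prime.eq_two_or_odd with e | e
    · exact absurd e (by have := h.five; omega)
    · have : 2 * ((p + 1) / 2) = p + 1 := by omega
      rw [this, Nat.add_mod_left, Nat.mod_eq_of_lt (h.prime.one_lt)]⟩
  have e : ((2 * a : ℕ) : A) = 1 := by rw [CharP.cast_eq_mod A p, ha, Nat.cast_one]
  exact ⟨⟨2, (a : A), by exact_mod_cast e, by rw [Nat.mul_comm] at e; exact_mod_cast e⟩, rfl⟩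

/-- An element of the derived group commuting with one of its conjugates commutes with the conjugating element. -/
theorem key [Finite G] (hodd : Odd (Nat.card G)) {g a : G} (hg : g ∈ commutator G) (hp : ¬ p ∣ orderOf g)
    (hc : Commute g (a * g * a⁻¹)) : Commute a g := by
  haveI := h.char
  haveI : Fact p.Prime := ⟨h.prime⟩
  obtain ⟨k, hk⟩ : ∃ k, k = a * g * a⁻¹ := ⟨_, rfl⟩
  rw [← hk] at hc
  have hkD : k ∈ commutator G := hk ▸ (inferInstance : (commutator G).Normal).conj_mem g hg a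
  let f : G → A := fun x => ((ι x : Aˣ) : A)
  have m : ∀ x y : G, f (x * y) = f x * f y := fun x y => by simp only [f, map_mul, Units.val_mul]
  have one : f 1 = 1 := by simp only [f, map_one, Units.val_one]
  have cm : ∀ x y : G, Commute x y → Commute (f x) (f y) := fun x y e => by
    show f x * f y = f y * f x
    rw [← m, ← m, e.eq]
  have mi : ∀ x : G, f x * f x⁻¹ = 1 := fun x => by rw [← m, mul_inv_cancel, one]
  have im : ∀ x : G, f x⁻¹ * f x = 1 := fun x => by rw [← m, inv_mul_cancel, one]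
  have cen : ∀ x ∈ commutator G, Commute (f x + f x⁻¹) (f a) := fun x hx => h.central x hx a
  have cd : Commute (f g - f g⁻¹) (f k - f k⁻¹) :=
    ((cm _ _ hc).sub_right (cm _ _ hc.inv_right)).sub_left
      ((cm _ _ hc.inv_left).sub_right (cm _ _ hc.inv_left.inv_right))
  have cΔ : Commute ((f g - f g⁻¹) * (f g - f g⁻¹)) (f a) := by
    have : (f g - f g⁻¹) * (f g - f g⁻¹) = (f g + f g⁻¹) * (f g + f g⁻¹) - 4 := by
      simp only [sub_mul, mul_sub, add_mul, mul_add, mi, im]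
      rw [show (4 : A) = 1 + 1 + 1 + 1 by norm_num]; abel
    rw [this]; exact ((cen g hg).mul_left (cen g hg)).sub_left (show Commute (4 : A) (f a) from Nat.cast_commute 4 (f a))
  have cσ : Commute ((f g - f g⁻¹) * (f k - f k⁻¹)) (f a) := by
    have e1 : (f g - f g⁻¹) * (f k - f k⁻¹)
        = (f (g * k) + f (g * k)⁻¹) - (f (g * k⁻¹) + f (g * k⁻¹)⁻¹) := by
      have i1 : (g * k)⁻¹ = g⁻¹ * k⁻¹ := by
        rw [mul_inv_rev]; exact (hc.inv_left.inv_right).symm.eq
      have i2 : (g * k⁻¹)⁻¹ = g⁻¹ * k := by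
        rw [mul_inv_rev, inv_inv]; exact hc.inv_left.symm.eq
      rw [i1, i2, m, m, m, m]
      simp only [sub_mul, mul_sub]; abel
    rw [e1]
    exact (cen _ (mul_mem hg hkD)).sub_left (cen _ (mul_mem hg (inv_mem hkD)))
  have ev : f a * f g * f a⁻¹ = f k := by rw [← m, ← m, ← hk]
  have ev' : f a * f g⁻¹ * f a⁻¹ = f k⁻¹ := by
    rw [← m, ← m]; exact congrArg f (by rw [hk]; group)
  have hpow : f a ^ orderOf a = 1 := by
    simp only [f, ← Units.val_pow_eq_pow_val, ← map_pow, pow_orderOf_eq_one, map_one, Units.val_one]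
  have nil := nilpotent_sub (orderOf a) (hodd.of_dvd_nat (orderOf_dvd_natCard a)) (mi a) (im a) hpow
    (by rw [mul_sub, sub_mul, ev, ev']) cd cΔ cσ
  have t : f g + f g⁻¹ = f k + f k⁻¹ := by
    rw [← ev, ← ev', ← add_mul, ← mul_add, ← (cen g hg).eq, mul_assoc, mi, mul_one]
  have eη : (f g - f g⁻¹) - (f k - f k⁻¹) = 2 * (f g - f k) := by
    rw [show f g⁻¹ = f k + f k⁻¹ - f g by rw [← t]; abel, two_mul]; abel
  rw [eη] at nil
  have nuv : IsNilpotent (f g - f k) := by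
    obtain ⟨w, hw⟩ := h.two_ne
    have hcomm : Commute (↑w⁻¹ : A) (2 * (f g - f k)) :=
      Commute.units_inv_left (by rw [hw]; exact Nat.cast_commute 2 _)
    have := hcomm.isNilpotent_mul_left nil
    rwa [← hw, ← mul_assoc, Units.inv_mul, one_mul] at this
  have hgk : g = k := by
    have ho : ¬ p ∣ orderOf (ι (k⁻¹ * g)) := by
      rw [orderOf_injective ι h.inj]
      refine not_dvd_orderOf_mul hc.inv_right.symm ?_ hp
      rw [orderOf_inv, hk, ← SemiconjBy.orderOf_eq a (show SemiconjBy a g (a * g * a⁻¹) from by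
        show a * g = a * g * a⁻¹ * a; group)]
      exact hp
    have hn' : IsNilpotent (f (k⁻¹ * g) - 1) := by
      rw [m, show f k⁻¹ * f g - 1 = f k⁻¹ * (f g - f k) by rw [mul_sub, im]]
      exact ((cm _ _ hc.inv_right).symm.sub_right
        (cm _ _ (Commute.refl k).inv_left)).isNilpotent_mul_left nuv
    have := h.inj ((eq_one_of_nilpotent hn' ho).trans (map_one ι).symm)
    exact (inv_mul_eq_one.1 this).symm
  show a * g = g * a
  conv_rhs => rw [hgk, hk]
  group

/-- `p'`-elements of a `q`-subgroup of the derived group commute. -/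
theorem sylow_comm [Finite G] (hodd : Odd (Nat.card G)) {q : ℕ} [Fact q.Prime] (hq : q ≠ p) {S : Subgroup G}
    (hS : IsPGroup q S) (hD : S ≤ commutator G) : ∀ x ∈ S, ∀ y ∈ S, Commute x y := by
  have ho : ∀ g ∈ S, ¬ p ∣ orderOf g := by
    intro g hg hd
    obtain ⟨k, hk⟩ := hS.exists_orderOf_eq_pow ⟨g, hg⟩
    rw [Subgroup.orderOf_mk] at hk
    rw [hk] at hd
    exact hq ((Nat.prime_dvd_prime_iff_eq h.prime Fact.out).1 (h.prime.dvd_of_dvd_pow hd)).symm
  by_cases htop : center S = ⊤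
  · intro x hx y hy
    have := (Subgroup.mem_center_iff.1 (htop ▸ mem_top (⟨x, hx⟩ : S))) ⟨y, hy⟩
    exact (congrArg Subtype.val this).symm
  exfalso
  haveI : Nontrivial (S ⧸ center S) := by
    by_contra hc
    rw [not_nontrivial_iff_subsingleton] at hc
    exact htop (QuotientGroup.subgroup_eq_top_of_subsingleton _ hc)
  haveI := (hS.to_quotient (center S)).center_nontrivial
  obtain ⟨⟨z, hz⟩, hz1⟩ := exists_ne (1 : center (S ⧸ center S))
  obtain ⟨⟨g, hg⟩, rfl⟩ := QuotientGroup.mk'_surjective _ z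
  refine hz1 (Subtype.ext ((QuotientGroup.eq_one_iff _).2 (Subgroup.mem_center_iff.2 fun a => Subtype.ext ?_)))
  have hcm : (⟨g, hg⟩ : S)⁻¹ * (a * ⟨g, hg⟩ * a⁻¹) ∈ center S := by
    rw [← QuotientGroup.eq_one_iff]
    have := Subgroup.mem_center_iff.1 hz (QuotientGroup.mk a)
    simp only [QuotientGroup.mk'_apply] at this
    simp only [QuotientGroup.mk_mul, QuotientGroup.mk_inv, ← mul_assoc]
    rw [mul_assoc (_)⁻¹, this, ← mul_assoc, inv_mul_cancel, one_mul, mul_inv_cancel]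
  have hc : Commute g ((a : G) * g * (a : G)⁻¹) := by
    have h1 := congrArg Subtype.val (Subgroup.mem_center_iff.1 hcm ⟨g, hg⟩)
    simp only [Subgroup.coe_mul, Subgroup.coe_inv] at h1
    show g * ((a : G) * g * (a : G)⁻¹) = (a : G) * g * (a : G)⁻¹ * g
    calc g * ((a : G) * g * (a : G)⁻¹) = g * (g * (g⁻¹ * ((a : G) * g * (a : G)⁻¹))) := by group
      _ = g * (g⁻¹ * ((a : G) * g * (a : G)⁻¹) * g) := by rw [h1]
      _ = (a : G) * g * (a : G)⁻¹ * g := by group
  exact h.key hodd (hD hg) (ho g hg) hc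

/-- A `q`-subgroup of the derived group is centralised by its normaliser. -/
theorem norm_comm [Finite G] (hodd : Odd (Nat.card G)) {q : ℕ} [Fact q.Prime] (hq : q ≠ p) {S : Subgroup G}
    (hS : IsPGroup q S) (hD : S ≤ commutator G) {y : G} (hy : ∀ x ∈ S, y * x * y⁻¹ ∈ S) :
    ∀ x ∈ S, Commute y x := fun x hx => by
  refine h.key hodd (hD hx) ?_ (h.sylow_comm hodd hq hS hD x hx _ (hy x hx))
  intro hd
  obtain ⟨k, hk⟩ := hS.exists_orderOf_eq_pow ⟨x, hx⟩
  rw [Subgroup.orderOf_mk] at hk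
  rw [hk] at hd
  exact hq ((Nat.prime_dvd_prime_iff_eq h.prime Fact.out).1 (h.prime.dvd_of_dvd_pow hd)).symm

theorem cube_mem {a b : G} (ha : a ^ 3 = 1) (hb : b ^ 3 = 1) (hgen : closure ({a, b} : Set G) = ⊤) (y : G) :
    y ^ 3 ∈ commutator G := by
  let π := Abelianization.of (G := G)
  have : y ∈ ((powMonoidHom 3).comp π).ker := by
    refine (closure_le _).2 ?_ (hgen ▸ mem_top y)
    rintro x (rfl | hx)
    · simp [π, ← map_pow, ha]
    · rw [Set.mem_singleton_iff] at hx; subst hx; simp [π, ← map_pow, hb]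
  rw [← Abelianization.ker_of, MonoidHom.mem_ker, map_pow]
  exact this

theorem q_ne_three [Finite G] (hodd : Odd (Nat.card G)) {a b : G} (ha : a ^ 3 = 1) (hb : b ^ 3 = 1)
    (hgen : closure ({a, b} : Set G) = ⊤) {q : ℕ} [Fact q.Prime] (hq : q ≠ p) (hq3 : q ≠ 3) :
    ¬ q ∣ Nat.card (commutator G) := by
  intro hdvd
  let S : Sylow q G := default
  have hco : Nat.Coprime 3 q := (Nat.coprime_primes Nat.prime_three Fact.out).2 (Ne.symm hq3)
  have hSD : (S : Subgroup G) ≤ commutator G := fun s hs => by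
    obtain ⟨k, hk⟩ := S.isPGroup' ⟨s, hs⟩
    have h1 : s ^ q ^ k = 1 := congrArg Subtype.val hk
    have h3 : orderOf s ∣ q ^ k := orderOf_dvd_of_pow_eq_one h1
    obtain ⟨n, hn⟩ := exists_pow_eq_self_of_coprime
      (show Nat.Coprime 3 (orderOf s) from (hco.pow_right k).coprime_dvd_right h3)
    rw [← hn]
    exact pow_mem (cube_mem h ha hb hgen s) n
  have hP : normalizer (S : Set G) ≤ centralizer ((S : Subgroup G) : Set G) := fun y hy => by
    rw [mem_centralizer_iff]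
    exact fun x hx => (h.norm_comm hodd hq S.isPGroup' hSD
      (fun x hx => (Subgroup.mem_normalizer_iff.1 hy x).1 hx) x hx).symm.eq
  let φ := MonoidHom.transferSylow S hP
  have hφ : ∀ x : G, x ^ 3 = 1 → φ x = 1 := fun x hx => by
    obtain ⟨k, hk⟩ := S.isPGroup' (φ x)
    have h3 : φ x ^ 3 = 1 := by rw [← map_pow, hx, map_one]
    exact orderOf_eq_one_iff.1 (Nat.eq_one_of_dvd_coprimes (hco.pow_right k)
      (orderOf_dvd_of_pow_eq_one h3) (orderOf_dvd_of_pow_eq_one hk))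
  have htop : φ.ker = ⊤ := by
    rw [eq_top_iff, ← hgen, closure_le]
    rintro x (rfl | hx)
    · exact hφ _ ha
    · rw [Set.mem_singleton_iff] at hx; subst hx; exact hφ _ hb
  have hcard : Nat.card (S : Subgroup G) = 1 := by
    have := (MonoidHom.ker_transferSylow_isComplement' S hP).card_mul_card
    rw [show (MonoidHom.transferSylow S hP).ker = ⊤ from htop, Subgroup.card_top] at this
    have h0 : 0 < Nat.card G := Nat.card_pos
    exact (Nat.mul_eq_left h0.ne').1 this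
  exact S.ne_bot_of_dvd_card (hdvd.trans (card_subgroup_dvd_card _)) (eq_bot_of_card_eq _ hcard)

end Ctr

section Three

variable {F : Type*} [Field F] [Algebra F A]

/-- A root of `(X - 1) (X - ω)`. -/
def QuadRoot (ω : F) (x : A) : Prop := x * x = (1 + ω) • x - ω • (1 : A)

theorem quadRoot_conj {ω : F} {x y y' : A} (hy : y' * y = 1) (hy' : y * y' = 1) (hx : QuadRoot ω x) :
    QuadRoot ω (y * x * y') := by
  have : y * x * y' * (y * x * y') = y * (x * x) * y' := by
    simp only [mul_assoc]; rw [← mul_assoc y' y, hy, one_mul]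
  show _ = _
  rw [this, show x * x = _ from hx]
  simp only [mul_sub, sub_mul, mul_smul_comm, smul_mul_assoc, mul_one, hy']

theorem quadRoot_step {ω : F} (hω : ω * ω + ω + 1 = 0) {ζ β : A} (hc : Commute ζ β) (hβ : QuadRoot ω β)
    (hz : QuadRoot ω (ζ * β)) : ζ * β * (ζ - 1) = (-(ω * ω)) • (ζ * ζ - 1) := by
  have e0 : ζ * β * (ζ * β) = ζ * ζ * (β * β) := Commute.mul_mul_mul_comm hc.symm ζ β
  rw [show ζ * β * (ζ * β) = _ from hz, show β * β = _ from hβ] at e0
  have e1 : ζ * ζ * β = ζ * β * ζ := by rw [mul_assoc, mul_assoc ζ β ζ, ← hc.eq]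
  simp only [mul_sub, mul_smul_comm, mul_one, e1] at e0
  have hc1 : (1 + ω) * (-ω) = (1 : F) := by linear_combination -hω
  have := congrArg (((-ω) : F) • ·) e0
  simp only [smul_sub, smul_smul] at this
  rw [show -ω * (1 + ω) = (1 : F) from (mul_comm _ _).trans hc1, one_smul, one_smul] at this
  rw [mul_sub, mul_one, smul_sub]
  linear_combination (norm := module) -this

theorem commutator_sq_sub_one {ω : F} (hω : ω * ω + ω + 1 = 0) {α β ζ ζ' : A} (hzz : ζ' * ζ = 1)
    (hzz' : ζ * ζ' = 1) (cα : Commute ζ α) (cβ : Commute ζ β) (hrel : α * β = ζ * (β * α))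
    (hα : QuadRoot ω α) (hβ : QuadRoot ω β) (hb : QuadRoot ω (ζ * β)) (ha : QuadRoot ω (ζ' * α)) :
    (ζ * ζ - 1) * (ζ * ζ - 1) = 0 := by
  have cα' : Commute ζ' α := by
    show ζ' * α = α * ζ'
    calc ζ' * α = ζ' * (α * (ζ * ζ')) := by rw [hzz', mul_one]
      _ = ζ' * (ζ * α * ζ') := by rw [cα.eq, mul_assoc]
      _ = α * ζ' := by rw [mul_assoc ζ α, ← mul_assoc ζ' ζ, hzz, one_mul]
  have h2' := quadRoot_step hω cα' hα ha
  have h1 := quadRoot_step hω cβ hβ hb
  have k1 : ζ * ζ * (ζ' * ζ') = 1 := by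
    rw [mul_assoc, ← mul_assoc ζ ζ', hzz', one_mul, hzz']
  have h2 : α * (ζ - 1) = (-(ω * ω)) • (ζ * ζ - 1) := by
    have e := congrArg (ζ * ζ * ·) h2'
    simp only [mul_sub, mul_smul_comm, mul_one, k1, smul_sub] at e
    have e1 : ζ * ζ * (ζ' * α * ζ') = α := by
      rw [mul_assoc ζ' α, ← cα'.eq, ← mul_assoc ζ', ← mul_assoc, k1, one_mul]
    have e2 : ζ * ζ * (ζ' * α) = α * ζ := by
      rw [mul_assoc ζ ζ, ← mul_assoc ζ ζ', hzz', one_mul, cα.eq]
    rw [e1, e2] at e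
    rw [mul_sub, mul_one, smul_sub]
    linear_combination (norm := module) -e
  obtain ⟨κ, hκ⟩ : ∃ κ : F, κ = -(ω * ω) := ⟨_, rfl⟩
  obtain ⟨g, hg⟩ : ∃ g, g = ζ * ζ - 1 := ⟨_, rfl⟩
  rw [← hκ, ← hg] at h1 h2
  rw [← hg]
  have hgf : g = (ζ - 1) * (ζ + 1) := by rw [hg]; simp only [sub_mul, mul_add, mul_one, one_mul]; abel
  have hκ0 : κ ≠ 0 := by
    rw [hκ, neg_ne_zero]; intro h0
    rcases mul_eq_zero.1 h0 with e | e <;> rw [e] at hω <;> simp at hω
  have A1 : α * (ζ * β * (ζ - 1)) = (κ * κ) • (g * (ζ + 1)) := by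
    rw [h1, mul_smul_comm, hgf, ← mul_assoc α, h2, smul_mul_assoc, smul_smul, ← hgf]
  have A2 : α * (ζ * β * (ζ - 1)) = (κ * κ) • (ζ * g * (ζ + 1)) := by
    calc α * (ζ * β * (ζ - 1)) = ζ * (α * β) * (ζ - 1) := by
          simp only [← mul_assoc]; rw [cα.eq]
      _ = ζ * (ζ * β) * (α * (ζ - 1)) := by rw [hrel]; simp only [mul_assoc]
      _ = κ • (ζ * (ζ * β) * g) := by rw [h2, mul_smul_comm]
      _ = κ • (ζ * (ζ * β * (ζ - 1)) * (ζ + 1)) := by rw [hgf]; simp only [mul_assoc]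
      _ = (κ * κ) • (ζ * g * (ζ + 1)) := by rw [h1, mul_smul_comm, smul_mul_assoc, smul_smul]
  have h3 : (ζ - 1) * g * (ζ + 1) = 0 := by
    have := smul_right_injective A (mul_ne_zero hκ0 hκ0) (A1.symm.trans A2)
    simp only [sub_mul, one_mul, ← this, sub_self]
  have cg : Commute g (ζ + 1) := by
    rw [hg]
    exact ((((Commute.refl ζ).mul_left (Commute.refl ζ)).sub_left (Commute.one_left ζ)).add_right
      (Commute.one_right _))
  calc g * g = (ζ - 1) * ((ζ + 1) * g) := by nth_rw 1 [hgf]; rw [mul_assoc]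
    _ = (ζ - 1) * (g * (ζ + 1)) := by rw [cg.eq]
    _ = 0 := by rw [← mul_assoc, h3]

/-- The derived group has order prime to three. -/
theorem Ctr.three_not_dvd [Finite G] {p : ℕ} {ι : G →* Aˣ} (h : Ctr p ι) (hodd : Odd (Nat.card G)) {ω : F}
    (hω : ω * ω + ω + 1 = 0) {a b : G} (ha : a ^ 3 = 1) (hb : b ^ 3 = 1)
    (hgen : closure ({a, b} : Set G) = ⊤) (hqa : QuadRoot ω (ι a : A)) (hqb : QuadRoot ω (ι b : A)) :
    ¬ 3 ∣ Nat.card (commutator G) := by
  haveI : Fact (Nat.Prime 3) := ⟨Nat.prime_three⟩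
  haveI := h.char
  haveI : Fact p.Prime := ⟨h.prime⟩
  have h3p : 3 ≠ p := by have := h.five; omega
  intro hdvd
  let D := commutator G
  let T : Sylow 3 D := default
  have hP : normalizer (T : Set D) ≤ centralizer ((T : Subgroup D) : Set D) := fun y hy => by
    rw [mem_centralizer_iff]
    intro x hx
    refine Subtype.ext (h.norm_comm hodd h3p (T.isPGroup'.map D.subtype) (map_subtype_le _) (y := (y : G)) ?_ _
      (mem_map_of_mem _ hx)).symm.eq
    rintro _ ⟨w, hw, rfl⟩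
    exact ⟨y * w * y⁻¹, (Subgroup.mem_normalizer_iff.1 hy w).1 hw, by simp⟩
  let φ := MonoidHom.transferSylow T hP
  let K : Subgroup G := φ.ker.map D.subtype
  have hKp : IsPGroup p φ.ker := by
    refine IsPGroup.of_card (n := (Nat.card φ.ker).primeFactorsList.length)
      (Nat.eq_prime_pow_of_unique_prime_dvd Nat.card_pos.ne' fun {q} hq hd => ?_)
    haveI : Fact q.Prime := ⟨hq⟩
    by_contra hqp
    have hq3 : q ≠ 3 := fun e => MonoidHom.not_dvd_card_ker_transferSylow T hP (e ▸ hd)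
    exact h.q_ne_three hodd ha hb hgen hqp hq3 (hd.trans (card_subgroup_dvd_card _))
  have hco : ∀ i j : ℕ, Nat.Coprime (3 ^ i) (p ^ j) := fun i j =>
    ((Nat.coprime_primes Nat.prime_three h.prime).2 h3p).pow i j
  haveI : K.Normal := ⟨by
    rintro _ ⟨x, hx, rfl⟩ y
    obtain ⟨i, hi⟩ := hKp ⟨x, hx⟩
    let x' : D := ⟨y * x * y⁻¹, (inferInstance : (commutator G).Normal).conj_mem _ x.2 y⟩
    refine ⟨x', ?_, rfl⟩
    have hx' : x' ^ p ^ i = 1 := by
      refine Subtype.ext ?_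
      simp only [x', SubgroupClass.coe_pow, conj_pow]
      rw [← SubgroupClass.coe_pow, show x ^ p ^ i = 1 from congrArg Subtype.val hi]
      simp
    obtain ⟨j, hj⟩ := T.isPGroup' (φ x')
    exact MonoidHom.mem_ker.2 (orderOf_eq_one_iff.1 (Nat.eq_one_of_dvd_coprimes (hco j i)
      (orderOf_dvd_of_pow_eq_one hj) (orderOf_dvd_of_pow_eq_one (by rw [← map_pow, hx', map_one]))))⟩
  let π := QuotientGroup.mk' K
  have hquot : IsPGroup 3 (G ⧸ K) := fun x => by
    obtain ⟨y, rfl⟩ := QuotientGroup.mk'_surjective K x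
    let d : D := ⟨y ^ 3, h.cube_mem ha hb hgen y⟩
    obtain ⟨j, hj⟩ := T.isPGroup' (φ d)
    refine ⟨j + 1, ?_⟩
    rw [← map_pow, QuotientGroup.mk'_apply, QuotientGroup.eq_one_iff]
    exact ⟨d ^ 3 ^ j, MonoidHom.mem_ker.2 (by rw [map_pow, hj]), by simp [d, pow_succ', pow_mul]⟩
  obtain ⟨S, hS⟩ := (IsPGroup.of_card_dvd_pow (p := 3) (n := 1) (G := zpowers a)
    (by rw [Nat.card_zpowers, pow_one]; exact orderOf_dvd_of_pow_eq_one ha)).exists_le_sylow
  obtain ⟨S', hS'⟩ := (IsPGroup.of_card_dvd_pow (p := 3) (n := 1) (G := zpowers b)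
    (by rw [Nat.card_zpowers, pow_one]; exact orderOf_dvd_of_pow_eq_one hb)).exists_le_sylow
  obtain ⟨g, rfl⟩ := MulAction.exists_smul_eq G S S'
  have haS : a ∈ (S : Subgroup G) := hS (mem_zpowers a)
  have hbS : g⁻¹ * b * g ∈ (S : Subgroup G) := by
    have := hS' (mem_zpowers b)
    rw [Sylow.coe_subgroup_smul, mem_pointwise_smul_iff_inv_smul_mem] at this
    simpa [MulAut.smul_def] using this
  have htop : (S : Subgroup G).map π = ⊤ := by
    rw [← index_eq_one]
    obtain ⟨n, hn⟩ := IsPGroup.iff_card.1 hquot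
    exact Nat.eq_one_of_dvd_coprimes ((Nat.prime_three.coprime_iff_not_dvd.2 S.not_dvd_index).pow_left n).symm
      (index_map_dvd _ (QuotientGroup.mk'_surjective K)) (hn ▸ (Subgroup.index_dvd_card _))
  obtain ⟨s, hs', hsg⟩ := mem_map.1 (htop ▸ mem_top (π g))
  have hs : s ∈ (S : Subgroup G) := hs'
  obtain ⟨c, hc⟩ : ∃ c, c = s * (g⁻¹ * b * g) * s⁻¹ := ⟨_, rfl⟩
  have hcS : c ∈ (S : Subgroup G) := hc ▸ mul_mem (mul_mem hs hbS) (inv_mem hs)
  have hπ : π c = π b := by rw [hc]; simp only [map_mul, map_inv, hsg]; group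
  obtain ⟨z, hz⟩ : ∃ z, z = a * c * a⁻¹ * c⁻¹ := ⟨_, rfl⟩
  have hzD : z ∈ D := hz ▸ commutator_mem_commutator (mem_top a) (mem_top c)
  let E : Subgroup G := (S : Subgroup G) ⊓ D
  have hzS : z ∈ (S : Subgroup G) := hz ▸ mul_mem (mul_mem (mul_mem haS hcS) (inv_mem haS)) (inv_mem hcS)
  have hzE : z ∈ E := ⟨hzS, hzD⟩
  have hcomm : ∀ y ∈ (S : Subgroup G), Commute y z := fun y hy =>
    h.norm_comm hodd h3p (S.isPGroup'.to_le inf_le_left) inf_le_right (fun x hx =>
      ⟨(mul_mem (mul_mem hy (show x ∈ (S : Subgroup G) from hx.1)) (inv_mem hy) : y * x * y⁻¹ ∈ (S : Subgroup G)), (inferInstance : (commutator G).Normal).conj_mem x hx.2 y⟩) z hzE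
  let f : G → A := fun x => ((ι x : Aˣ) : A)
  have m : ∀ x y : G, f (x * y) = f x * f y := fun x y => by simp only [f, map_mul, Units.val_mul]
  have one : f 1 = 1 := by simp only [f, map_one, Units.val_one]
  have mi : ∀ x : G, f x * f x⁻¹ = 1 := fun x => by rw [← m, mul_inv_cancel, one]
  have im : ∀ x : G, f x⁻¹ * f x = 1 := fun x => by rw [← m, inv_mul_cancel, one]
  have cj : ∀ x y : G, QuadRoot ω (f x) → QuadRoot ω (f (y * x * y⁻¹)) := fun x y hx => by
    rw [m, m]; exact quadRoot_conj (im y) (mi y) hx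
  have hqc : QuadRoot ω (f c) := by
    rw [show c = (s * g⁻¹) * b * (s * g⁻¹)⁻¹ by rw [hc]; group]; exact cj b _ hqb
  have cm : ∀ x y : G, Commute x y → Commute (f x) (f y) := fun x y e => by
    show f x * f y = f y * f x
    rw [← m, ← m, e.eq]
  have hsq := commutator_sq_sub_one hω (im z) (mi z) (cm _ _ (hcomm a haS).symm) (cm _ _ (hcomm c hcS).symm)
    (by rw [← m, ← m, ← m]; exact congrArg f (by rw [hz]; group)) hqa hqc
    (by rw [← m, show z * c = a * c * a⁻¹ by rw [hz]; group]; exact cj c a hqc)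
    (by rw [← m, show z⁻¹ * a = c * a * c⁻¹ by rw [hz]; group]; exact cj a c hqa)
  have hz1 : z = 1 := by
    obtain ⟨k, hk⟩ := S.isPGroup' ⟨z, hzE.1⟩
    have hord : orderOf z ∣ 3 ^ k := orderOf_dvd_of_pow_eq_one (congrArg Subtype.val hk)
    have e : z * z = 1 := by
      refine h.inj ((eq_one_of_nilpotent (p := p) ⟨2, ?_⟩ ?_).trans (map_one ι).symm)
      · rw [pow_two]; show (f (z * z) - 1) * (f (z * z) - 1) = 0
        rw [m]; exact hsq
      · rw [orderOf_injective ι h.inj, ← pow_two]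
        intro hd
        have := (hd.trans (orderOf_pow_dvd 2)).trans hord
        exact h3p ((Nat.prime_dvd_prime_iff_eq h.prime Nat.prime_three).1 (h.prime.dvd_of_dvd_pow this)).symm
    exact orderOf_eq_one_iff.1 (Nat.eq_one_of_dvd_coprimes ((by norm_num : Nat.Coprime 2 3).pow_right k)
      (orderOf_dvd_of_pow_eq_one (by rw [pow_two, e])) hord)
  have hcomm' : ∀ x ∈ ({π a, π b} : Set (G ⧸ K)), ∀ y ∈ ({π a, π b} : Set (G ⧸ K)), x * y = y * x := by
    have e : π a * π b = π b * π a := by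
      rw [← hπ, ← map_mul, ← map_mul]
      refine congrArg π (mul_inv_eq_one.1 ?_)
      rw [← hz1, hz]; group
    rintro x (rfl | hx) y (rfl | hy)
    · rfl
    · rw [Set.mem_singleton_iff] at hy; subst hy; exact e
    · rw [Set.mem_singleton_iff] at hx; subst hx; exact e.symm
    · rw [Set.mem_singleton_iff] at hx hy; subst hx; subst hy; rfl
  have hDK : D ≤ K := by
    show ⁅(⊤ : Subgroup G), ⊤⁆ ≤ K
    rw [commutator_le]
    have hall : closure ({π a, π b} : Set (G ⧸ K)) = ⊤ := by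
      rw [← Set.image_pair, ← MonoidHom.map_closure, hgen,
        map_top_of_surjective _ (QuotientGroup.mk'_surjective K)]
    intro x _ y _
    rw [← QuotientGroup.eq_one_iff]
    show π ⁅x, y⁆ = 1
    rw [map_commutatorElement, commutatorElement_eq_one_iff_mul_comm]
    haveI := isMulCommutative_closure hcomm'
    exact congrArg Subtype.val (mul_comm' (⟨π x, hall ▸ mem_top _⟩ : closure ({π a, π b} : Set (G ⧸ K)))
      ⟨π y, hall ▸ mem_top _⟩)
  have h1 : Nat.card D ∣ Nat.card K := card_dvd_of_le hDK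
  rw [Subgroup.card_map_of_injective D.subtype_injective] at h1
  exact MonoidHom.not_dvd_card_ker_transferSylow T hP (hdvd.trans h1)

/-- The derived group is a `p`-group. -/
theorem Ctr.isPGroup [Finite G] {p : ℕ} {ι : G →* Aˣ} (h : Ctr p ι) (hodd : Odd (Nat.card G)) {ω : F}
    (hω : ω * ω + ω + 1 = 0) {a b : G} (ha : a ^ 3 = 1) (hb : b ^ 3 = 1)
    (hgen : closure ({a, b} : Set G) = ⊤) (hqa : QuadRoot ω (ι a : A)) (hqb : QuadRoot ω (ι b : A)) :
    IsPGroup p (commutator G) := by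
  haveI : Fact p.Prime := ⟨h.prime⟩
  refine IsPGroup.of_card (n := (Nat.card (commutator G)).primeFactorsList.length)
    (Nat.eq_prime_pow_of_unique_prime_dvd Nat.card_pos.ne' fun {q} hq hd => ?_)
  haveI : Fact q.Prime := ⟨hq⟩
  by_contra hqp
  refine h.q_ne_three hodd ha hb hgen hqp (fun e => ?_) hd
  exact h.three_not_dvd hodd hω ha hb hgen hqa hqb (e ▸ hd)

end Three

end CfsgLib.Classical.QutritMax
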