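import Cfsg.Agent.Lib.Classical.QutritMax.PairAlg
import Cfsg.Agent.Lib.Classical.QutritMax.PairGroup

/-!
# Two conjugates of a quadratic element of order three

In a finite group of units, two elements `1 + (ω - 1) P`, `1 + (ω - 1) Q` generate a group whose derived group
contains an involution commuting with `P` and `Q`, or is a group of exponent a power of `p`.
-/

set_option autoImplicit false
set_option linter.unusedSectionVars false
set_option linter.unusedSimpArgs false

namespace CfsgLib.Classical.QutritMax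

open Polynomial Subgroup
open scoped commutatorElement

variable {F : Type*} [Field F] {A : Type*} [Ring A] [Algebra F A]

/-- `ω` is a primitive cube root of unity. -/
structure Cube (ω : F) : Prop where
  eq : ω * ω + ω + 1 = 0
  three : (3 : F) ≠ 0

namespace Cube

variable {ω : F} (hω : Cube ω)
include hω

theorem pow_three : ω ^ 3 = 1 := by linear_combination (ω - 1) * hω.eq

theorem ne_zero : ω ≠ 0 := fun e => by simpa [e] using hω.eq

theorem ne_one : ω ≠ 1 := fun e => hω.three (by have := hω.eq; rw [e] at this; linear_combination this)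

theorem sub_one_ne : ω - 1 ≠ 0 := sub_ne_zero.2 hω.ne_one

theorem sq_sub_one_ne : ω * ω - 1 ≠ 0 := fun e => hω.ne_one (by linear_combination hω.pow_three - ω * e)

end Cube

/-- The element with eigenvalue `ω` on the image of an idempotent and `1` on its kernel. -/
def tU (ω : F) (P : A) : A := 1 + (ω - 1) • P

theorem tU_comm {ω : F} {P r : A} (hω : Cube ω) : Commute r (tU ω P) ↔ Commute r P := by
  constructor
  · intro h
    have h2 : r * tU ω P = tU ω P * r := h
    simp only [tU, mul_add, add_mul, mul_one, one_mul, mul_smul_comm, smul_mul_assoc, add_right_inj] at h2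
    have := congrArg ((ω - 1)⁻¹ • ·) h2
    have h3 : r * P = P * r := by simpa [smul_smul, inv_mul_cancel₀ hω.sub_one_ne] using this
    exact h3
  · intro h
    exact (Commute.one_right r).add_right (h.smul_right _)

theorem tU_mul {P : A} (hP : P * P = P) (x y : F) :
    (1 + (x - 1) • P) * (1 + (y - 1) • P) = 1 + (x * y - 1) • P := by
  simp only [mul_add, add_mul, mul_one, one_mul, mul_smul_comm, smul_mul_assoc, hP]
  match_scalars <;> ring

/-- `g` has coefficients of norm a power of `ω`. -/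
def Rep (ω : F) (P Q : A) (g : A) (k : ℕ) : Prop := ∃ u : Quad F, val P Q u = g ∧ u.norm = C (ω ^ k)

theorem Rep.mul {ω : F} {P Q g h : A} (hP : P * P = P) (hQ : Q * Q = Q) {k l : ℕ} (hg : Rep ω P Q g k)
    (hh : Rep ω P Q h l) : Rep ω P Q (g * h) (k + l) := by
  obtain ⟨u, rfl, hu⟩ := hg
  obtain ⟨v, rfl, hv⟩ := hh
  exact ⟨Quad.mulQ u v, val_mulQ hP hQ u v, by rw [Quad.norm_mulQ, hu, hv, pow_add, map_mul]⟩

theorem val_one (P Q : A) : val P Q (⟨1, 0, 0, 0⟩ : Quad F) = 1 := by simp [val_scalar]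

theorem rep_one (ω : F) (P Q : A) : Rep ω P Q (1 : A) 0 :=
  ⟨⟨1, 0, 0, 0⟩, val_one P Q, by simp [Quad.norm]⟩

theorem rep_tP (ω : F) (P Q : A) : Rep ω P Q (tU ω P) 1 :=
  ⟨⟨1, C (ω - 1), 0, 0⟩, by simp [val, tU, Algebra.smul_def], by simp [Quad.norm, C_sub]⟩

theorem rep_tQ (ω : F) (P Q : A) : Rep ω P Q (tU ω Q) 1 :=
  ⟨⟨1, 0, C (ω - 1), 0⟩, by simp [val, tU, Algebra.smul_def], by simp [Quad.norm, C_sub]⟩

theorem Rep.inv {ω : F} (hω : Cube ω) {P Q : A} (hP : P * P = P) (hQ : Q * Q = Q) {g : Aˣ} {k : ℕ}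
    (hg : Rep ω P Q (g : A) k) : Rep ω P Q ((g⁻¹ : Aˣ) : A) (2 * k) := by
  obtain ⟨u, e, hu⟩ := hg
  refine ⟨Quad.mulQ ⟨C (ω ^ (2 * k)), 0, 0, 0⟩ u.adj, ?_, ?_⟩
  · refine Units.eq_inv_of_mul_eq_one_right ?_
    rw [← e, ← val_mulQ hP hQ]
    have h1 : val P Q (Quad.mulQ (Quad.mulQ ⟨C (ω ^ (2 * k)), 0, 0, 0⟩ u.adj) u)
        = aeval (sq P Q) (C (ω ^ (2 * k)) * C (ω ^ k)) := by
      rw [val_mulQ hP hQ, val_mulQ hP hQ, val_scalar, mul_assoc, ← val_mulQ hP hQ, Quad.adj_mulQ, val_scalar, hu,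
        map_mul]
    rw [h1, ← map_mul, ← pow_add, show 2 * k + k = 3 * k by ring, pow_mul, hω.pow_three, one_pow, map_one, map_one]
  · rw [Quad.norm_mulQ, Quad.norm_adj, hu]
    simp only [Quad.norm, zero_mul, add_zero, mul_zero]
    rw [← map_mul, ← map_mul, ← pow_add, ← pow_add, show 2 * k + 2 * k + k = 3 * k + 2 * k by ring, pow_add,
      pow_mul, hω.pow_three, one_pow, one_mul]

/-- `g + g⁻¹` commutes with both idempotents, for `g` of norm one. -/
theorem Rep.central {ω : F} {P Q : A} (hP : P * P = P) (hQ : Q * Q = Q) {g : Aˣ}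
    (hg : Rep ω P Q (g : A) 0) :
    Commute ((g : A) + (g⁻¹ : Aˣ)) P ∧ Commute ((g : A) + (g⁻¹ : Aˣ)) Q := by
  obtain ⟨u, e, hu⟩ := hg
  have h : (g : A) * val P Q u.adj = 1 := by
    rw [← e, ← val_mulQ hP hQ, Quad.mulQ_adj, hu, val_scalar, pow_zero, map_one, map_one]
  have h2 : val P Q u.adj = ((g⁻¹ : Aˣ) : A) := by
    have := congrArg (((g⁻¹ : Aˣ) : A) * ·) h
    simpa [← mul_assoc] using this
  rw [← e, ← h2]
  exact ⟨tr_central hP hQ u P (Or.inl rfl), tr_central hP hQ u Q (Or.inr rfl)⟩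

theorem unit_conj_eq {a : Aˣ} {c : A} (h : Commute (a : A) c) : (a : A) * c * (a⁻¹ : Aˣ) = c := by
  rw [h.eq, mul_assoc, Units.mul_inv, mul_one]

/-- A map by an element of eigenvalue `ω` on `P` scaling `Y` forces `Y` to be one-sided. -/
theorem sided {ω c : F} (hω : Cube ω) {P Y : A} (hP : P * P = P) (hc : c = ω ∨ c = ω * ω)
    (e : tU ω P * Y = c • (Y * tU ω P)) :
    Y * Y = 0 ∧ ((P * Y = Y ∧ Y * P = 0) ∨ (P * Y = 0 ∧ Y * P = Y)) := by
  simp only [tU, add_mul, mul_add, one_mul, mul_one, smul_mul_assoc, mul_smul_comm, smul_add, smul_smul] at e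
  rcases hc with rfl | rfl
  · have e1 : P * Y = Y + c • (Y * P) := by
      refine smul_right_injective A hω.sub_one_ne ?_
      linear_combination (norm := module) e
    have e2 := congrArg (P * ·) e1
    simp only [← mul_assoc, hP, mul_add, mul_smul_comm] at e2
    have e3 : P * Y * P = 0 := by
      refine smul_right_injective A hω.ne_zero ?_
      linear_combination (norm := module) -e2
    have e4 := congrArg (· * P) e1
    simp only [add_mul, smul_mul_assoc, mul_assoc Y P P, hP, e3] at e4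
    have e5 : Y * P = 0 := by
      refine smul_right_injective A (show 1 + c ≠ 0 from fun h0 => hω.sq_sub_one_ne
        (by linear_combination (c - 1) * h0)) ?_
      linear_combination (norm := module) -e4
    rw [e5, smul_zero, add_zero] at e1
    refine ⟨?_, Or.inl ⟨e1, e5⟩⟩
    nth_rw 2 [← e1]; rw [← mul_assoc, e5, zero_mul]
  · have e1 : P * Y = (1 + ω) • Y + (ω * ω) • (Y * P) := by
      refine smul_right_injective A hω.sub_one_ne ?_
      linear_combination (norm := module) e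
    have e2 := congrArg (· * P) e1
    simp only [add_mul, smul_mul_assoc, mul_assoc Y P P, hP, ← add_smul,
      show 1 + ω + ω * ω = 0 by linear_combination hω.eq, zero_smul] at e2
    have e3 := congrArg (P * ·) e1
    simp only [← mul_assoc, hP, mul_add, mul_smul_comm, e2, smul_zero, add_zero] at e3
    have e4 : P * Y = 0 := by
      refine smul_right_injective A hω.ne_zero ?_
      linear_combination (norm := module) -e3
    have e5 : Y * P = Y := by
      rw [e4] at e1
      refine smul_right_injective A (mul_ne_zero hω.ne_zero hω.ne_zero) ?_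
      linear_combination (norm := (match_scalars <;> first | ring1 | linear_combination hω.eq | linear_combination -hω.eq)) -e1
    refine ⟨?_, Or.inr ⟨e4, e5⟩⟩
    nth_rw 1 [← e5]; rw [mul_assoc, e4, mul_zero]

theorem one_add_pow_expand (X : A) (n : ℕ) :
    ∃ R : A, Commute X R ∧ (1 + X) ^ n = 1 + (n : F) • X + X * X * R := by
  induction n with
  | zero => exact ⟨0, Commute.zero_right X, by simp⟩
  | succ n ih =>
    obtain ⟨R, hR, e⟩ := ih
    refine ⟨(n : F) • (1 : A) + R * (1 + X), ?_, ?_⟩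
    · exact ((Commute.one_right X).smul_right _).add_right (hR.mul_right ((Commute.one_right X).add_right (Commute.refl X)))
    · rw [pow_succ, e]
      simp only [add_mul, mul_add, one_mul, mul_one, smul_mul_assoc, mul_smul_comm, ← mul_assoc, Nat.cast_succ,
        add_smul, one_smul]
      abel

/-- A `p`-element normalised with eigenvalue `ω` or `ω²` by the quadratic element is `1 + M`, `M` one-sided. -/
theorem one_sided [Nontrivial A] {p : ℕ} [Fact p.Prime] [CharP F p] {ω : F} (hω : Cube ω) {P : A}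
    (hP : P * P = P) {T u : Aˣ} (hT : (T : A) = tU ω P) (hu : u ^ p = 1) {k : ℕ}
    (hk : (k : F) = ω ∨ (k : F) = ω * ω) (hconj : T * u * T⁻¹ = u ^ k) :
    ((u : A) - 1) * ((u : A) - 1) = 0 ∧
      ((P * ((u : A) - 1) = (u : A) - 1 ∧ ((u : A) - 1) * P = 0) ∨
        (P * ((u : A) - 1) = 0 ∧ ((u : A) - 1) * P = (u : A) - 1)) := by
  haveI : CharP A p := charP_of_injective_algebraMap (algebraMap F A).injective p
  obtain ⟨c, hcdef⟩ : ∃ c : F, c = (k : F) := ⟨_, rfl⟩
  rw [← hcdef] at hk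
  have hc3 : c * c * c = 1 := by
    rcases hk with e | e <;> rw [e]
    · linear_combination hω.pow_three
    · linear_combination (ω ^ 3 + 1) * hω.pow_three
  obtain ⟨X, hX⟩ : ∃ X, X = (u : A) - 1 := ⟨_, rfl⟩
  rw [← hX]
  have hu1 : (u : A) = 1 + X := by rw [hX]; abel
  have hXp : X ^ p = 0 := by
    rw [hX, sub_pow_char_of_commute p (Commute.one_right (u : A)), one_pow, ← Units.val_pow_eq_pow_val, hu,
      Units.val_one, sub_self]
  have hpow : ∀ n : ℕ, (T : A) * ((1 + X) ^ n - 1) = ((1 + X) ^ (k * n) - 1) * (T : A) := fun n => by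
    have e : T * u ^ n = u ^ (k * n) * T := by
      rw [pow_mul, ← hconj, conj_pow]; group
    rw [mul_sub, mul_one, sub_mul, one_mul, ← hu1, ← Units.val_pow_eq_pow_val, ← Units.val_pow_eq_pow_val,
      ← Units.val_mul, e, Units.val_mul]
  have hk3 : (1 + X) ^ (k * (k * k)) = 1 + X := by
    have hm : k * (k * k) % p = 1 := by
      have : ((k * (k * k) : ℕ) : F) = ((1 : ℕ) : F) := by
        push_cast; rw [← hcdef]; linear_combination hc3
      have h2 := (CharP.natCast_eq_natCast F p).1 this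
      rwa [Nat.ModEq, Nat.mod_eq_of_lt (Fact.out : p.Prime).one_lt] at h2
    rw [← hu1, ← Units.val_pow_eq_pow_val, pow_eq_pow_mod _ hu, hm, pow_one]
  obtain ⟨R₁, hR₁, e₁⟩ := one_add_pow_expand (F := F) X k
  obtain ⟨R₂, hR₂, e₂⟩ := one_add_pow_expand (F := F) X (k * k)
  have t0 : (T : A) * X = ((1 + X) ^ k - 1) * (T : A) := by
    have := hpow 1; rwa [pow_one, add_sub_cancel_left, mul_one] at this
  have t1 : (T : A) * ((1 + X) ^ k - 1) = ((1 + X) ^ (k * k) - 1) * (T : A) := hpow k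
  have t2 : (T : A) * ((1 + X) ^ (k * k) - 1) = X * (T : A) := by
    rw [hpow (k * k), hk3, add_sub_cancel_left]
  obtain ⟨Y, hY⟩ : ∃ Y, Y = X + (c * c) • ((1 + X) ^ k - 1) + c • ((1 + X) ^ (k * k) - 1) := ⟨_, rfl⟩
  have eY : (T : A) * Y = c • (Y * (T : A)) := by
    rw [hY]
    simp only [mul_add, mul_smul_comm, t0, t1, t2, add_mul, smul_mul_assoc, smul_add, smul_smul,
      show c * (c * c) = 1 by linear_combination hc3, one_smul]
    abel
  obtain ⟨hYY, -⟩ := sided hω hP hk (hT ▸ eY)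
  obtain ⟨R, hR⟩ : ∃ R, R = (c * c) • R₁ + c • R₂ := ⟨_, rfl⟩
  have hXR : Commute X R := hR ▸ ((hR₁.smul_right _).add_right (hR₂.smul_right _))
  have hY' : Y = X * ((3 : F) • (1 : A) + X * R) := by
    rw [hY, hR, e₁, e₂, Nat.cast_mul, ← hcdef]
    simp only [mul_add, mul_smul_comm, mul_one, ← mul_assoc]
    linear_combination (norm := (match_scalars <;> first | ring1 | linear_combination hc3 | linear_combination -hc3 | linear_combination 2 * hc3 | linear_combination -2 * hc3)) (0 : F) • X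
  have hXX : X * X = 0 := by
    have hnil : IsNilpotent (X * R) := hXR.isNilpotent_mul_right ⟨p, hXp⟩
    have hunit : IsUnit ((3 : F) • (1 : A) + X * R) := by
      refine IsNilpotent.isUnit_add_left_of_commute hnil ?_ ((Commute.one_right _).smul_right _)
      rw [← Algebra.algebraMap_eq_smul_one]; exact (Ne.isUnit hω.three).map _
    have cXU : Commute X ((3 : F) • (1 : A) + X * R) :=
      ((Commute.one_right X).smul_right _).add_right ((Commute.refl X).mul_right hXR)
    obtain ⟨U, hU⟩ := hunit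
    rw [hY', ← hU, Commute.mul_mul_mul_comm (hU ▸ cXU.symm) X (U : A), ← Units.val_mul] at hYY
    exact (Units.mul_left_eq_zero _).1 hYY
  have e : (T : A) * X = c • (X * (T : A)) := by
    rw [t0, e₁, hXX, zero_mul, add_zero, add_sub_cancel_left, smul_mul_assoc, hcdef]
  exact sided hω hP hk (hT ▸ e)

/-- The group generated by the two elements. -/
structure Pr (ω : F) (P Q : A) (TP TQ : Aˣ) : Prop where
  cube : Cube ω
  idP : P * P = P
  idQ : Q * Q = Q
  valP : (TP : A) = tU ω P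
  valQ : (TQ : A) = tU ω Q

namespace Pr

variable {ω : F} {P Q : A} {TP TQ : Aˣ} (h : Pr ω P Q TP TQ)

/-- The group. -/
abbrev grp (_h : Pr ω P Q TP TQ) : Subgroup Aˣ := Subgroup.closure {TP, TQ}

include h

theorem pow_three {X : A} {T : Aˣ} (hX : X * X = X) (hT : (T : A) = tU ω X) : T ^ 3 = 1 := by
  refine Units.ext ?_
  rw [Units.val_pow_eq_pow_val, hT, pow_succ, pow_two, tU, tU_mul hX, tU_mul hX, ← pow_two, ← pow_succ,
    h.cube.pow_three, sub_self, zero_smul, add_zero, Units.val_one]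

theorem exists_rep {g : Aˣ} (hg : g ∈ h.grp) : ∃ k, Rep ω P Q (g : A) k := by
  induction hg using Subgroup.closure_induction with
  | one => exact ⟨0, by rw [Units.val_one]; exact rep_one ω P Q⟩
  | mem x hx =>
    rcases hx with rfl | hx
    · exact ⟨1, h.valP ▸ rep_tP ω P Q⟩
    · rw [Set.mem_singleton_iff] at hx; subst hx; exact ⟨1, h.valQ ▸ rep_tQ ω P Q⟩
  | mul x y _ _ hx hy =>
    obtain ⟨k, hk⟩ := hx; obtain ⟨l, hl⟩ := hy
    exact ⟨k + l, by rw [Units.val_mul]; exact hk.mul h.idP h.idQ hl⟩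
  | inv x _ hx =>
    obtain ⟨k, hk⟩ := hx
    exact ⟨2 * k, hk.inv h.cube h.idP h.idQ⟩

theorem pow_three' : TP ^ 3 = 1 ∧ TQ ^ 3 = 1 :=
  ⟨h.pow_three h.idP h.valP, h.pow_three h.idQ h.valQ⟩

theorem comm_grp {c : A} (hP : Commute c P) (hQ : Commute c Q) {y : Aˣ} (hy : y ∈ h.grp) :
    Commute c (y : A) := by
  induction hy using Subgroup.closure_induction with
  | one => rw [Units.val_one]; exact Commute.one_right c
  | mem x hx =>
    rcases hx with rfl | hx
    · rw [h.valP]; exact (tU_comm h.cube).2 hP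
    · rw [Set.mem_singleton_iff] at hx; subst hx; rw [h.valQ]; exact (tU_comm h.cube).2 hQ
  | mul x y _ _ hx hy => rw [Units.val_mul]; exact hx.mul_right hy
  | inv x _ hx => exact hx.units_inv_right

theorem rep_commutator {g : Aˣ} (hg : g ∈ ⁅h.grp, h.grp⁆) : Rep ω P Q (g : A) 0 := by
  rw [Subgroup.commutator_def] at hg
  induction hg using Subgroup.closure_induction with
  | one => rw [Units.val_one]; exact rep_one ω P Q
  | mem x hx =>
    obtain ⟨x₁, h₁, x₂, h₂, rfl⟩ := hx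
    obtain ⟨k, hk⟩ := h.exists_rep h₁
    obtain ⟨l, hl⟩ := h.exists_rep h₂
    have := (((hk.mul h.idP h.idQ hl).mul h.idP h.idQ (hk.inv h.cube h.idP h.idQ)).mul h.idP h.idQ
      (hl.inv h.cube h.idP h.idQ))
    rw [← Units.val_mul, ← Units.val_mul, ← Units.val_mul] at this
    obtain ⟨u, e, hu⟩ := this
    refine ⟨u, e, hu.trans (congrArg C ?_)⟩
    rw [show k + l + 2 * k + 2 * l = 3 * (k + l) by ring, pow_mul, h.cube.pow_three, one_pow, pow_zero]
  | mul x y _ _ hx hy => rw [Units.val_mul]; exact hx.mul h.idP h.idQ hy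
  | inv x _ hx => exact hx.inv h.cube h.idP h.idQ

/-- The four possibilities for two quadratic elements of order three. -/
theorem cases [Finite Aˣ] {p : ℕ} [Fact p.Prime] [CharP F p] (hp : 5 ≤ p) {m : ℕ} (hm : (m : F) = ω) :
    P * Q = Q * P ∨
      (∃ z ∈ ⁅h.grp, h.grp⁆, z ≠ 1 ∧ z * z = 1 ∧ Commute (z : A) P ∧ Commute (z : A) Q) ∨
      (∃ u ∈ ⁅h.grp, h.grp⁆, u ≠ 1 ∧ u ^ p = 1 ∧ Commute (u : A) P) ∨
      ∃ u ∈ ⁅h.grp, h.grp⁆, u ≠ 1 ∧ ((u : A) - 1) * ((u : A) - 1) = 0 ∧
        ((P * ((u : A) - 1) = (u : A) - 1 ∧ ((u : A) - 1) * P = 0) ∨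
          (P * ((u : A) - 1) = 0 ∧ ((u : A) - 1) * P = (u : A) - 1)) := by
  rcases subsingleton_or_nontrivial A with hA | hA
  · exact Or.inl (Subsingleton.elim _ _)
  haveI : CharP A p := charP_of_injective_algebraMap (algebraMap F A).injective p
  let G := ↥h.grp
  let ι : G →* Aˣ := h.grp.subtype
  have hmap : (commutator G).map ι = ⁅h.grp, h.grp⁆ := by
    show Subgroup.map ι (⁅(⊤ : Subgroup G), ⊤⁆ : Subgroup G) = _
    rw [Subgroup.map_commutator, ← MonoidHom.range_eq_map, Subgroup.range_subtype]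
  have hC : Ctr p ι :=
    { inj := h.grp.subtype_injective
      central := fun g hg y => by
        obtain ⟨e1, e2⟩ := (h.rep_commutator (hmap ▸ Subgroup.mem_map_of_mem ι hg)).central h.idP h.idQ
        exact h.comm_grp e1 e2 y.2
      prime := Fact.out
      char := inferInstance
      five := hp }
  by_cases hz : ∃ z ∈ commutator G, z ≠ 1 ∧ z * z = 1
  · obtain ⟨z, hzD, hz1, hz2⟩ := hz
    refine Or.inr (Or.inl ⟨ι z, hmap ▸ Subgroup.mem_map_of_mem ι hzD,
      fun e => hz1 (hC.inj (e.trans (map_one ι).symm)), by rw [← map_mul, hz2, map_one], ?_⟩)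
    obtain ⟨e1, e2⟩ := (h.rep_commutator (hmap ▸ Subgroup.mem_map_of_mem ι hzD)).central h.idP h.idQ
    have hinv : (ι z)⁻¹ = ι z := by rw [← map_inv, inv_eq_of_mul_eq_one_right hz2]
    rw [hinv, ← two_mul] at e1 e2
    obtain ⟨w, hw⟩ := hC.two_ne
    have hcancel : ∀ r : A, Commute (2 * (ι z : A)) r → Commute (ι z : A) r := fun r hr => by
      have := (Commute.units_inv_left (show Commute (w : A) r by rw [hw]; exact Nat.cast_commute 2 r)).mul_left hr
      rwa [← hw, ← mul_assoc, Units.inv_mul, one_mul] at this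
    exact ⟨hcancel P e1, hcancel Q e2⟩
  let a : G := ⟨TP, Subgroup.subset_closure (Or.inl rfl)⟩
  let b : G := ⟨TQ, Subgroup.subset_closure (Or.inr rfl)⟩
  have ha : a ^ 3 = 1 := Subtype.ext h.pow_three'.1
  have hb : b ^ 3 = 1 := Subtype.ext h.pow_three'.2
  have hgen : Subgroup.closure ({a, b} : Set G) = ⊤ := by
    refine Eq.trans (congrArg Subgroup.closure ?_) (Subgroup.closure_closure_coe_preimage (k := {TP, TQ}))
    ext x
    show x ∈ ({a, b} : Set G) ↔ (x : Aˣ) ∈ ({TP, TQ} : Set Aˣ)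
    simp only [Set.mem_insert_iff, Set.mem_singleton_iff]
    exact or_congr Subtype.ext_iff Subtype.ext_iff
  have hodd : Odd (Nat.card G) := by
    rw [Nat.odd_iff, ← Nat.two_dvd_ne_zero]
    intro h2
    obtain ⟨z, hz2⟩ := exists_prime_orderOf_dvd_card' (G := G) 2 h2
    have e2 : z * z = 1 := by rw [← pow_two, ← hz2, pow_orderOf_eq_one]
    refine hz ⟨z, ?_, fun e => by simp [e] at hz2, e2⟩
    have := hC.cube_mem ha hb hgen z
    rwa [pow_succ, pow_two, e2, one_mul] at this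
  have hquad : ∀ {X : A}, X * X = X → QuadRoot ω (tU ω X) := fun {X} hX => by
    show _ = _
    rw [show tU ω X * tU ω X = 1 + (ω * ω - 1) • X from tU_mul hX ω ω, tU]
    match_scalars <;> ring
  have hpg := hC.isPGroup hodd h.cube.eq ha hb hgen
    (show QuadRoot ω (TP : A) by rw [h.valP]; exact hquad h.idP)
    (show QuadRoot ω (TQ : A) by rw [h.valQ]; exact hquad h.idQ)
  rcases subsingleton_or_nontrivial (commutator G) with hs | hnt
  · left
    have hab : a * b = b * a := by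
      rw [← commutatorElement_eq_one_iff_mul_comm]
      exact congrArg Subtype.val (Subsingleton.elim
        (⟨⁅a, b⁆, Subgroup.commutator_mem_commutator (Subgroup.mem_top a) (Subgroup.mem_top b)⟩ : commutator G) 1)
    have h1 : Commute (tU ω P) (tU ω Q) := by
      rw [← h.valP, ← h.valQ]
      exact congrArg (fun g : G => (((g : Aˣ) : A))) hab
    exact ((tU_comm h.cube).1 ((tU_comm h.cube).1 h1).symm).symm.eq
  haveI := hpg.center_nontrivial
  have hdvd : p ∣ Nat.card (Subgroup.center (commutator G)) :=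
    ((hpg.to_subgroup _).card_eq_or_dvd).resolve_left Finite.one_lt_card.ne'
  obtain ⟨v, hv⟩ := exists_prime_orderOf_dvd_card' p hdvd
  have hv' : orderOf ((v : commutator G) : G) = p := by rw [Subgroup.orderOf_coe, Subgroup.orderOf_coe, hv]
  have mk : ∀ x ∈ commutator G, x ≠ 1 → x ^ p = 1 → Commute a x → ∃ u ∈ ⁅h.grp, h.grp⁆, u ≠ 1 ∧ u ^ p = 1 ∧
      Commute (u : A) P := fun x hxD hx1 hxp hx => by
    refine ⟨ι x, hmap ▸ Subgroup.mem_map_of_mem ι hxD, fun e => hx1 (hC.inj (e.trans (map_one ι).symm)),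
      by rw [← map_pow, hxp, map_one], ?_⟩
    refine (tU_comm h.cube).1 ?_
    rw [← h.valP]
    exact ((hx.map ι).units_val).symm
  obtain ⟨x, hx⟩ : ∃ x : G, x = ((v : commutator G) : G) := ⟨_, rfl⟩
  have hxD : x ∈ commutator G := hx ▸ (v : commutator G).2
  have hx1 : x ≠ 1 := fun e => by
    rw [← hx, e, orderOf_one] at hv'; exact (Fact.out : p.Prime).one_lt.ne hv'
  have hxp : x ^ p = 1 := by rw [← hv', hx, pow_orderOf_eq_one]
  have hxc : ∀ y ∈ commutator G, Commute x y := fun y hy =>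
    hx ▸ (congrArg Subtype.val (Subgroup.mem_center_iff.1 v.2 ⟨y, hy⟩)).symm
  have hxD' : ∀ g : G, g * x * g⁻¹ ∈ commutator G := fun g =>
    (inferInstance : (commutator G).Normal).conj_mem x hxD g
  obtain ⟨x₁, hx₁⟩ : ∃ x₁, x₁ = a * x * a⁻¹ := ⟨_, rfl⟩
  obtain ⟨x₂, hx₂⟩ : ∃ x₂, x₂ = a * x₁ * a⁻¹ := ⟨_, rfl⟩
  have hx₁D : x₁ ∈ commutator G := hx₁ ▸ hxD' a
  have hx₂D : x₂ ∈ commutator G := hx₂ ▸ (inferInstance : (commutator G).Normal).conj_mem x₁ hx₁D a
  have hx₁c : ∀ y ∈ commutator G, Commute x₁ y := fun y hy => by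
    have hy' := (inferInstance : (commutator G).Normal).conj_mem y hy a⁻¹
    rw [inv_inv] at hy'
    have := (hxc _ hy').map (MulAut.conj a).toMonoidHom
    simp only [MulEquiv.coe_toMonoidHom, MulAut.conj_apply, ← hx₁] at this
    rwa [← mul_assoc a, ← mul_assoc a, mul_inv_cancel, one_mul, mul_assoc, mul_inv_cancel, mul_one] at this
  have hx₁p : x₁ ^ p = 1 := by rw [hx₁, conj_pow, hxp]; group
  have hx₂p : x₂ ^ p = 1 := by rw [hx₂, conj_pow, hx₁p]; group
  have hx₃ : a * x₂ * a⁻¹ = x := by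
    rw [hx₂, hx₁, show a * (a * (a * x * a⁻¹) * a⁻¹) * a⁻¹ = (a * a * a) * x * (a * a * a)⁻¹ by
      simp only [mul_inv_rev, mul_assoc], show a * a * a = a ^ 3 by rw [pow_succ, pow_two], ha, inv_one, mul_one,
      one_mul]
  -- the product of the orbit is fixed
  have hprod : x * x₁ * x₂ = 1 ∨ ∃ u ∈ ⁅h.grp, h.grp⁆, u ≠ 1 ∧ u ^ p = 1 ∧ Commute (u : A) P := by
    by_cases e : x * x₁ * x₂ = 1
    · exact Or.inl e
    refine Or.inr (mk _ (mul_mem (mul_mem hxD hx₁D) hx₂D) e ?_ ?_)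
    · rw [((hxc _ hx₂D).mul_left (hx₁c _ hx₂D)).mul_pow, (hxc _ hx₁D).mul_pow, hxp, hx₁p, hx₂p, one_mul, one_mul]
    · show a * (x * x₁ * x₂) = x * x₁ * x₂ * a
      refine mul_inv_eq_iff_eq_mul.1 ?_
      rw [show a * (x * x₁ * x₂) * a⁻¹ = (a * x * a⁻¹) * (a * x₁ * a⁻¹) * (a * x₂ * a⁻¹) by
        rw [conj_mul, conj_mul],
        ← hx₁, ← hx₂, hx₃]
      exact ((hxc _ hx₁D).mul_right (hxc _ hx₂D)).symm.eq.trans (mul_assoc _ _ _).symm
  rcases hprod with hprod | hP'
  swap
  · exact Or.inr (Or.inr (Or.inl hP'))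
  have hm3 : ((m * m + m + 1 : ℕ) : F) = ((0 : ℕ) : F) := by push_cast; rw [hm]; linear_combination h.cube.eq
  have hmod := (CharP.natCast_eq_natCast F p).1 hm3
  have finish : ∀ (u : G) (k : ℕ), u ∈ commutator G → u ≠ 1 → u ^ p = 1 → ((k : F) = ω ∨ (k : F) = ω * ω) →
      a * u * a⁻¹ = u ^ k → ∃ u ∈ ⁅h.grp, h.grp⁆, u ≠ 1 ∧ ((u : A) - 1) * ((u : A) - 1) = 0 ∧
        ((P * ((u : A) - 1) = (u : A) - 1 ∧ ((u : A) - 1) * P = 0) ∨
          (P * ((u : A) - 1) = 0 ∧ ((u : A) - 1) * P = (u : A) - 1)) := fun u k huD hu1 hup hk hconj =>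
    ⟨ι u, hmap ▸ Subgroup.mem_map_of_mem ι huD, fun e => hu1 (hC.inj (e.trans (map_one ι).symm)),
      one_sided h.cube h.idP (T := TP) h.valP (by rw [← map_pow, hup, map_one]) hk
        (by rw [← map_pow, ← hconj, map_mul, map_mul, map_inv]; rfl)⟩
  refine Or.inr (Or.inr (Or.inr ?_))
  by_cases e : x₁ = x ^ m
  · exact finish x m hxD hx1 hxp (Or.inl hm) (hx₁ ▸ e)
  obtain ⟨w, hw⟩ : ∃ w, w = x₁ * (x ^ m)⁻¹ := ⟨_, rfl⟩
  have hwD : w ∈ commutator G := hw ▸ mul_mem hx₁D (inv_mem (pow_mem hxD m))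
  have c1 : Commute x₁ (x ^ m)⁻¹ := ((hx₁c _ hxD).pow_right m).inv_right
  refine finish w (m * m) hwD (fun e' => e (mul_inv_eq_one.1 (hw ▸ e'))) ?_ (Or.inr ?_) ?_
  · rw [hw, c1.mul_pow, hx₁p, inv_pow, ← pow_mul, mul_comm m, pow_mul, hxp, one_pow, inv_one, one_mul]
  · rw [Nat.cast_mul, hm]
  · have h2 : x₂ = x₁⁻¹ * x⁻¹ := by rw [← mul_inv_rev]; exact eq_inv_of_mul_eq_one_right hprod
    have e3 : x ^ (m * (m * m)) = x := by
      have hmp : m * (m * m) % p = 1 := by
        have : ((m * (m * m) : ℕ) : F) = ((1 : ℕ) : F) := by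
          push_cast; rw [hm]; linear_combination h.cube.pow_three
        have h2 := (CharP.natCast_eq_natCast F p).1 this
        rwa [Nat.ModEq, Nat.mod_eq_of_lt (Fact.out : p.Prime).one_lt] at h2
      rw [pow_eq_pow_mod _ hxp, hmp, pow_one]
    have e4 : x₁⁻¹ * (x₁ ^ m)⁻¹ = x₁ ^ (m * m) := by
      rw [← mul_inv_rev, ← pow_succ]
      refine inv_eq_of_mul_eq_one_right ?_
      rw [← pow_add, pow_eq_pow_mod _ hx₁p, show (m + 1 + m * m) % p = 0 by
        rw [show m + 1 + m * m = m * m + m + 1 by ring]; exact Eq.trans hmod (Nat.zero_mod p), pow_zero]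
    rw [hw, c1.mul_pow, inv_pow, ← pow_mul, e3,
      show a * (x₁ * (x ^ m)⁻¹) * a⁻¹ = (a * x₁ * a⁻¹) * ((a * x * a⁻¹) ^ m)⁻¹ by rw [conj_pow]; group,
      ← hx₂, ← hx₁, h2, mul_assoc,
      show x⁻¹ * (x₁ ^ m)⁻¹ = (x₁ ^ m)⁻¹ * x⁻¹ from ((hxc _ (pow_mem hx₁D m)).inv_left.inv_right).eq,
      ← mul_assoc, e4]

end Pr

end CfsgLib.Classical.QutritMax
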