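import Mathlib

/-!
# The algebra generated by two idempotents

Every element of the algebra generated by two idempotents `P, Q` is `a + b P + c Q + d P Q` with `a, b, c, d`
polynomials in the central element `(P - Q) ^ 2`; these coefficients carry a multiplicative norm and a trace.
-/

set_option autoImplicit false
set_option linter.unusedSectionVars false
set_option linter.unusedSimpArgs false

namespace CfsgLib.Classical.QutritMax

open Polynomial

variable {F : Type*} [Field F]

/-- Coefficients with respect to `1, P, Q, P Q`. -/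
@[ext]
structure Quad (F : Type*) [Field F] where
  /-- The coefficient of `1`. -/
  a : F[X]
  /-- The coefficient of `P`. -/
  b : F[X]
  /-- The coefficient of `Q`. -/
  c : F[X]
  /-- The coefficient of `P Q`. -/
  d : F[X]

namespace Quad

/-- The product. -/
noncomputable def mulQ (u v : Quad F) : Quad F where
  a := u.a * v.a - u.c * v.b * X
  b := u.a * v.b + u.b * v.a + u.b * v.b + u.c * v.b + u.d * v.b * (1 - X)
  c := u.a * v.c + u.c * v.a + u.c * v.b + u.c * v.c + u.c * v.d * (1 - X)
  d := u.a * v.d + u.d * v.a + u.b * v.c + u.b * v.d - u.c * v.b + u.d * v.c + u.d * v.d * (1 - X)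

/-- The norm. -/
noncomputable def norm (u : Quad F) : F[X] :=
  u.a * (u.a + u.b + u.c + u.d * (1 - X)) + u.b * u.c * X

/-- The trace. -/
noncomputable def tr (u : Quad F) : F[X] := 2 * u.a + u.b + u.c + u.d * (1 - X)

/-- The conjugate. -/
noncomputable def adj (u : Quad F) : Quad F :=
  ⟨u.a + u.b + u.c + u.d * (1 - X), -u.b, -u.c, -u.d⟩

theorem norm_mulQ (u v : Quad F) : (mulQ u v).norm = u.norm * v.norm := by
  simp only [mulQ, norm]; ring

theorem norm_adj (u : Quad F) : u.adj.norm = u.norm := by
  simp only [adj, norm]; ring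

theorem adj_mulQ (u : Quad F) : mulQ u.adj u = ⟨u.norm, 0, 0, 0⟩ := by
  ext1 <;> simp only [mulQ, adj, norm] <;> ring

theorem mulQ_adj (u : Quad F) : mulQ u u.adj = ⟨u.norm, 0, 0, 0⟩ := by
  ext1 <;> simp only [mulQ, adj, norm] <;> ring

end Quad

variable {A : Type*} [Ring A] [Algebra F A]

/-- The central element of two idempotents. -/
def sq (P Q : A) : A := (P - Q) * (P - Q)

section

variable {P Q : A} (hP : P * P = P) (hQ : Q * Q = Q)
include hP hQ

theorem sq_eq : sq P Q = P + Q - P * Q - Q * P := by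
  simp only [sq, sub_mul, mul_sub, hP, hQ]; abel

theorem QP_eq : Q * P = P + Q - P * Q - sq P Q := by
  rw [sq_eq hP hQ]; abel

theorem PQP_eq : P * (Q * P) = (1 - sq P Q) * P := by
  rw [sq_eq hP hQ]
  simp only [sub_mul, add_mul, one_mul, mul_assoc, hP]
  abel

theorem QPQ_eq : Q * (P * Q) = (1 - sq P Q) * Q := by
  have e : Q * (P * Q) = (Q * P) * Q := (mul_assoc _ _ _).symm
  rw [e, sq_eq hP hQ]
  simp only [sub_mul, add_mul, one_mul, mul_assoc, hQ]
  abel

theorem comm_sq : Commute P (sq P Q) ∧ Commute Q (sq P Q) := by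
  constructor <;> rw [sq_eq hP hQ] <;> show _ = _ <;>
    simp only [mul_sub, mul_add, sub_mul, add_mul, ← mul_assoc, hP, hQ] <;>
    simp only [mul_assoc, hP, hQ] <;> abel

end

/-- The element with given coefficients. -/
noncomputable def val (P Q : A) (u : Quad F) : A :=
  aeval (sq P Q) u.a + aeval (sq P Q) u.b * P + aeval (sq P Q) u.c * Q + aeval (sq P Q) u.d * (P * Q)

theorem val_scalar (P Q : A) (r : F[X]) : val P Q ⟨r, 0, 0, 0⟩ = aeval (sq P Q) r := by simp [val]

section

variable {P Q : A} (hP : P * P = P) (hQ : Q * Q = Q)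
include hP hQ

theorem comm_P (r : F[X]) : Commute P (aeval (sq P Q) r) := by
  induction r using Polynomial.induction_on' with
  | add p q hp hq => rw [map_add]; exact hp.add_right hq
  | monomial n c =>
    rw [aeval_monomial]
    exact (show Commute P _ from (Algebra.commutes c P).symm).mul_right ((comm_sq hP hQ).1.pow_right n)

theorem comm_Q (r : F[X]) : Commute Q (aeval (sq P Q) r) := by
  induction r using Polynomial.induction_on' with
  | add p q hp hq => rw [map_add]; exact hp.add_right hq
  | monomial n c =>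
    rw [aeval_monomial]
    exact (show Commute Q _ from (Algebra.commutes c Q).symm).mul_right ((comm_sq hP hQ).2.pow_right n)

theorem val_mulQ (u v : Quad F) : val P Q (Quad.mulQ u v) = val P Q u * val P Q v := by
  set φ : F[X] →ₐ[F] A := aeval (sq P Q) with hφ
  have cP : ∀ (r : F[X]) (z : A), P * (φ r * z) = φ r * (P * z) := fun r z => by
    rw [← mul_assoc, (comm_P hP hQ r).eq, mul_assoc]
  have cQ : ∀ (r : F[X]) (z : A), Q * (φ r * z) = φ r * (Q * z) := fun r z => by
    rw [← mul_assoc, (comm_Q hP hQ r).eq, mul_assoc]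
  have cP0 : ∀ r : F[X], P * φ r = φ r * P := fun r => (comm_P hP hQ r).eq
  have cQ0 : ∀ r : F[X], Q * φ r = φ r * Q := fun r => (comm_Q hP hQ r).eq
  have eX : φ X = sq P Q := aeval_X _
  have h1 : P * (P * Q) = P * Q := by rw [← mul_assoc, hP]
  have h3 : Q * (P * Q) = Q - φ X * Q := by rw [eX, QPQ_eq hP hQ, sub_mul, one_mul]
  have h4 : P * (Q * P) = P - φ X * P := by rw [eX, PQP_eq hP hQ, sub_mul, one_mul]
  have h5 : Q * P = P + Q - P * Q - φ X := by rw [eX]; exact QP_eq hP hQ
  have h6 : P * (Q * (P * Q)) = P * Q - φ X * (P * Q) := by rw [h3, mul_sub, cP]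
  simp only [val, Quad.mulQ, map_add, map_sub, map_mul, map_one, ← hφ, add_mul, mul_add, mul_assoc, cP, cQ, cP0,
    cQ0, h1, h3, h4, h6, hP, hQ, sub_mul, mul_sub, one_mul, mul_one]
  simp only [h5, mul_sub, sub_mul, mul_add, add_mul, mul_assoc]
  have cX : ∀ (r : F[X]) (z : A), φ X * (φ r * z) = φ r * (φ X * z) := fun r z => by
    rw [← mul_assoc, ← mul_assoc, ← map_mul, ← map_mul, mul_comm]
  have cX0 : ∀ r : F[X], φ X * φ r = φ r * φ X := fun r => by rw [← map_mul, ← map_mul, mul_comm]
  abel_nf

theorem tr_central (u : Quad F) (r : A) (hr : r = P ∨ r = Q) :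
    Commute (val P Q u + val P Q u.adj) r := by
  have e : val P Q u + val P Q u.adj = aeval (sq P Q) u.tr := by
    simp only [val, Quad.adj, Quad.tr, map_add, map_neg, map_mul, map_ofNat, neg_mul, two_mul]
    abel
  rw [e]
  rcases hr with rfl | rfl
  · exact (comm_P hP hQ _).symm
  · exact (comm_Q hP hQ _).symm

end

end CfsgLib.Classical.QutritMax
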