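import Mathlib
import Cfsg.Agent.Lib.Classical.Dickson.Main
import Cfsg.Agent.Lib.Classical.Dickson.ModelTools

/-!
# Two non-commuting elements of order three in `PGL₂(p)`

They generate a group with a unipotent element, or the whole group is small.
-/

set_option autoImplicit false
set_option linter.unusedSectionVars false
set_option linter.unusedSimpArgs false

namespace CfsgLib.Classical.QutritMax

open Matrix OnePoint MulAction CfsgLib.Classical.Dickson
open scoped MatrixGroups commutatorElement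

variable {F : Type*} [Field F]

/-- The group contains, up to a scalar, a triangular unipotent matrix. -/
def HasUnip (G : Subgroup (GL (Fin 2) F)) : Prop :=
  ∃ g ∈ G, ∃ l c : F, c ≠ 0 ∧
    ((g : Matrix (Fin 2) (Fin 2) F) = l • !![1, c; 0, 1] ∨ (g : Matrix (Fin 2) (Fin 2) F) = l • !![1, 0; c, 1])

/-- The properties of the groups `A₄`, `S₄`, `A₅` that are used. -/
structure Small (G : Subgroup (GL (Fin 2) F)) (a b : GL (Fin 2) F) : Prop where
  orders : ∀ m ∈ Subgroup.closure ({a, b} : Set (GL (Fin 2) F)),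
    ProjGenLinGroup.mk m ^ 2 = 1 ∨ ProjGenLinGroup.mk m ^ 3 = 1 ∨ ProjGenLinGroup.mk m ^ 5 = 1
  cent : ∀ g ∈ G, Commute (ProjGenLinGroup.mk g) (ProjGenLinGroup.mk a) → ProjGenLinGroup.mk g ^ 3 = 1
  gen : (∀ g ∈ G, ProjGenLinGroup.mk (g * a * g⁻¹) ≠ (ProjGenLinGroup.mk a)⁻¹) →
    ∀ g ∈ G, ∃ k ∈ Subgroup.closure ({a, b} : Set (GL (Fin 2) F)), ProjGenLinGroup.mk k = ProjGenLinGroup.mk g

theorem dihedral_cube_comm {n : ℕ} : ∀ x y : DihedralGroup n, x ^ 3 = 1 → y ^ 3 = 1 → x * y = y * x := by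
  have key : ∀ x : DihedralGroup n, x ^ 3 = 1 → ∃ i, x = .r i := by
    rintro (i | i) hx
    · exact ⟨i, rfl⟩
    · rw [pow_succ, pow_two, DihedralGroup.sr_mul_self, one_mul, DihedralGroup.one_def] at hx
      exact absurd hx (fun h => by cases h)
  intro x y hx hy
  obtain ⟨i, rfl⟩ := key x hx
  obtain ⟨j, rfl⟩ := key y hy
  rw [DihedralGroup.r_mul_r, DihedralGroup.r_mul_r, add_comm]

section tables

set_option synthInstance.maxSize 2000

theorem a4_exps : ∀ x : alternatingGroup (Fin 4), x ^ 2 = 1 ∨ x ^ 3 = 1 ∨ x ^ 5 = 1 := by decide +kernel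

theorem a4_cent : ∀ a g : alternatingGroup (Fin 4), a ^ 3 = 1 → a ≠ 1 → g * a = a * g → g ^ 3 = 1 := by
  decide +kernel

theorem a4_gen : ∀ a b : alternatingGroup (Fin 4), a ^ 3 = 1 → b ^ 3 = 1 → a * b ≠ b * a → ∀ g,
    g ∈ [1, a, b, a * a, a * b, b * a, b * b, a * a * b, a * b * b, b * a * b, b * b * a, b * a * a * b,
      b * b * a * a, b * b * a * b] := by decide +kernel

theorem s4_cent : ∀ a g : Equiv.Perm (Fin 4), a ^ 3 = 1 → a ≠ 1 → g * a = a * g → g ^ 3 = 1 := by
  decide +kernel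

theorem s4_invert : ∀ a : Equiv.Perm (Fin 4), a ^ 3 = 1 → ∃ g, g * a * g⁻¹ = a⁻¹ := by decide +kernel

theorem s4_exps : ∀ x : Equiv.Perm (Fin 4), Equiv.Perm.sign x = 1 → x ^ 2 = 1 ∨ x ^ 3 = 1 := by decide +kernel

theorem a5_cent : ∀ a g : alternatingGroup (Fin 5), a ^ 3 = 1 → a ≠ 1 → g * a = a * g → g ^ 3 = 1 := by
  decide +kernel

theorem a5_invert : ∀ a : alternatingGroup (Fin 5), a ^ 3 = 1 → ∃ g, g * a * g⁻¹ = a⁻¹ := by decide +kernel

end tables

theorem cast_subfield_eq_top (hcast : ∀ c : F, ∃ n : ℕ, (n : F) = c) (A : Subfield F) : A = ⊤ := by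
  rw [eq_top_iff]
  intro c _
  obtain ⟨n, rfl⟩ := hcast c
  exact natCast_mem A n

theorem mk_eq_smul {g u : GL (Fin 2) F} (e : ProjGenLinGroup.mk g = ProjGenLinGroup.mk u) :
    ∃ l : F, (g : Matrix (Fin 2) (Fin 2) F) = l • (u : Matrix (Fin 2) (Fin 2) F) := by
  have h : ProjGenLinGroup.mk (g * u⁻¹) = 1 := by rw [map_mul, map_inv, e, mul_inv_cancel]
  rw [ProjGenLinGroup.mk_eq_one, GeneralLinearGroup.center_eq_range_scalar] at h
  obtain ⟨l, hl⟩ := h
  refine ⟨(l : F), ?_⟩
  rw [show g = g * u⁻¹ * u by group, ← hl, Units.val_mul, GeneralLinearGroup.coe_scalar, scalar_apply,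
    ← smul_one_eq_diagonal, Matrix.smul_mul, one_mul]

variable [Fintype F] [DecidableEq F]

theorem triangular_unip {G : Subgroup (GL (Fin 2) F)} {a b : GL (Fin 2) F} (ha : a ∈ G) (hb : b ∈ G)
    (hne : ProjGenLinGroup.mk a * ProjGenLinGroup.mk b ≠ ProjGenLinGroup.mk b * ProjGenLinGroup.mk a)
    (ht : (∀ g ∈ G, (g : Matrix (Fin 2) (Fin 2) F) 1 0 = 0) ∨ ∀ g ∈ G, (g : Matrix (Fin 2) (Fin 2) F) 0 1 = 0) :
    HasUnip G := by
  have hcG : ⁅a, b⁆ ∈ G := by
    rw [commutatorElement_def]; exact mul_mem (mul_mem (mul_mem ha hb) (inv_mem ha)) (inv_mem hb)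
  have hbaG : b * a ∈ G := mul_mem hb ha
  have e : ⁅a, b⁆ * (b * a) = a * b := by rw [commutatorElement_def]; group
  have e' := congrArg (fun g : GL (Fin 2) F => (g : Matrix (Fin 2) (Fin 2) F)) e
  simp only [Units.val_mul] at e'
  set C : Matrix (Fin 2) (Fin 2) F := ((⁅a, b⁆ : GL (Fin 2) F) : Matrix (Fin 2) (Fin 2) F) with hC
  have hd : (b : Matrix (Fin 2) (Fin 2) F).det * (a : Matrix (Fin 2) (Fin 2) F).det ≠ 0 :=
    mul_ne_zero (GeneralLinearGroup.det b).ne_zero (GeneralLinearGroup.det a).ne_zero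
  rw [det_fin_two, det_fin_two] at hd
  refine ⟨⁅a, b⁆, hcG, 1, ?_⟩
  rcases ht with ht | ht
  · have h0 := ht _ hcG; rw [← hC] at h0; have ha0 := ht a ha; have hb0 := ht b hb
    have e00 := congrFun (congrFun e' 0) 0
    have e11 := congrFun (congrFun e' 1) 1
    simp [Matrix.mul_apply, Fin.sum_univ_two, ha0, hb0, h0] at e00 e11
    rw [hb0, ha0] at hd
    have c00 : C 0 0 = 1 := by
      refine mul_right_cancel₀ (b := (b : Matrix (Fin 2) (Fin 2) F) 0 0 * (a : Matrix (Fin 2) (Fin 2) F) 0 0) ?_ ?_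
      · intro h; apply hd; linear_combination (((b : Matrix (Fin 2) (Fin 2) F) 1 1) * ((a : Matrix (Fin 2) (Fin 2) F) 1 1)) * h
      · linear_combination e00
    have c11 : C 1 1 = 1 := by
      refine mul_right_cancel₀ (b := (b : Matrix (Fin 2) (Fin 2) F) 1 1 * (a : Matrix (Fin 2) (Fin 2) F) 1 1) ?_ ?_
      · intro h; apply hd; linear_combination (((b : Matrix (Fin 2) (Fin 2) F) 0 0) * ((a : Matrix (Fin 2) (Fin 2) F) 0 0)) * h
      · linear_combination e11
    refine ⟨C 0 1, fun h01 => ?_, Or.inl ?_⟩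
    · have h1 : ⁅a, b⁆ = 1 := Units.ext (by
        rw [← hC, Units.val_one]; ext i j; fin_cases i <;> fin_cases j <;> simp [c00, c11, h01, h0])
      exact hne (commutatorElement_eq_one_iff_mul_comm.1 (by rw [← map_commutatorElement, h1, map_one]))
    · rw [← hC, one_smul]; ext i j; fin_cases i <;> fin_cases j <;> simp [c00, c11, h0]
  · have h0 := ht _ hcG; rw [← hC] at h0; have ha0 := ht a ha; have hb0 := ht b hb
    have e00 := congrFun (congrFun e' 0) 0
    have e11 := congrFun (congrFun e' 1) 1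
    simp [Matrix.mul_apply, Fin.sum_univ_two, ha0, hb0, h0] at e00 e11
    rw [hb0, ha0] at hd
    have c00 : C 0 0 = 1 := by
      refine mul_right_cancel₀ (b := (b : Matrix (Fin 2) (Fin 2) F) 0 0 * (a : Matrix (Fin 2) (Fin 2) F) 0 0) ?_ ?_
      · intro h; apply hd; linear_combination (((b : Matrix (Fin 2) (Fin 2) F) 1 1) * ((a : Matrix (Fin 2) (Fin 2) F) 1 1)) * h
      · linear_combination e00
    have c11 : C 1 1 = 1 := by
      refine mul_right_cancel₀ (b := (b : Matrix (Fin 2) (Fin 2) F) 1 1 * (a : Matrix (Fin 2) (Fin 2) F) 1 1) ?_ ?_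
      · intro h; apply hd; linear_combination (((b : Matrix (Fin 2) (Fin 2) F) 0 0) * ((a : Matrix (Fin 2) (Fin 2) F) 0 0)) * h
      · linear_combination e11
    refine ⟨C 1 0, fun h01 => ?_, Or.inr ?_⟩
    · have h1 : ⁅a, b⁆ = 1 := Units.ext (by
        rw [← hC, Units.val_one]; ext i j; fin_cases i <;> fin_cases j <;> simp [c00, c11, h01, h0])
      exact hne (commutatorElement_eq_one_iff_mul_comm.1 (by rw [← map_commutatorElement, h1, map_one]))
    · rw [← hC, one_smul]; ext i j; fin_cases i <;> fin_cases j <;> simp [c00, c11, h0]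

theorem unip_of_range (p : ℕ) [Fact p.Prime] [CharP F p] (hcast : ∀ c : F, ∃ n : ℕ, (n : F) = c)
    (G : Subgroup (GL (Fin 2) F)) (t : ProjGenLinGroup (Fin 2) F) {A : Subfield F} {K : Type*} [Group K]
    {φ : K →* ProjGenLinGroup (Fin 2) A}
    (hsurj : ∀ s : SpecialLinearGroup (Fin 2) A, ∃ k, φ k = SpecialLinearGroup.toPGL s)
    (hG : (G.map ProjGenLinGroup.mk).map (MulAut.conj t).toMonoidHom =
      ((ProjGenLinGroup.map (n := Fin 2) A.subtype).comp φ).range) : HasUnip G := by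
  have hA := cast_subfield_eq_top hcast A
  obtain ⟨u, hu⟩ : ∃ u : GL (Fin 2) F, (u : Matrix (Fin 2) (Fin 2) F) = !![1, 1; 0, 1] :=
    ⟨GeneralLinearGroup.mkOfDetNeZero !![1, 1; 0, 1] (by simp [det_fin_two]), rfl⟩
  obtain ⟨k, rfl⟩ := ProjGenLinGroup.mk_surjective t
  let M : Matrix (Fin 2) (Fin 2) F := ((k * u * k⁻¹ : GL (Fin 2) F) : Matrix (Fin 2) (Fin 2) F)
  have hMdet : M.det = 1 := by
    simp only [M, ← GeneralLinearGroup.val_det_apply, map_mul, map_inv]
    rw [mul_comm (GeneralLinearGroup.det k), mul_assoc, mul_inv_cancel, mul_one]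
    simp [hu, det_fin_two]
  let s : SpecialLinearGroup (Fin 2) A :=
    ⟨(of fun i j => (⟨M i j, by rw [hA]; trivial⟩ : A) : Matrix (Fin 2) (Fin 2) A), by
      refine A.subtype.injective ?_
      rw [RingHom.map_det, map_one]
      exact hMdet⟩
  obtain ⟨x, hx⟩ := hsurj s
  have hmem : ProjGenLinGroup.mk (k * u * k⁻¹) ∈
      ((ProjGenLinGroup.map (n := Fin 2) A.subtype).comp φ).range := by
    refine ⟨x, ?_⟩
    rw [MonoidHom.comp_apply, hx]
    exact congrArg ProjGenLinGroup.mk (Units.ext rfl)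
  rw [← hG] at hmem
  obtain ⟨y, hy, e⟩ := Subgroup.mem_map.1 hmem
  obtain ⟨g, hg, rfl⟩ := Subgroup.mem_map.1 hy
  have e' : ProjGenLinGroup.mk g = ProjGenLinGroup.mk u := by
    have e2 : ProjGenLinGroup.mk k * ProjGenLinGroup.mk g * (ProjGenLinGroup.mk k)⁻¹
        = ProjGenLinGroup.mk k * ProjGenLinGroup.mk u * (ProjGenLinGroup.mk k)⁻¹ := by
      rw [← map_mul, ← map_mul, ← map_inv]
      simpa using e
    exact mul_left_cancel (mul_right_cancel e2)
  obtain ⟨l, hl⟩ := mk_eq_smul e'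
  exact ⟨g, hg, l, 1, one_ne_zero, Or.inl (by rw [hl, hu])⟩

/-- The dichotomy. -/
theorem dichotomy (p : ℕ) [Fact p.Prime] [CharP F p] (hcast : ∀ c : F, ∃ n : ℕ, (n : F) = c)
    {G : Subgroup (GL (Fin 2) F)} {a b : GL (Fin 2) F} (ha : a ∈ G) (hb : b ∈ G)
    (h01 : (a : Matrix (Fin 2) (Fin 2) F) 0 1 = 0) (h10 : (a : Matrix (Fin 2) (Fin 2) F) 1 0 = 0)
    (h00 : (a : Matrix (Fin 2) (Fin 2) F) 0 0 ≠ (a : Matrix (Fin 2) (Fin 2) F) 1 1)
    (ha3 : ProjGenLinGroup.mk a ^ 3 = 1) (hb3 : ProjGenLinGroup.mk b ^ 3 = 1)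
    (hne : ProjGenLinGroup.mk a * ProjGenLinGroup.mk b ≠ ProjGenLinGroup.mk b * ProjGenLinGroup.mk a) :
    HasUnip G ∨ Small G a b := by
  classical
  obtain ⟨π, hπ⟩ : ∃ π : GL (Fin 2) F →* ProjGenLinGroup (Fin 2) F, π = ProjGenLinGroup.mk := ⟨_, rfl⟩
  let Gb : Subgroup (ProjGenLinGroup (Fin 2) F) := G.map π
  let A : Gb := ⟨π a, Subgroup.mem_map_of_mem π ha⟩
  let B : Gb := ⟨π b, Subgroup.mem_map_of_mem π hb⟩
  have hA3 : A ^ 3 = 1 := Subtype.ext (by simpa [A, hπ] using ha3)
  have hB3 : B ^ 3 = 1 := Subtype.ext (by simpa [B, hπ] using hb3)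
  have hAB : A * B ≠ B * A := fun e => hne (by simpa [A, B, hπ, Subtype.ext_iff] using e)
  have hA1 : A ≠ 1 := fun e => hAB (by rw [e, one_mul, mul_one])
  have hcl : ∀ m ∈ Subgroup.closure ({a, b} : Set (GL (Fin 2) F)), m ∈ G :=
    fun m hm => (Subgroup.closure_le G).2 (Set.insert_subset ha (Set.singleton_subset_iff.2 hb)) hm
  -- transfer along an isomorphism
  have small : ∀ {K : Type} [Group K] (f : Gb ≃* K),
      (∀ m ∈ Subgroup.closure ({a, b} : Set (GL (Fin 2) F)), ∀ hm : π m ∈ Gb,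
        f ⟨π m, hm⟩ ^ 2 = 1 ∨ f ⟨π m, hm⟩ ^ 3 = 1 ∨ f ⟨π m, hm⟩ ^ 5 = 1) →
      (∀ x g : K, x ^ 3 = 1 → x ≠ 1 → g * x = x * g → g ^ 3 = 1) →
      ((∀ g : K, g * f A * g⁻¹ ≠ (f A)⁻¹) → ∀ g : Gb, ∃ k ∈ Subgroup.closure ({a, b} : Set (GL (Fin 2) F)),
        π k = (g : ProjGenLinGroup (Fin 2) F)) → Small G a b := by
    intro K _ f hord hcent hgen
    refine ⟨fun m hm => ?_, fun g hg hc => ?_, fun hinv g hg => ?_⟩
    · have h := hord m hm (Subgroup.mem_map_of_mem π (hcl m hm))
      simpa [← map_pow, MulEquiv.map_eq_one_iff, Subtype.ext_iff, hπ] using h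
    · have h := hcent (f A) (f ⟨π g, Subgroup.mem_map_of_mem π hg⟩) (by rw [← map_pow, hA3, map_one])
        (fun e => hA1 (f.injective (e.trans (map_one f).symm)))
        (by rw [← map_mul, ← map_mul]; exact congrArg f (Subtype.ext (by simpa [A, hπ] using hc.eq)))
      rw [← map_pow, MulEquiv.map_eq_one_iff, Subtype.ext_iff] at h
      simpa [hπ] using h
    · obtain ⟨k, hk, e⟩ := hgen (fun k hk => by
        obtain ⟨⟨x, hx⟩, rfl⟩ := f.surjective k
        obtain ⟨y, hy, rfl⟩ := Subgroup.mem_map.1 hx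
        rw [← map_mul, ← map_inv, ← map_mul, ← map_inv] at hk
        refine hinv y hy ?_
        have := congrArg Subtype.val (f.injective hk)
        simpa [A, hπ] using this) ⟨π g, Subgroup.mem_map_of_mem π hg⟩
      exact ⟨k, hk, by rw [← hπ]; exact e⟩
  cases kind p Gb with
  | fixed x hx =>
    left
    refine triangular_unip ha hb hne ?_
    have hfix : ∀ g ∈ G, g • x = x := fun g hg => by
      have := hx _ (Subgroup.mem_map_of_mem π hg)
      rwa [hπ, mk_smul] at this
    have d11 : (a : Matrix (Fin 2) (Fin 2) F) 1 1 ≠ 0 := fun e => by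
      have := (GeneralLinearGroup.det a).ne_zero
      rw [GeneralLinearGroup.val_det_apply, det_fin_two, e, h01] at this
      simp at this
    cases x with
    | infty => exact Or.inl fun g hg => smul_infty_eq_self_iff.1 (hfix g hg)
    | coe z =>
      have hz : z = 0 := by
        have := hfix a ha
        rw [smul_some_eq_ite, h10, h01, zero_mul, zero_add, if_neg d11, add_zero] at this
        have e := coe_eq_coe.1 this
        rw [div_eq_iff d11] at e
        by_contra hne0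
        exact h00 (mul_right_cancel₀ hne0 (e.trans (mul_comm _ _)))
      subst hz
      refine Or.inr fun g hg => ?_
      have := hfix g hg
      rw [smul_some_eq_ite, mul_zero, zero_add, mul_zero, zero_add] at this
      by_cases e : (g : Matrix (Fin 2) (Fin 2) F) 1 1 = 0
      · rw [if_pos e] at this; exact absurd this (by simp)
      · rw [if_neg e, coe_eq_coe, div_eq_zero_iff] at this
        exact this.resolve_right e
  | cyclic c hc _ =>
    exfalso
    have h1 : π a ∈ Subgroup.zpowers c := hc ▸ A.2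
    have h2 : π b ∈ Subgroup.zpowers c := hc ▸ B.2
    obtain ⟨i, hi⟩ := Subgroup.mem_zpowers_iff.1 h1
    obtain ⟨j, hj⟩ := Subgroup.mem_zpowers_iff.1 h2
    exact hne (by rw [← hπ, ← hi, ← hj, ← _root_.zpow_add, ← _root_.zpow_add, add_comm])
  | dihedral c _ _ _ hG =>
    exfalso
    obtain ⟨f⟩ := hG
    refine hAB (f.injective ?_)
    rw [map_mul, map_mul]
    exact dihedral_cube_comm _ _ (by rw [← map_pow, hA3, map_one]) (by rw [← map_pow, hB3, map_one])
  | a4 hG =>
    obtain ⟨f⟩ := hG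
    refine Or.inr (small f (fun m _ hm => a4_exps _) a4_cent fun _ g => ?_)
    have h := a4_gen (f A) (f B) (by rw [← map_pow, hA3, map_one]) (by rw [← map_pow, hB3, map_one])
      (fun e => hAB (f.injective (by rwa [map_mul, map_mul]))) (f g)
    have ka : a ∈ Subgroup.closure ({a, b} : Set (GL (Fin 2) F)) := Subgroup.subset_closure (by simp)
    have kb : b ∈ Subgroup.closure ({a, b} : Set (GL (Fin 2) F)) := Subgroup.subset_closure (by simp)
    have key : ∀ w : Gb, f g = f w → (∃ k ∈ Subgroup.closure ({a, b} : Set (GL (Fin 2) F)),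
        π k = (w : ProjGenLinGroup (Fin 2) F)) → ∃ k ∈ Subgroup.closure ({a, b} : Set (GL (Fin 2) F)),
        π k = (g : ProjGenLinGroup (Fin 2) F) := fun w e hw => by rwa [f.injective e]
    simp only [← map_mul, ← map_one f, List.mem_cons, List.not_mem_nil, or_false] at h
    rcases h with e | e | e | e | e | e | e | e | e | e | e | e | e | e
    · exact key _ e ⟨1, one_mem _, by simp⟩
    · exact key _ e ⟨a, ka, rfl⟩
    · exact key _ e ⟨b, kb, rfl⟩
    · exact key _ e ⟨a * a, mul_mem ka ka, by simp [A]⟩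
    · exact key _ e ⟨a * b, mul_mem ka kb, by simp [A, B]⟩
    · exact key _ e ⟨b * a, mul_mem kb ka, by simp [A, B]⟩
    · exact key _ e ⟨b * b, mul_mem kb kb, by simp [B]⟩
    · exact key _ e ⟨a * a * b, mul_mem (mul_mem ka ka) kb, by simp [A, B]⟩
    · exact key _ e ⟨a * b * b, mul_mem (mul_mem ka kb) kb, by simp [A, B]⟩
    · exact key _ e ⟨b * a * b, mul_mem (mul_mem kb ka) kb, by simp [A, B]⟩
    · exact key _ e ⟨b * b * a, mul_mem (mul_mem kb kb) ka, by simp [A, B]⟩
    · exact key _ e ⟨b * a * a * b, mul_mem (mul_mem (mul_mem kb ka) ka) kb, by simp [A, B]⟩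
    · exact key _ e ⟨b * b * a * a, mul_mem (mul_mem (mul_mem kb kb) ka) ka, by simp [A, B]⟩
    · exact key _ e ⟨b * b * a * b, mul_mem (mul_mem (mul_mem kb kb) ka) kb, by simp [A, B]⟩
  | s4 hG =>
    obtain ⟨f⟩ := hG
    refine Or.inr (small f (fun m hm hm' => ?_) s4_cent fun hinv => ?_)
    · have hs : Equiv.Perm.sign (f ⟨π m, hm'⟩) = 1 := by
        let ψ : Gb →* ℤˣ := Equiv.Perm.sign.comp f.toMonoidHom
        have hcube : ∀ x : Gb, x ^ 3 = 1 → ψ x = 1 := fun x hx => by
          have := congrArg ψ hx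
          rw [map_pow, map_one] at this
          rcases Int.units_eq_one_or (ψ x) with e | e
          · exact e
          · rw [e] at this; exact absurd this (by decide)
        suffices ∀ k (hk : k ∈ Subgroup.closure ({a, b} : Set (GL (Fin 2) F))) (hk' : π k ∈ Gb),
            ψ ⟨π k, hk'⟩ = 1 from this m hm hm'
        intro k hk
        induction hk using Subgroup.closure_induction with
        | mem x hx =>
          intro hk'
          rcases hx with rfl | hx
          · exact hcube A hA3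
          · rw [Set.mem_singleton_iff] at hx; subst hx; exact hcube B hB3
        | one =>
          intro hk'
          rw [show (⟨π 1, hk'⟩ : Gb) = 1 from Subtype.ext (map_one π), map_one]
        | mul x y hx hy ihx ihy =>
          intro hk'
          rw [show (⟨π (x * y), hk'⟩ : Gb) = ⟨π x, Subgroup.mem_map_of_mem π (hcl x hx)⟩ *
            ⟨π y, Subgroup.mem_map_of_mem π (hcl y hy)⟩ from Subtype.ext (map_mul π x y), map_mul, ihx, ihy, mul_one]
        | inv x hx ihx =>
          intro hk'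
          rw [show (⟨π x⁻¹, hk'⟩ : Gb) = (⟨π x, Subgroup.mem_map_of_mem π (hcl x hx)⟩ : Gb)⁻¹ from
            Subtype.ext (map_inv π x), map_inv, ihx, inv_one]
      rcases s4_exps _ hs with e | e
      · exact Or.inl e
      · exact Or.inr (Or.inl e)
    · obtain ⟨k, hk⟩ := s4_invert (f A) (by rw [← map_pow, hA3, map_one])
      exact absurd hk (hinv k)
  | a5 hG =>
    obtain ⟨f⟩ := hG
    refine Or.inr (small f (fun m _ hm => ?_) a5_cent fun hinv => ?_)
    · rcases exps_a5 f _ hm with e | e | e | e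
      all_goals rw [← map_pow, ← map_pow, ← map_pow]
      all_goals simp only [MulEquiv.map_eq_one_iff, Subtype.ext_iff, SubgroupClass.coe_pow, OneMemClass.coe_one]
      · rw [pow_one] at e; simp [e]
      · exact Or.inl e
      · exact Or.inr (Or.inl e)
      · exact Or.inr (Or.inr e)
    · obtain ⟨k, hk⟩ := a5_invert (f A) (by rw [← map_pow, hA3, map_one])
      exact absurd hk (hinv k)
  | pgl A' t hG =>
    left
    exact unip_of_range p hcast G t (φ := MonoidHom.id _) (fun s => ⟨SpecialLinearGroup.toPGL s, rfl⟩)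
      (by rw [MonoidHom.comp_id, ← hπ]; exact hG)
  | psl A' hA' t hG =>
    left
    exact unip_of_range p hcast G t (fun s => ⟨s, rfl⟩) (by rw [← hπ]; exact hG)

end CfsgLib.Classical.QutritMax
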