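import Cfsg.Agent.Lib.Classical.QutritMax.Blocks
import Cfsg.Agent.Lib.Classical.QutritMax.Proj2

/-!
# Two quadratic elements whose idempotents differ by rank one parts

If the rank one parts meet at the value `1 / 3`, the group has a transvection.
-/

set_option autoImplicit false
set_option linter.unusedSectionVars false
set_option linter.unusedSimpArgs false

namespace CfsgLib.Classical.QutritMax

open Matrix

variable {F : Type*} [Field F] {ω : F}

/-- The group has no transvection. -/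
def NoTr (H : Subgroup (M9 F)ˣ) : Prop :=
  ∀ v w : Pt → F, w ⬝ᵥ v = 0 → In H (1 + vecMulVec v w) → vecMulVec v w = 0

theorem one_add_pow_of_sq {n : Type*} [Fintype n] [DecidableEq n] {N : Matrix n n F} (hN : N * N = 0) (k : ℕ) :
    (1 + N) ^ k = 1 + (k : F) • N := by
  induction k with
  | zero => simp
  | succ k ih =>
    rw [pow_succ, ih, Nat.cast_succ, add_smul, one_smul]
    simp only [add_mul, mul_add, one_mul, mul_one, Matrix.smul_mul, hN, smul_zero, add_zero]
    abel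

/-- Data for the two idempotents. -/
structure Two (u₀ v₀ u₁ v₁ : Pt → F) (D : M9 F) : Prop where
  v0u0 : v₀ ⬝ᵥ u₀ = 1
  v1u1 : v₁ ⬝ᵥ u₁ = 1
  v0u1 : v₀ ⬝ᵥ u₁ = 3⁻¹
  v1u0 : v₁ ⬝ᵥ u₀ = 3⁻¹
  Du0 : D *ᵥ u₀ = 0
  Du1 : D *ᵥ u₁ = 0
  v0D : v₀ ᵥ* D = 0
  v1D : v₁ ᵥ* D = 0
  DD : D * D = D

/-- The quadratic element. -/
def qel (ω : F) (u v : Pt → F) (D : M9 F) : M9 F := 1 + (ω - 1) • (vecMulVec u v + D)

variable {p : ℕ} {H : Subgroup (M9 F)ˣ}

theorem no_two (hH : Amb ω p H) (hN : NoTr H) {u₀ v₀ u₁ v₁ : Pt → F} {D : M9 F}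
    (hT : Two u₀ v₀ u₁ v₁ D) (h0 : In H (qel ω u₀ v₀ D)) (h1 : In H (qel ω u₁ v₁ D)) : False := by
  classical
  haveI := hH.char
  haveI : Fact p.Prime := ⟨hH.prime⟩
  haveI := hH.finite
  haveI := Fintype.ofFinite F
  have hω := hH.root
  have h3 : (3 : F) ≠ 0 := hω.three
  have h2 : (2 : F) ≠ 0 := hH.two_ne
  have h8 : (8 : F) ≠ 0 := by
    rw [show (8 : F) = 2 ^ 3 by norm_num]; exact pow_ne_zero _ h2
  obtain ⟨gP, hgP, eP⟩ := h0
  obtain ⟨gQ, hgQ, eQ⟩ := h1
  -- the plane
  let L : Matrix Pt (Fin 2) F := of fun i j => ![u₀, u₁ - (3⁻¹ : F) • u₀] j i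
  let R : Matrix (Fin 2) Pt F := of fun j i => ![v₀, ((9 : F) / 8) • (v₁ - (3⁻¹ : F) • v₀)] j i
  have h9 : (9 : F) ≠ 0 := by
    rw [show (9 : F) = 3 * 3 by norm_num]; exact mul_ne_zero h3 h3
  have h27 : (27 : F) ≠ 0 := by
    rw [show (27 : F) = 3 * 3 * 3 by norm_num]; exact mul_ne_zero (mul_ne_zero h3 h3) h3
  have hRL : R * L = 1 := by
    have key : ∀ i j : Fin 2, (R * L) i j =
        ![v₀, ((9 : F) / 8) • (v₁ - (3⁻¹ : F) • v₀)] i ⬝ᵥ ![u₀, u₁ - (3⁻¹ : F) • u₀] j := fun i j => rfl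
    ext i j
    rw [key]
    fin_cases i <;> fin_cases j <;>
      simp [dotProduct_sub, sub_dotProduct, dotProduct_smul, smul_dotProduct, hT.v0u0, hT.v1u1, hT.v0u1, hT.v1u0] <;>
      field_simp <;> ring
  let π : Plane F := ⟨L, R, hRL⟩
  have mulL : ∀ (A : M9 F) (M : Matrix (Fin 2) (Fin 2) F),
      (∀ j, A *ᵥ ![u₀, u₁ - (3⁻¹ : F) • u₀] j = M 0 j • u₀ + M 1 j • (u₁ - (3⁻¹ : F) • u₀)) → A * L = L * M := by
    intro A M hA
    ext i j
    have hAj := congrFun (hA j) i
    rw [Matrix.mul_apply]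
    rw [show ∑ k, A i k * L k j = (A *ᵥ ![u₀, u₁ - (3⁻¹ : F) • u₀] j) i from rfl, hAj, Matrix.mul_apply,
      Fin.sum_univ_two]
    simp [L, mul_comm]
  let MP : Matrix (Fin 2) (Fin 2) F := !![ω, 0; 0, 1]
  let MQ : Matrix (Fin 2) (Fin 2) F := !![1 + (ω - 1) / 9, (ω - 1) * 8 / 27; (ω - 1) / 3, 1 + (ω - 1) * 8 / 9]
  have eMP : (gP : M9 F) * L = L * MP := by
    rw [eP]
    refine mulL _ _ fun j => ?_
    simp only [qel, Matrix.add_mulVec, Matrix.one_mulVec, Matrix.smul_mulVec, Matrix.vecMulVec_mulVec]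
    fin_cases j
    · simp [hT.Du0, hT.v0u0, MP]; match_scalars <;> ring
    · simp [Matrix.mulVec_sub, Matrix.mulVec_smul, hT.Du0, hT.Du1, dotProduct_sub, dotProduct_smul, hT.v0u0,
        hT.v0u1, MP]
  have eMQ : (gQ : M9 F) * L = L * MQ := by
    rw [eQ]
    refine mulL _ _ fun j => ?_
    simp only [qel, Matrix.add_mulVec, Matrix.one_mulVec, Matrix.smul_mulVec, Matrix.vecMulVec_mulVec]
    fin_cases j
    · funext i; simp [hT.Du0, hT.v1u0, MQ]; field_simp; ring
    · simp [Matrix.mulVec_sub, Matrix.mulVec_smul, hT.Du0, hT.Du1, dotProduct_sub, dotProduct_smul, hT.v1u0,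
        hT.v1u1, MQ]
      funext i; simp; field_simp; ring
  have dMP : MP.det ≠ 0 := by simp [MP, det_fin_two, hω.ne_zero]
  have dMQ : MQ.det ≠ 0 := by
    have : MQ.det = ω := by simp [MQ, det_fin_two]; field_simp; ring
    rw [this]; exact hω.ne_zero
  -- the complement
  let Kc : M9 F := 1 - L * R
  have vR : ∀ v : Pt → F, ∀ c d : F, (v ⬝ᵥ u₀ = c) → (v ⬝ᵥ (u₁ - (3⁻¹ : F) • u₀) = d) →
      v ᵥ* Kc = v - (c • v₀ + d • (((9 : F) / 8) • (v₁ - (3⁻¹ : F) • v₀))) := by
    intro v c d hc hd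
    have e : v ᵥ* L = ![c, d] := by
      funext j
      show v ⬝ᵥ ![u₀, u₁ - (3⁻¹ : F) • u₀] j = _
      fin_cases j
      · simpa using hc
      · simpa using hd
    rw [Matrix.vecMul_sub, Matrix.vecMul_one, ← Matrix.vecMul_vecMul, e]
    congr 1
    funext i
    simp [Matrix.vecMul, dotProduct, Fin.sum_univ_two, R]
  have hv0 : v₀ ᵥ* Kc = 0 := by
    rw [vR v₀ 1 0 hT.v0u0 (by simp [dotProduct_sub, dotProduct_smul, hT.v0u0, hT.v0u1])]
    simp
  have hv1 : v₁ ᵥ* Kc = 0 := by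
    rw [vR v₁ 3⁻¹ ((8 : F) / 9) hT.v1u0 (by
      simp [dotProduct_sub, dotProduct_smul, hT.v1u1, hT.v1u0]; field_simp; ring), sub_eq_zero]
    funext i; simp; field_simp; ring
  have hDL : D * L = 0 := by
    ext i j
    show (D *ᵥ ![u₀, u₁ - (3⁻¹ : F) • u₀] j) i = 0
    fin_cases j <;> simp [Matrix.mulVec_sub, Matrix.mulVec_smul, hT.Du0, hT.Du1]
  have hRD : R * D = 0 := by
    ext j i
    show (![v₀, ((9 : F) / 8) • (v₁ - (3⁻¹ : F) • v₀)] j ᵥ* D) i = 0
    fin_cases j <;> simp [Matrix.sub_vecMul, Matrix.smul_vecMul, hT.v0D, hT.v1D]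
  have hDK : D * Kc = D := by
    simp only [Kc, Matrix.mul_sub, Matrix.mul_one, ← Matrix.mul_assoc, hDL, Matrix.zero_mul, sub_zero]
  have hKD : Kc * D = D := by
    simp only [Kc, Matrix.sub_mul, Matrix.one_mul, Matrix.mul_assoc, hRD, Matrix.mul_zero, sub_zero]
  let Dk : ZMod 3 → M9 F := fun k => 1 + (wp ω k - 1) • D
  have Dk_mul : ∀ k l, Dk k * Dk l = Dk (k + l) := fun k l => by
    simp only [Dk, Matrix.add_mul, Matrix.mul_add, Matrix.one_mul, Matrix.mul_one, Matrix.smul_mul, Matrix.mul_smul,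
      hT.DD, wp_add hω]
    match_scalars <;> ring
  have Dk_zero : Dk 0 = 1 := by simp [Dk, wp_zero]
  have Dk_comm : ∀ k, Dk k * Kc = Kc * Dk k := fun k => by
    simp only [Dk, Matrix.add_mul, Matrix.mul_add, Matrix.one_mul, Matrix.mul_one, Matrix.smul_mul, Matrix.mul_smul,
      hDK, hKD]
  let Y : Subgroup (M9 F)ˣ := Subgroup.closure {gP, gQ}
  have hYH : Y ≤ H := (Subgroup.closure_le H).2 (Set.insert_subset hgP (Set.singleton_subset_iff.2 hgQ))
  have hYs : Y ≤ π.sub := (Subgroup.closure_le π.sub).2 (Set.insert_subset (π.mem_sub_of_det eMP dMP)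
    (Set.singleton_subset_iff.2 (π.mem_sub_of_det eMQ dMQ)))
  have hKc : ∀ y ∈ Y, ∃ k, (y : M9 F) * Kc = Dk k * Kc := by
    intro y hy
    induction hy using Subgroup.closure_induction with
    | one => exact ⟨0, by rw [Units.val_one, Dk_zero]⟩
    | mem x hx =>
      rcases hx with rfl | hx
      · refine ⟨1, ?_⟩
        rw [eP]
        simp only [qel, Dk, wp_one, Matrix.add_mul, Matrix.smul_mul, Matrix.vecMulVec_mul, hv0,
          Matrix.vecMulVec_zero, zero_add]
      · rw [Set.mem_singleton_iff] at hx; subst hx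
        refine ⟨1, ?_⟩
        rw [eQ]
        simp only [qel, Dk, wp_one, Matrix.add_mul, Matrix.smul_mul, Matrix.vecMulVec_mul, hv1,
          Matrix.vecMulVec_zero, zero_add]
    | mul x y _ _ hx hy =>
      obtain ⟨k, hk⟩ := hx; obtain ⟨l, hl⟩ := hy
      exact ⟨k + l, by rw [Units.val_mul, Matrix.mul_assoc, hl, Dk_comm, ← Matrix.mul_assoc, hk, Matrix.mul_assoc,
        ← Dk_comm, ← Matrix.mul_assoc, Dk_mul]⟩
    | inv x _ hx =>
      obtain ⟨k, hk⟩ := hx
      refine ⟨-k, ?_⟩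
      have e1 : Kc = ((x⁻¹ : (M9 F)ˣ) : M9 F) * Kc * Dk k := by
        rw [Matrix.mul_assoc, ← Dk_comm, ← hk, ← Matrix.mul_assoc, Units.inv_mul, Matrix.one_mul]
      calc ((x⁻¹ : (M9 F)ˣ) : M9 F) * Kc = ((x⁻¹ : (M9 F)ˣ) : M9 F) * Kc * Dk k * Dk (-k) := by
            rw [Matrix.mul_assoc _ (Dk k), Dk_mul, add_neg_cancel, Dk_zero, Matrix.mul_one]
        _ = Kc * Dk (-k) := by rw [← e1]
        _ = Dk (-k) * Kc := (Dk_comm _).symm
  -- the group on the plane
  let G : Subgroup (GL (Fin 2) F) := (Y.subgroupOf π.sub).map π.rho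
  let a := GeneralLinearGroup.mkOfDetNeZero MP dMP
  let b := GeneralLinearGroup.mkOfDetNeZero MQ dMQ
  have haG : a ∈ G := π.mem_map (Subgroup.subset_closure (Or.inl rfl)) eMP dMP
  have hbG : b ∈ G := π.mem_map (Subgroup.subset_closure (Or.inr rfl)) eMQ dMQ
  have cube : ∀ g : GL (Fin 2) F, (g : Matrix (Fin 2) (Fin 2) F) * g * g = 1 → ProjGenLinGroup.mk g ^ 3 = 1 := by
    intro g hg
    rw [← map_pow, show g ^ 3 = 1 from Units.ext (by rw [pow_succ, pow_two, Units.val_mul, Units.val_mul, hg]; rfl),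
      map_one]
  have w3 : ω * ω * ω = 1 := by linear_combination hω.pow_three
  have ha3 : ProjGenLinGroup.mk a ^ 3 = 1 := cube a (by
    show MP * MP * MP = 1
    ext i j; fin_cases i <;> fin_cases j <;> simp [MP, Matrix.mul_apply, Fin.sum_univ_two, w3])
  have MQ2 : MQ * MQ = !![1 + (ω * ω - 1) / 9, (ω * ω - 1) * 8 / 27; (ω * ω - 1) / 3, 1 + (ω * ω - 1) * 8 / 9] := by
    ext i j; fin_cases i <;> fin_cases j <;> simp [MQ, Matrix.mul_apply, Fin.sum_univ_two] <;> field_simp <;> ring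
  have hb3 : ProjGenLinGroup.mk b ^ 3 = 1 := cube b (by
    show MQ * MQ * MQ = 1
    rw [MQ2]
    ext i j; fin_cases i <;> fin_cases j <;> simp [MQ, Matrix.mul_apply, Fin.sum_univ_two] <;> field_simp <;>
      grind [hω.eq])
  have hne : ProjGenLinGroup.mk a * ProjGenLinGroup.mk b ≠ ProjGenLinGroup.mk b * ProjGenLinGroup.mk a := by
    intro e
    rw [← map_mul, ← map_mul] at e
    obtain ⟨l, hl⟩ := mk_eq_smul e
    rw [Units.val_mul, Units.val_mul] at hl
    change MP * MQ = l • (MQ * MP) at hl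
    have e01 := congrFun (congrFun hl 0) 1
    have e10 := congrFun (congrFun hl 1) 0
    simp [MP, MQ, Matrix.mul_apply, Fin.sum_univ_two] at e01 e10
    have hd : ω - 1 ≠ 0 := sub_ne_zero.2 hω.ne_one
    have l1 : l = ω := by
      rcases e01 with e | (e | e) | e
      exacts [e.symm, absurd e hd, absurd e h8, absurd e h27]
    rw [l1] at e10
    field_simp at e10
    exact hω.mul_self_ne_one (by linear_combination -e10)
  rcases dichotomy p hH.cast_surj haG hbG (by simp [a, MP]) (by simp [a, MP]) (by simp [a, MP, hω.ne_one]) ha3 hb3 hne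
    with ⟨g, hg, l, c, hc, hgU⟩ | hsmall
  · obtain ⟨x, hx, rfl⟩ := Subgroup.mem_map.1 hg
    have hxY : (x : (M9 F)ˣ) ∈ Y := hx
    obtain ⟨N, i, j, hij, hNeq, hgN⟩ : ∃ (N : Matrix (Fin 2) (Fin 2) F) (i j : Fin 2), i ≠ j ∧
        N = Matrix.single i j c ∧ ((π.rho x : GL (Fin 2) F) : Matrix (Fin 2) (Fin 2) F) = l • (1 + N) := by
      rcases hgU with e | e
      · exact ⟨_, 0, 1, by decide, rfl, by
          rw [e]; congr 1; ext i j; fin_cases i <;> fin_cases j <;> simp [Matrix.single_apply]⟩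
      · exact ⟨_, 1, 0, by decide, rfl, by
          rw [e]; congr 1; ext i j; fin_cases i <;> fin_cases j <;> simp [Matrix.single_apply]⟩
    have hNN : N * N = 0 := by rw [hNeq, Matrix.single_mul_single_of_ne (h := hij.symm)]
    have hl : l ≠ 0 := by
      rintro rfl
      rw [zero_smul] at hgN
      have := (GeneralLinearGroup.det (π.rho x)).ne_zero
      rw [GeneralLinearGroup.val_det_apply, hgN] at this
      simp at this
    obtain ⟨K, hK⟩ : ∃ K : ℕ, K = 3 * (p - 1) := ⟨_, rfl⟩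
    have hlK : l ^ K = 1 := by
      have hp : l ^ p = l := by
        obtain ⟨n, rfl⟩ := hH.cast_surj l
        exact map_natCast (frobenius F p) n
      have h1 : l ^ (p - 1) = 1 := by
        refine mul_right_cancel₀ hl ?_
        rw [← pow_succ, Nat.sub_add_cancel hH.prime.one_le, hp, one_mul]
      rw [hK, mul_comm, pow_mul, h1, one_pow]
    have hyY : ((x : (M9 F)ˣ)) ^ K ∈ Y := pow_mem hxY K
    obtain ⟨k, hk⟩ := hKc _ hxY
    have hkpow : ∀ n : ℕ, ((x : (M9 F)ˣ) : M9 F) ^ n * Kc = Dk ((n : ZMod 3) * k) * Kc := by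
      intro n
      induction n with
      | zero => simp [Dk_zero]
      | succ n ih =>
        rw [pow_succ, Matrix.mul_assoc, hk, Dk_comm, ← Matrix.mul_assoc, ih, Matrix.mul_assoc, ← Dk_comm,
          ← Matrix.mul_assoc, Dk_mul, Nat.cast_succ, add_one_mul]
    have hKpart : ((x : (M9 F)ˣ) : M9 F) ^ K * Kc = Kc := by
      rw [hkpow, hK, Nat.cast_mul, show ((3 : ℕ) : ZMod 3) = 0 from rfl, zero_mul, zero_mul, Dk_zero,
        Matrix.one_mul]
    have hLpart : ((x : (M9 F)ˣ) : M9 F) ^ K * L = L * (1 + (K : F) • N) := by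
      have hn : ∀ n : ℕ, ((x : (M9 F)ˣ) : M9 F) ^ n * L = L * (l ^ n • (1 + N) ^ n) := by
        intro n
        induction n with
        | zero => simp
        | succ n ih =>
          rw [pow_succ, Matrix.mul_assoc, show ((x : (M9 F)ˣ) : M9 F) * L = _ from π.rho_spec x, hgN,
            ← Matrix.mul_assoc, ih]
          simp only [Matrix.mul_smul, Matrix.smul_mul, smul_smul, Matrix.mul_assoc, pow_succ]
          rw [mul_comm l]
      rw [hn, hlK, one_smul, one_add_pow_of_sq hNN]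
    have htot : ((x : (M9 F)ˣ) : M9 F) ^ K = 1 + (K : F) • (L * N * R) := by
      calc ((x : (M9 F)ˣ) : M9 F) ^ K = ((x : (M9 F)ˣ) : M9 F) ^ K * (Kc + L * R) := by
            simp only [Kc, sub_add_cancel, Matrix.mul_one]
        _ = _ := by
          rw [Matrix.mul_add, hKpart, ← Matrix.mul_assoc, hLpart]
          simp only [Kc, Matrix.mul_add, Matrix.mul_one, Matrix.mul_smul, Matrix.add_mul, Matrix.smul_mul]
          abel
    have hLNR : (K : F) • (L * N * R) = vecMulVec (((K : F) * c) • fun t => L t i) (fun t => R j t) := by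
      ext s t
      rw [Matrix.smul_apply, Matrix.mul_apply, Fin.sum_univ_two, Matrix.mul_apply, Matrix.mul_apply, hNeq,
        Matrix.vecMulVec_apply, Pi.smul_apply, Fin.sum_univ_two, Fin.sum_univ_two]
      fin_cases i <;> fin_cases j <;> first | (exact absurd rfl hij) | (simp [Matrix.single_apply]; ring)
    have hin : In H (1 + vecMulVec (((K : F) * c) • fun t => L t i) (fun t => R j t)) := by
      rw [← hLNR, ← htot, ← Units.val_pow_eq_pow_val]
      exact ⟨_, hYH hyY, rfl⟩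
    have hdot : (fun t => R j t) ⬝ᵥ (((K : F) * c) • fun t => L t i) = 0 := by
      rw [dotProduct_smul, show (fun t => R j t) ⬝ᵥ (fun t => L t i) = (R * L) j i from rfl, hRL,
        Matrix.one_apply_ne hij.symm, smul_zero]
    have hz := hN _ _ hdot hin
    rw [← hLNR] at hz
    have hKne : (K : F) ≠ 0 := by
      rw [hK, Nat.cast_mul, Nat.cast_sub hH.prime.one_le, CharP.cast_eq_zero F p, Nat.cast_one, Nat.cast_ofNat]
      simp [h3]
    rcases smul_eq_zero.1 hz with e | e
    · exact hKne e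
    · have := congrArg (fun A => R * A * L) e
      simp only [← Matrix.mul_assoc, hRL, Matrix.one_mul, Matrix.mul_zero, Matrix.zero_mul] at this
      rw [Matrix.mul_assoc, hRL, Matrix.mul_one, hNeq] at this
      exact hc (by simpa using congrFun (congrFun this i) j)
  · obtain ⟨m, hm, hmM⟩ : ∃ m : GL (Fin 2) F, m ∈ Subgroup.closure ({a, b} : Set (GL (Fin 2) F)) ∧
        (m : Matrix (Fin 2) (Fin 2) F) = MP * (MQ * MQ) :=
      ⟨a * (b * b), mul_mem (Subgroup.subset_closure (by simp))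
        (mul_mem (Subgroup.subset_closure (by simp)) (Subgroup.subset_closure (by simp))), rfl⟩
    obtain ⟨M, hM⟩ : ∃ M, M = MP * (MQ * MQ) := ⟨_, rfl⟩
    have hM01 : M 0 1 ≠ 0 := by
      rw [hM, MQ2]
      simp [MP, Matrix.mul_apply, Fin.sum_univ_two]
      have hd : ω * ω - 1 ≠ 0 := sub_ne_zero.2 hω.mul_self_ne_one
      exact ⟨hω.ne_zero, ⟨hd, h8⟩, h27⟩
    have htr : M 0 0 + M 1 1 = -2 / 3 := by
      rw [hM, MQ2]
      simp [MP, Matrix.mul_apply, Fin.sum_univ_two]
      field_simp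
      grind [hω.eq]
    have hdet : M 0 0 * M 1 1 - M 0 1 * M 1 0 = 1 := by
      rw [← det_fin_two, hM, det_mul, det_mul,
        show MP.det = ω by simp [MP, det_fin_two],
        show MQ.det = ω by simp [MQ, det_fin_two]; field_simp; ring]
      linear_combination w3
    have hCH : M * M = (-2 / 3 : F) • M - 1 := by
      ext i j
      fin_cases i <;> fin_cases j <;> simp [Matrix.mul_apply, Fin.sum_univ_two] <;> grind
    have scal : ∀ n : ℕ, ProjGenLinGroup.mk m ^ n = 1 → (M ^ n) 0 1 = 0 := by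
      intro n hn
      obtain ⟨l, hl⟩ := mk_eq_smul (g := m ^ n) (u := 1) (by rw [map_pow, hn, map_one])
      rw [Units.val_pow_eq_pow_val, hmM, ← hM] at hl
      rw [hl]; simp
    have e11 : (11 : F) ≠ 0 := by
      intro e
      have hp11 : p = 11 := (Nat.prime_dvd_prime_iff_eq hH.prime (by norm_num)).1
        ((CharP.cast_eq_zero_iff F p 11).1 (by exact_mod_cast e))
      obtain ⟨n, hn⟩ := hH.cast_surj ω
      have h0 : ((n * n + n + 1 : ℕ) : F) = 0 := by push_cast; rw [hn]; exact hω.eq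
      have h1 := Nat.dvd_iff_mod_eq_zero.1 ((CharP.cast_eq_zero_iff F p _).1 h0)
      rw [hp11, Nat.add_mod, Nat.add_mod (n * n), Nat.mul_mod] at h1
      have hn11 := Nat.mod_lt n (show 0 < 11 by norm_num)
      generalize n % 11 = r at h1 hn11
      interval_cases r <;> simp at h1
    have M2 : (M * M) 0 1 = -2 / 3 * M 0 1 := by rw [hCH]; simp
    have M3m : M * M * M = ((-2 / 3 : F) * (-2 / 3) - 1) • M - (-2 / 3 : F) • 1 := by
      rw [hCH, Matrix.sub_mul, Matrix.smul_mul, hCH, Matrix.one_mul]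
      match_scalars <;> ring
    rcases hsmall.orders m hm with e | e | e
    · have := scal 2 e
      rw [pow_two, M2] at this
      rcases mul_eq_zero.1 this with e' | e'
      · exact div_ne_zero (neg_ne_zero.2 h2) h3 e'
      · exact hM01 e'
    · have := scal 3 e
      rw [pow_succ, pow_two, M3m] at this
      simp at this
      rcases this with e' | e'
      · field_simp at e'
        exact hH.five_ne (by linear_combination -e')
      · exact hM01 e'
    · have := scal 5 e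
      rw [show M ^ 5 = M * M * M * (M * M) by rw [pow_succ, pow_succ, pow_succ, pow_two]; simp only [mul_assoc],
        M3m, hCH] at this
      simp only [Matrix.sub_mul, Matrix.mul_sub, Matrix.smul_mul, Matrix.mul_smul, Matrix.one_mul, Matrix.mul_one,
        hCH, smul_sub, smul_smul] at this
      simp at this
      field_simp at this
      exact e11 (mul_right_cancel₀ hM01 (by linear_combination -this))

end CfsgLib.Classical.QutritMax
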