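import Cfsg.Agent.Lib.Classical.QutritMax.Transport

/-!
# Centralisers of noncentral elements on the first coordinate
-/

set_option autoImplicit false
set_option linter.unusedSectionVars false
set_option linter.unusedSimpArgs false

namespace CfsgLib.Classical.QutritMax

open Matrix
open scoped Kronecker

theorem carry_table : ∀ j : ZMod 3, ∀ v : Pt, (j + j) * (v.1 * v.1) = (j + j) * ((v.1 + 1) * (v.1 + 1)) + (-(j + j) + -j * v.1 + 0 * v.2) ∧
    ((j + j) * ((v.1 + 1) * (v.1 + 1)) - (j + j) * (v.1 * v.1) = (j + j) + j * v.1) := by decide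

variable {F : Type*} [Field F] {ω : F} {p : ℕ} {H : Subgroup (M9 F)ˣ}

theorem n3_S3 (h : Root ω) : n3 ω * (S3 : Matrix (ZMod 3) (ZMod 3) F) = D3 ω * n3 ω := by
  have hZS : Z3 ω * (S3 : Matrix (ZMod 3) (ZMod 3) F) = (ω * ω) • (S3 * D3 ω * Z3 ω) := by
    ext i j
    rw [Matrix.smul_apply, Z3, D3, diagonal_mul, mul_diagonal, mul_diagonal]
    rcases zmod3_cases i with rfl | rfl | rfl <;> rcases zmod3_cases j with rfl | rfl | rfl <;>
      simp [S3, wp_zero, wp_one, wp_two, show (1 : ZMod 3) + 1 = 2 by decide, show (2 : ZMod 3) + 1 = 0 by decide,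
        show (2 : ZMod 3) ≠ 0 by decide, show (0 : ZMod 3) ≠ 2 by decide, show (1 : ZMod 3) ≠ 2 by decide,
        show (2 : ZMod 3) ≠ 1 by decide] <;>
      grind [h.eq]
  have hS3 : (S3 : Matrix (ZMod 3) (ZMod 3) F) * S3 * S3 = 1 := by
    ext i j
    rcases zmod3_cases i with rfl | rfl | rfl <;> rcases zmod3_cases j with rfl | rfl | rfl <;>
      simp [S3, Matrix.mul_apply, sum3, show (1 : ZMod 3) + 1 = 2 by decide, show (2 : ZMod 3) + 1 = 0 by decide,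
        show (2 : ZMod 3) ≠ 0 by decide, show (0 : ZMod 3) ≠ 2 by decide, show (1 : ZMod 3) ≠ 2 by decide,
        show (2 : ZMod 3) ≠ 1 by decide]
  have hZD : Z3 ω * D3 ω = D3 ω * Z3 ω := by
    rw [Z3, D3, diagonal_mul_diagonal, diagonal_mul_diagonal]; congr 1; funext i; ring
  calc n3 ω * S3 = (ω * ω) • (Z3 ω * (X3 ω * S3) * (D3 ω * Z3 ω)) := by
        rw [n3, mul_assoc, hZS, Matrix.mul_smul]; simp only [mul_assoc]
    _ = (ω * ω) • ((Z3 ω * S3) * (X3 ω * D3 ω) * Z3 ω) := by rw [X3_S3 h]; simp only [mul_assoc]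
    _ = (ω * ω * ω) • ((Z3 ω * S3) * (S3 * S3 * D3 ω) * X3 ω * Z3 ω) := by
        rw [X3_D3 h, Matrix.smul_mul, Matrix.mul_smul, Matrix.smul_mul, smul_smul]; simp only [mul_assoc]
    _ = Z3 ω * (S3 * S3 * S3) * D3 ω * X3 ω * Z3 ω := by
        rw [show ω * ω * ω = 1 by linear_combination h.pow_three, one_smul]; simp only [mul_assoc]
    _ = D3 ω * n3 ω := by rw [hS3, mul_one, hZD, n3]; simp only [mul_assoc]

theorem Rm_line (k i j : ZMod 3) :
    (Rm ω k (i, 0) (j, 0) : M9 F) = wp ω k • (sh (i, 0) * dg ω (dot (j, 0))) := rfl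

theorem Rm_line_mul (h : Root ω) (k k' i i' j j' : ZMod 3) :
    (Rm ω k (i, 0) (j, 0) : M9 F) * Rm ω k' (i', 0) (j', 0) = Rm ω (k + k' + j * i') (i + i', 0) (j + j', 0) := by
  rw [Rm_mul h, Prod.mk_add_mk, Prod.mk_add_mk, add_zero]
  congr 1
  simp [dot]

namespace Amb

variable (hH : Amb ω p H)
include hH

theorem cent_transfer {n g : (M9 F)ˣ} {r : M9 F} (hn : Nor ω (n : M9 F)) (hg : (g : M9 F) * r = r * (g : M9 F))
    {r' : M9 F} (hnr : (n : M9 F) * r = r' * (n : M9 F))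
    (h : ((n * g * n⁻¹ : (M9 F)ˣ) : M9 F) * r' = r' * ((n * g * n⁻¹ : (M9 F)ˣ) : M9 F) → Nor ω ((n * g * n⁻¹ : (M9 F)ˣ) : M9 F)) :
    Nor ω (g : M9 F) := by
  have hi : ((n⁻¹ : (M9 F)ˣ) : M9 F) * r' = r * ((n⁻¹ : (M9 F)ˣ) : M9 F) := by
    calc ((n⁻¹ : (M9 F)ˣ) : M9 F) * r' = ((n⁻¹ : (M9 F)ˣ) : M9 F) * (r' * (n : M9 F)) * ((n⁻¹ : (M9 F)ˣ) : M9 F) := by
          simp only [mul_assoc, Units.mul_inv, mul_one]
      _ = r * ((n⁻¹ : (M9 F)ˣ) : M9 F) := by rw [← hnr, ← mul_assoc, Units.inv_mul, one_mul]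
  have h1 := h (by
    simp only [Units.val_mul]
    calc (n : M9 F) * (g : M9 F) * ((n⁻¹ : (M9 F)ˣ) : M9 F) * r'
        = (n : M9 F) * ((g : M9 F) * r) * ((n⁻¹ : (M9 F)ˣ) : M9 F) := by simp only [mul_assoc, hi]
      _ = ((n : M9 F) * r) * (g : M9 F) * ((n⁻¹ : (M9 F)ˣ) : M9 F) := by rw [hg]; simp only [mul_assoc]
      _ = r' * ((n : M9 F) * (g : M9 F) * ((n⁻¹ : (M9 F)ˣ) : M9 F)) := by rw [hnr]; simp only [mul_assoc])
  have := mul_mem (mul_mem (inv_mem (hH.mem_norG.2 hn)) (hH.mem_norG.2 h1)) (hH.mem_norG.2 hn)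
  rwa [show n⁻¹ * (n * g * n⁻¹) * n = g by group] at this

/-- The members commuting with a shift of the first coordinate normalise. -/
theorem nor_cent_sh (hN : NoTr H) {g : (M9 F)ˣ} (hg : g ∈ H)
    (hc : (g : M9 F) * sh (1, 0) = (sh (1, 0) : M9 F) * (g : M9 F)) : Nor ω (g : M9 F) := by
  have hω := hH.root
  obtain ⟨S, hS, eS, -, hSN⟩ := hH.exists_Sw
  obtain ⟨N, hN', eN⟩ := hH.in_of_nor (nor_blk_n3 hω) (det_blk_n3 hω)
  have hNN : Nor ω (N : M9 F) := eN ▸ nor_blk_n3 hω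
  refine hH.cent_transfer (n := S * N * S) (r' := xM ω) ?_ hc ?_ fun h => ?_
  · simp only [Units.val_mul]; exact (hSN.mul hNN).mul hSN
  · have e0 : (Sw : M9 F) * sh (1, 0) = blk S3 * Sw := by
      have := congrArg (fun A => (Sw : M9 F) * A * Sw) (Sw_blk (F := F) S3)
      simp only [← mul_assoc, Sw_mul_self, one_mul] at this
      rw [← sh10, mul_assoc ((Sw : M9 F) * sh (1, 0)), Sw_mul_self, mul_one] at this
      exact this.symm
    simp only [Units.val_mul, eS, eN]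
    calc (Sw : M9 F) * blk (n3 ω) * Sw * sh (1, 0) = Sw * (blk (n3 ω) * blk S3) * Sw := by simp only [mul_assoc, e0]
      _ = (Sw * dg ω (dot (0, 1))) * blk (n3 ω) * Sw := by
          rw [blk_mul, n3_S3 hω, ← blk_mul, dg01]; simp only [mul_assoc]
      _ = xM ω * (Sw * blk (n3 ω) * Sw) := by rw [Sw_dot, xM]; simp only [mul_assoc]
  · exact hH.nor_cent_x hN (mul_mem (mul_mem (mul_mem (mul_mem hS hN') hS) hg) (inv_mem (mul_mem (mul_mem hS hN') hS))) h

/-- The members commuting with a noncentral element of the first line normalise. -/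
theorem nor_cent_line (hN : NoTr H) {g : (M9 F)ˣ} (hg : g ∈ H) {k i j : ZMod 3} (hij : i ≠ 0 ∨ j ≠ 0)
    (hc : (g : M9 F) * Rm ω k (i, 0) (j, 0) = Rm ω k (i, 0) (j, 0) * (g : M9 F)) : Nor ω (g : M9 F) := by
  have hω := hH.root
  have hc2 : (g : M9 F) * Rm ω (k + k + j * i) (i + i, 0) (j + j, 0) =
      Rm ω (k + k + j * i) (i + i, 0) (j + j, 0) * (g : M9 F) := by
    rw [← Rm_line_mul hω]
    exact (Commute.mul_right hc hc : _)
  obtain ⟨k', i', j', hij', hc'⟩ : ∃ k' i' j', ((i' : ZMod 3) = 1 ∨ i' = 0 ∧ j' = 1) ∧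
      (g : M9 F) * Rm ω k' (i', 0) (j', 0) = Rm ω k' (i', 0) (j', 0) * (g : M9 F) := by
    have table : ∀ i j : ZMod 3, i ≠ 0 ∨ j ≠ 0 → (i = 1 ∨ i = 0 ∧ j = 1) ∨ (i + i = 1 ∨ i + i = 0 ∧ j + j = 1) := by
      decide
    rcases table i j hij with h | h
    · exact ⟨k, i, j, h, hc⟩
    · exact ⟨_, _, _, h, hc2⟩
  have hc1 : (g : M9 F) * (sh (i', 0) * dg ω (dot (j', 0))) = (sh (i', 0) * dg ω (dot (j', 0))) * (g : M9 F) := by
    rw [Rm_line, Matrix.mul_smul, Matrix.smul_mul] at hc'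
    exact smul_right_injective _ (wp_ne_zero hω k') hc'
  rcases hij' with h | ⟨h, h'⟩
  · subst h
    obtain ⟨f, hf⟩ : ∃ f : Pt → ZMod 3, f = fun w => (j' + j') * (w.1 * w.1) := ⟨_, rfl⟩
    have hq : Quadr f := ⟨0, 0, 0, j' + j', 0, 0, by rw [hf]; funext w; ring⟩
    obtain ⟨E, hE, eE⟩ := hH.in_dg_quadr hq
    have hstep : (dg ω f : M9 F) * sh (1, 0) = wp ω (j' + j') • (sh (1, 0) * dg ω (dot (j', 0))) * dg ω f := by
      rw [dg_mul_sh, Matrix.smul_mul, mul_assoc, dg_mul hω, ← Matrix.mul_smul]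
      congr 1
      rw [dg, dg, ← diagonal_smul]
      congr 1
      funext v
      rw [Pi.smul_apply, smul_eq_mul, ← wp_add hω, hf]
      congr 1
      have h2 := (carry_table j' v).2
      simp only [dot, zero_mul, Prod.fst_add, Pi.add_apply, add_zero]
      linear_combination h2
    refine hH.cent_transfer (n := E⁻¹) (r := wp ω (j' + j') • (sh (1, 0) * dg ω (dot (j', 0)))) (r' := sh (1, 0)) ?_ ?_ ?_
      fun h => hH.nor_cent_sh hN (mul_mem (mul_mem (inv_mem hE) hg) (inv_mem (inv_mem hE))) h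
    · exact hH.mem_norG.1 (inv_mem (hH.mem_norG.2 (eE ▸ nor_dg hω hq)))
    · rw [Matrix.mul_smul, hc1, Matrix.smul_mul]
    · refine E.isUnit.mul_left_cancel ?_
      rw [← mul_assoc, Units.mul_inv, one_mul, ← mul_assoc, eE, hstep, mul_assoc, ← eE, Units.mul_inv, mul_one]
  · subst h h'
    rw [Prod.mk_zero_zero, sh_zero, one_mul] at hc1
    exact hH.nor_cent_x hN hg hc1

end Amb

end CfsgLib.Classical.QutritMax
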