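import Cfsg.Agent.Lib.Classical.QutritMax.Tri

/-!
# Members of the group acting on the second coordinate only
-/

set_option autoImplicit false
set_option linter.unusedSectionVars false
set_option linter.unusedSimpArgs false

namespace CfsgLib.Classical.QutritMax

open Matrix

variable {F : Type*} [Field F] {ω : F} {p : ℕ} {H : Subgroup (M9 F)ˣ}

/-- The central generator. -/
def xM (ω : F) : M9 F := dg ω (dot (1, 0))

/-- A block of a matrix. -/
def row (g : M9 F) (a : ZMod 3) : Matrix (ZMod 3) (ZMod 3) F := of fun b d => g (a, b) (a, d)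

theorem row_apply (g : M9 F) (a b d : ZMod 3) : row g a b d = g (a, b) (a, d) := rfl

theorem row_bd (B : ZMod 3 → Matrix (ZMod 3) (ZMod 3) F) (a : ZMod 3) : row (bd B) a = B a := by
  ext b d; simp [row_apply, bd_apply]

theorem bd_row (h : Root ω) {g : M9 F} (hg : g * xM ω = xM ω * g) : g = bd (row g) := eq_bd_of_comm h hg

theorem bd_x (B : ZMod 3 → Matrix (ZMod 3) (ZMod 3) F) : bd B * xM ω = xM ω * bd B := bd_comm_x B

theorem row_mul (h : Root ω) {g k : M9 F} (hg : g * xM ω = xM ω * g) (hk : k * xM ω = xM ω * k) (a : ZMod 3) :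
    row (g * k) a = row g a * row k a := by
  conv_lhs => rw [bd_row h hg, bd_row h hk, bd_mul, row_bd]

/-- The negation of the coordinate. -/
def Par3 : Matrix (ZMod 3) (ZMod 3) F := of fun i j => if i = -j then 1 else 0

/-- The projection on a value of the coordinate. -/
def E3 (k : ZMod 3) : Matrix (ZMod 3) (ZMod 3) F := diagonal (Pi.single k 1)

/-- The projection on a value of the second coordinate. -/
def P2 (k : ZMod 3) : M9 F := bd fun _ => E3 k

/-- The involution negating the second coordinate. -/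
def Zp : M9 F := bd fun _ => -Par3

/-- The perm negating the second coordinate. -/
def negB : Equiv.Perm Pt := (Equiv.refl _).prodCongr (Equiv.neg _)

theorem negB_add (a b : Pt) : negB (a + b) = negB a + negB b := by
  ext <;> simp [negB, add_comm]

theorem signed_negB : ((Equiv.Perm.sign negB : ℤ) : F) • (pm negB : M9 F) = Zp := by
  rw [show Equiv.Perm.sign negB = -1 by decide]
  ext ⟨a, b⟩ ⟨c, d⟩
  simp only [Matrix.smul_apply, pm_apply, Zp, bd_apply, Matrix.neg_apply, Par3, of_apply, negB,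
    Equiv.prodCongr_apply, Prod.map, Equiv.refl_apply, Equiv.neg_apply, Prod.mk.injEq, smul_eq_mul]
  by_cases e : a = c <;> by_cases e' : b = -d <;> simp [e, e']

theorem par3_mul : (Par3 : Matrix (ZMod 3) (ZMod 3) F) * Par3 = 1 := by
  ext i j
  rcases zmod3_cases i with rfl | rfl | rfl <;> rcases zmod3_cases j with rfl | rfl | rfl <;>
    simp [Par3, Matrix.mul_apply, sum3, Matrix.one_apply, show (2 : ZMod 3) ≠ 0 by decide,
      show (1 : ZMod 3) ≠ 2 by decide, show (2 : ZMod 3) ≠ 1 by decide, show (0 : ZMod 3) ≠ 2 by decide,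
      show -(1 : ZMod 3) = 2 by decide, show -(2 : ZMod 3) = 1 by decide]

theorem Zp_mul_self : (Zp : M9 F) * Zp = 1 := by
  rw [Zp, bd_mul]; simp only [neg_mul_neg, par3_mul]; exact bd_one

theorem P2_idem (k : ZMod 3) : (P2 k : M9 F) * P2 k = P2 k := by
  rw [P2, bd_mul]
  congr 1
  funext a
  rw [E3, diagonal_mul_diagonal]
  congr 1
  funext i
  by_cases e : i = k <;> simp [e]

theorem tU_P2_zero : tU ω (P2 0 : M9 F) = blk (Z3 ω) := by
  ext ⟨a, b⟩ ⟨c, d⟩
  rw [blk_apply, tU, Matrix.add_apply, Matrix.smul_apply, P2, bd_apply]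
  simp only [Matrix.one_apply, Prod.mk.injEq, E3, Z3, diagonal_apply, Pi.single_apply, smul_eq_mul]
  by_cases e : a = c <;> by_cases e' : b = d <;> by_cases e'' : d = 0 <;> simp_all

/-- Blocks commuting with the negation. -/
structure Symm3 (B : Matrix (ZMod 3) (ZMod 3) F) : Prop where
  h01 : B 0 1 = B 0 2
  h10 : B 1 0 = B 2 0
  h11 : B 1 1 = B 2 2
  h12 : B 1 2 = B 2 1

theorem symm3_of_comm {B : Matrix (ZMod 3) (ZMod 3) F} (h : B * -Par3 = -Par3 * B) : Symm3 B := by
  rw [mul_neg, neg_mul, neg_inj] at h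
  have e : ∀ i j, (B * Par3 : Matrix (ZMod 3) (ZMod 3) F) i j = (Par3 * B : Matrix (ZMod 3) (ZMod 3) F) i j := fun i j => by rw [h]
  have h01 := e 0 1
  have h10 := e 1 0
  have h11 := e 1 1
  have h12 := e 1 2
  simp [Par3, Matrix.mul_apply, sum3, show (2 : ZMod 3) ≠ 0 by decide, show (1 : ZMod 3) ≠ 2 by decide,
    show (2 : ZMod 3) ≠ 1 by decide, show (0 : ZMod 3) ≠ 2 by decide, show -(1 : ZMod 3) = 2 by decide,
    show -(2 : ZMod 3) = 1 by decide] at h01 h10 h11 h12
  exact ⟨h01.symm, h10, h12, h11⟩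

theorem symm3_row (h : Root ω) {g : M9 F} (hx : g * xM ω = xM ω * g) (hz : g * (Zp : M9 F) = (Zp : M9 F) * g) (a : ZMod 3) :
    Symm3 (row g a) := by
  have e := congrArg (fun A => row A a) hz
  rw [Zp, row_mul h hx (bd_x _), row_mul h (bd_x _) hx, row_bd] at e
  exact symm3_of_comm e

/-- The vectors negated by the reflection. -/
def mvec (a : ZMod 3) : Pt → F := Pi.single (a, 1) 1 - Pi.single (a, 2) 1

/-- The vectors fixed by the reflection, outside the axis. -/
def pvec (a : ZMod 3) : Pt → F := Pi.single (a, 1) 1 + Pi.single (a, 2) 1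

theorem bd_mulVec_single (B : ZMod 3 → Matrix (ZMod 3) (ZMod 3) F) (a b : ZMod 3) (i : Pt) :
    (bd B *ᵥ Pi.single (a, b) 1) i = if i.1 = a then B a i.2 b else 0 := by
  rw [mulVec_single_one]
  show bd B i (a, b) = _
  rw [bd_apply]
  split_ifs with e
  · rw [e]
  · rfl

theorem bd_mvec {B : ZMod 3 → Matrix (ZMod 3) (ZMod 3) F} {a : ZMod 3} (hB : Symm3 (B a)) :
    bd B *ᵥ mvec a = (B a 1 1 - B a 1 2) • (mvec a : Pt → F) := by
  funext ⟨c, b⟩
  rw [mvec, mulVec_sub, Pi.sub_apply, bd_mulVec_single, bd_mulVec_single, Pi.smul_apply, Pi.sub_apply,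
    Pi.single_apply, Pi.single_apply, smul_eq_mul]
  by_cases e : c = a
  · subst e
    rcases zmod3_cases b with rfl | rfl | rfl
    · simp [hB.h01, Prod.ext_iff, show (0 : ZMod 3) ≠ 2 by decide]
    · simp [Prod.ext_iff, show (1 : ZMod 3) ≠ 2 by decide]
    · simp [Prod.ext_iff, show (2 : ZMod 3) ≠ 1 by decide, hB.h11, hB.h12]
  · simp [e, Prod.ext_iff]

theorem bd_pvec {B : ZMod 3 → Matrix (ZMod 3) (ZMod 3) F} {a : ZMod 3} (hB : Symm3 (B a)) :
    bd B *ᵥ pvec a = (B a 0 1 + B a 0 1) • (Pi.single (a, 0) 1 : Pt → F) + (B a 1 1 + B a 1 2) • pvec a := by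
  funext ⟨c, b⟩
  rw [pvec, mulVec_add, Pi.add_apply, bd_mulVec_single, bd_mulVec_single]
  simp only [Pi.add_apply, Pi.smul_apply, Pi.single_apply, smul_eq_mul]
  by_cases e : c = a
  · subst e
    rcases zmod3_cases b with rfl | rfl | rfl
    · simp [hB.h01, Prod.ext_iff, show (0 : ZMod 3) ≠ 2 by decide]
    · simp [Prod.ext_iff, show (1 : ZMod 3) ≠ 2 by decide]
    · simp [Prod.ext_iff, show (2 : ZMod 3) ≠ 1 by decide, show (2 : ZMod 3) ≠ 0 by decide, hB.h11, hB.h12]
      ring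
  · simp [e, Prod.ext_iff]

theorem bd_single0 {B : ZMod 3 → Matrix (ZMod 3) (ZMod 3) F} {a : ZMod 3} (hB : Symm3 (B a)) :
    bd B *ᵥ Pi.single (a, 0) 1 = B a 0 0 • (Pi.single (a, 0) 1 : Pt → F) + B a 1 0 • pvec a := by
  funext ⟨c, b⟩
  rw [bd_mulVec_single]
  simp only [pvec, Pi.add_apply, Pi.smul_apply, Pi.single_apply, smul_eq_mul]
  by_cases e : c = a
  · subst e
    rcases zmod3_cases b with rfl | rfl | rfl
    · simp [Prod.ext_iff, show (0 : ZMod 3) ≠ 2 by decide]
    · simp [Prod.ext_iff, show (1 : ZMod 3) ≠ 2 by decide]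
    · simp [Prod.ext_iff, show (2 : ZMod 3) ≠ 1 by decide, show (2 : ZMod 3) ≠ 0 by decide, hB.h10]
  · simp [e, Prod.ext_iff]

/-- The plane of one value of the first coordinate fixed by the reflection up to sign. -/
def plane (a : ZMod 3) : Plane F where
  L := of fun (i : Pt) (j : Fin 2) => (![Pi.single (a, 0) (1 : F), pvec a] : Fin 2 → Pt → F) j i
  R := of fun (j : Fin 2) (i : Pt) => (![Pi.single (a, 0) (1 : F), Pi.single (a, 1) 1] : Fin 2 → Pt → F) j i
  hRL := by
    ext i j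
    show ![Pi.single (a, 0) (1 : F), Pi.single (a, 1) 1] i ⬝ᵥ ![Pi.single (a, 0) (1 : F), pvec a] j = _
    fin_cases i <;> fin_cases j <;>
      simp [pvec, single_dotProduct, Pi.single_apply, Prod.ext_iff, show (0 : ZMod 3) ≠ 2 by decide,
        show (1 : ZMod 3) ≠ 2 by decide]

/-- The matrix induced on the plane. -/
def planeMat (B : Matrix (ZMod 3) (ZMod 3) F) : Matrix (Fin 2) (Fin 2) F :=
  !![B 0 0, B 0 1 + B 0 1; B 1 0, B 1 1 + B 1 2]

theorem mul_plane_L (h : Root ω) {g : M9 F} (hx : g * xM ω = xM ω * g) (hz : g * (Zp : M9 F) = (Zp : M9 F) * g) (a : ZMod 3) :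
    g * (plane a).L = (plane a).L * planeMat (row g a) := by
  have hB := symm3_row h hx hz a
  ext i j
  show (g *ᵥ ![Pi.single (a, 0) (1 : F), pvec a] j) i = _
  refine Eq.trans ?_ (Matrix.mul_apply).symm
  rw [Fin.sum_univ_two, bd_row h hx]
  fin_cases j
  · simp only [Fin.zero_eta, Fin.mk_one, Matrix.cons_val_zero, Matrix.cons_val_one, bd_single0 hB, row_bd]
    simp [plane, planeMat, mul_comm]
  · simp only [Fin.zero_eta, Fin.mk_one, Matrix.cons_val_zero, Matrix.cons_val_one, bd_pvec hB, row_bd]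
    simp [plane, planeMat, mul_comm]

/-- A block that is trivial on the fixed vectors. -/
theorem row_cases {B : Matrix (ZMod 3) (ZMod 3) F} (h2 : (2 : F) ≠ 0) (hB : Symm3 B) (h01 : B 0 1 = 0)
    (h10 : B 1 0 = 0) (hm : B 1 1 - B 1 2 = 1) (hd : B 0 0 * (B 1 1 + B 1 2) = 1) :
    (B 0 0 = 1 → B = 1) ∧ (B 0 0 = -1 → B = -Par3) := by
  constructor <;> intro e <;> rw [e] at hd
  · have e11 : B 1 1 = 1 := mul_left_cancel₀ h2 (by linear_combination hd + hm)
    have e12 : B 1 2 = 0 := by linear_combination e11 - hm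
    ext i j
    rcases zmod3_cases i with rfl | rfl | rfl <;> rcases zmod3_cases j with rfl | rfl | rfl <;>
      simp [e, e11, e12, h01, h10, ← hB.h01, ← hB.h10, ← hB.h11, ← hB.h12, Matrix.one_apply,
        show (2 : ZMod 3) ≠ 0 by decide, show (0 : ZMod 3) ≠ 2 by decide, show (1 : ZMod 3) ≠ 2 by decide,
        show (2 : ZMod 3) ≠ 1 by decide]
  · have e11 : B 1 1 = 0 := mul_left_cancel₀ h2 (by linear_combination -hd + hm)
    have e12 : B 1 2 = -1 := by linear_combination e11 - hm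
    ext i j
    rcases zmod3_cases i with rfl | rfl | rfl <;> rcases zmod3_cases j with rfl | rfl | rfl <;>
      simp [e, e11, e12, h01, h10, ← hB.h01, ← hB.h10, ← hB.h11, ← hB.h12, Par3,
        show (2 : ZMod 3) ≠ 0 by decide, show (0 : ZMod 3) ≠ 2 by decide, show (1 : ZMod 3) ≠ 2 by decide,
        show (2 : ZMod 3) ≠ 1 by decide, show -(1 : ZMod 3) = 2 by decide, show -(2 : ZMod 3) = 1 by decide]

theorem row_offdiag (h : Root ω) {g : M9 F} (hx : g * xM ω = xM ω * g) (hp : g * (P2 0 : M9 F) = (P2 0 : M9 F) * g) (a : ZMod 3) :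
    row g a 0 1 = 0 ∧ row g a 0 2 = 0 ∧ row g a 1 0 = 0 ∧ row g a 2 0 = 0 := by
  have e := congrArg (fun A => row A a) hp
  rw [P2, row_mul h hx (bd_x _), row_mul h (bd_x _) hx, row_bd] at e
  have q : ∀ i j, (row g a * E3 0 : Matrix (ZMod 3) (ZMod 3) F) i j = ((E3 0 : Matrix (ZMod 3) (ZMod 3) F) * row g a) i j := fun i j => by
    rw [show row g a * E3 0 = _ from e]
  have q01 := q 0 1
  have q02 := q 0 2
  have q10 := q 1 0
  have q20 := q 2 0
  simp [E3, Matrix.mul_diagonal, Matrix.diagonal_mul, show (1 : ZMod 3) ≠ 0 by decide,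
    show (2 : ZMod 3) ≠ 0 by decide] at q01 q02 q10 q20
  exact ⟨q01.symm, q02.symm, q10, q20⟩

theorem pow_mulVec {g : M9 F} {v : Pt → F} {c : F} (e : g *ᵥ v = c • v) (n : ℕ) : g ^ n *ᵥ v = c ^ n • v := by
  induction n with
  | zero => simp
  | succ n ih => rw [pow_succ, ← mulVec_mulVec, e, mulVec_smul, ih, smul_smul, ← pow_succ']

theorem conj_eig {T v : (M9 F)ˣ} {w : Pt → F} {α β : F} (hv : (v : M9 F) *ᵥ w = β • w)
    (hT : (T : M9 F) *ᵥ w = α • w) : ((v * T * v⁻¹ : (M9 F)ˣ) : M9 F) *ᵥ w = α • w := by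
  by_cases hw : w = 0
  · simp [hw]
  have hb : β ≠ 0 := fun e => hw (by
    have := congrArg (((v⁻¹ : (M9 F)ˣ) : M9 F) *ᵥ ·) hv
    simpa [mulVec_mulVec, e] using this)
  have hi : ((v⁻¹ : (M9 F)ˣ) : M9 F) *ᵥ w = β⁻¹ • w := by
    have := congrArg (fun x => β⁻¹ • (((v⁻¹ : (M9 F)ˣ) : M9 F) *ᵥ x)) hv
    simp only [mulVec_mulVec, Units.inv_mul, one_mulVec, mulVec_smul, smul_smul, inv_mul_cancel₀ hb, one_smul] at this
    exact this.symm
  simp only [Units.val_mul, ← mulVec_mulVec, hi, mulVec_smul, hT, hv, smul_smul]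
  congr 1
  field_simp

theorem tU_P2_single (a : ZMod 3) : tU ω (P2 0 : M9 F) *ᵥ Pi.single (a, 0) 1 = ω • (Pi.single (a, 0) 1 : Pt → F) := by
  rw [tU_P2_zero, blk_eq_bd]
  funext i
  rw [bd_mulVec_single, Pi.smul_apply, Pi.single_apply, Z3, smul_eq_mul]
  obtain ⟨c, b⟩ := i
  by_cases e : c = a <;> by_cases e' : b = 0 <;> simp [e, e', Prod.ext_iff]

theorem tU_P2_mvec (a : ZMod 3) : tU ω (P2 0 : M9 F) *ᵥ mvec a = mvec a := by
  rw [tU_P2_zero, blk_eq_bd]
  have h : Symm3 (Z3 ω) := by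
    constructor <;> simp [Z3, show (0 : ZMod 3) ≠ 2 by decide, show (2 : ZMod 3) ≠ 0 by decide,
      show (1 : ZMod 3) ≠ 2 by decide, show (2 : ZMod 3) ≠ 1 by decide]
  rw [bd_mvec (B := fun _ => Z3 ω) h]
  simp [Z3, show (1 : ZMod 3) ≠ 2 by decide]

theorem tU_P2_pvec (a : ZMod 3) : tU ω (P2 0 : M9 F) *ᵥ pvec a = pvec a := by
  rw [tU_P2_zero, blk_eq_bd]
  have h : Symm3 (Z3 ω) := by
    constructor <;> simp [Z3, show (0 : ZMod 3) ≠ 2 by decide, show (2 : ZMod 3) ≠ 0 by decide,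
      show (1 : ZMod 3) ≠ 2 by decide, show (2 : ZMod 3) ≠ 1 by decide]
  rw [bd_pvec (B := fun _ => Z3 ω) h]
  simp [Z3, show (1 : ZMod 3) ≠ 2 by decide]

theorem bool_table : ∀ ε : ZMod 3 → Bool,
    (∀ k : ZMod 3, ∑ v : Pt, v.2 * (if ε v.1 = true then (v.1 + k) * v.2 else 0) = 0) →
      (∀ a, ε a = false) ∨ ∀ a, ε a = true := by decide +kernel

namespace Amb

variable (hH : Amb ω p H)
include hH

theorem in_Zp : In H (Zp : M9 F) := signed_negB (F := F) ▸ hH.in_signed negB_add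

theorem exists_T20 : ∃ T ∈ H, ((T : (M9 F)ˣ) : M9 F) = tU ω (P2 0) := by
  rw [tU_P2_zero, blk_Z3]
  exact hH.in_dg_quadr quadr_Z

theorem pow_p_eq {c : F} (h : c ^ p = 1) : c = 1 := by
  haveI := hH.char
  haveI : Fact p.Prime := ⟨hH.prime⟩
  obtain ⟨n, rfl⟩ := hH.cast_surj c
  exact (map_natCast (frobenius F p) n).symm.trans h

/-- An element `1 + M` with `M` one-sided for the projection is trivial. -/
theorem no_one_sided (hN : NoTr H) {u : M9 F} (hu : In H u) (hx : u * xM ω = xM ω * u)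
    (hs : (P2 0 * (u - 1) = u - 1 ∧ (u - 1) * P2 0 = 0) ∨ (P2 0 * (u - 1) = 0 ∧ (u - 1) * P2 0 = u - 1)) :
    u = 1 := by
  have hb := bd_row hH.root hx
  have hM : In H (1 + (u - 1)) := by rwa [add_sub_cancel]
  have hent : ∀ s t, (u - 1) s t ≠ 0 → s.1 = t.1 := by
    intro s t h
    by_contra e
    refine h ?_
    rw [hb, Matrix.sub_apply, bd_apply, if_neg e, Matrix.one_apply_ne (fun q => e (by rw [q])), sub_zero]
  have hPl : ∀ s t, (P2 0 * (u - 1) : M9 F) s t = if s.2 = 0 then (u - 1) s t else 0 := fun s t => by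
    have : (P2 0 : M9 F) = diagonal (fun v : Pt => if v.2 = 0 then (1 : F) else 0) := by
      ext ⟨a, b⟩ ⟨c, d⟩
      simp only [P2, bd_apply, E3, diagonal_apply, Pi.single_apply]
      by_cases e : a = c <;> by_cases e' : b = d <;> simp [e, e']
    rw [this, diagonal_mul]; split_ifs <;> simp
  have hPr : ∀ s t, ((u - 1) * P2 0 : M9 F) s t = if t.2 = 0 then (u - 1) s t else 0 := fun s t => by
    have : (P2 0 : M9 F) = diagonal (fun v : Pt => if v.2 = 0 then (1 : F) else 0) := by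
      ext ⟨a, b⟩ ⟨c, d⟩
      simp only [P2, bd_apply, E3, diagonal_apply, Pi.single_apply]
      by_cases e : a = c <;> by_cases e' : b = d <;> simp [e, e']
    rw [this, mul_diagonal]; split_ifs <;> simp
  have qb : Quadr (fun w : Pt => w.2) := ⟨0, 0, 1, 0, 0, 0, funext fun w => by ring⟩
  have qab : Quadr (fun w : Pt => w.1 * w.2) := ⟨0, 0, 0, 0, 1, 0, funext fun w => by ring⟩
  refine sub_eq_zero.1 ?_
  rcases hs with ⟨e1, e2⟩ | ⟨e1, e2⟩
  · refine hH.no_supported hN (S := fun s t => s.1 = t.1 ∧ s.2 = 0 ∧ t.2 ≠ 0) qb qab ?_ ?_ hM fun s t h => ⟨hent s t h, ?_, ?_⟩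
    · rintro ⟨a, b⟩ ⟨a', b'⟩ ⟨c, d⟩ ⟨c', d'⟩ ⟨r1, r2, r3⟩ ⟨q1, q2, q3⟩ h1 h2
      simp only at r1 r2 r3 q1 q2 q3 h1 h2
      subst r1 r2 q1 q2
      simp only [zero_sub, neg_inj, mul_zero] at h1 h2
      subst h1
      exact ⟨Prod.ext (mul_right_cancel₀ r3 h2) rfl, Prod.ext (mul_right_cancel₀ r3 h2) rfl⟩
    · rintro s t s' t' ⟨-, -, h3⟩ ⟨-, h2', -⟩ rfl; exact h3 h2'
    · by_contra e; exact h (by rw [← congrFun (congrFun e1 s) t, hPl, if_neg e])
    · intro e
      have := congrFun (congrFun e2 s) t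
      rw [hPr, if_pos e, Matrix.zero_apply] at this
      exact h this
  · refine hH.no_supported hN (S := fun s t => s.1 = t.1 ∧ s.2 ≠ 0 ∧ t.2 = 0) qb qab ?_ ?_ hM fun s t h => ⟨hent s t h, ?_, ?_⟩
    · rintro ⟨a, b⟩ ⟨a', b'⟩ ⟨c, d⟩ ⟨c', d'⟩ ⟨r1, r2, r3⟩ ⟨q1, q2, q3⟩ h1 h2
      simp only at r1 r2 r3 q1 q2 q3 h1 h2
      subst r1 r3 q1 q3
      simp only [sub_zero, mul_zero] at h1 h2
      subst h1
      exact ⟨Prod.ext (mul_right_cancel₀ r2 h2) rfl, Prod.ext (mul_right_cancel₀ r2 h2) rfl⟩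
    · rintro s t s' t' ⟨-, -, h3⟩ ⟨-, h2', -⟩ rfl; exact h2' h3
    · intro e
      have := congrFun (congrFun e1 s) t
      rw [hPl, if_pos e, Matrix.zero_apply] at this
      exact h this
    · by_contra e; exact h (by rw [← congrFun (congrFun e2 s) t, hPr, if_neg e])

/-- The reflection is indivisible. -/
theorem no_partial (hN : NoTr H) {z : M9 F} (hz : In H z) {ε : ZMod 3 → Bool}
    (he : z = bd fun a => if ε a = true then -Par3 else 1) : (∀ a, ε a = false) ∨ ∀ a, ε a = true := by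
  refine bool_table ε fun k => ?_
  have hω := hH.root
  have hq : Quadr (fun w : Pt => (w.1 + k) * w.2) := ⟨0, 0, k, 0, 1, 0, funext fun w => by ring⟩
  have h1 := hH.in_dg_quadr hq
  have h := ((hz.mul h1).mul hz).mul (h1.inv (det_dg_mul_neg hω _))
  rw [he] at h
  have e : (bd fun a => if ε a = true then -Par3 else 1) * dg ω (fun w : Pt => (w.1 + k) * w.2) *
      (bd fun a => if ε a = true then -Par3 else 1) * dg ω (-fun w : Pt => (w.1 + k) * w.2)
      = (1 : F) • dg ω (fun v : Pt => if ε v.1 = true then (v.1 + k) * v.2 else 0) := by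
    rw [one_smul, dg_eq_bd, dg_eq_bd, dg_eq_bd, bd_mul, bd_mul, bd_mul]
    congr 1
    funext a
    cases he' : ε a with
    | false =>
      simp [diagonal_mul_diagonal, wp_mul_neg hω, wp_zero, he']
    | true =>
      simp only [if_true, mul_neg, neg_mul, neg_neg]
      ext i j
      rcases zmod3_cases i with rfl | rfl | rfl <;> rcases zmod3_cases j with rfl | rfl | rfl <;>
        simp [Par3, Matrix.mul_apply, sum3, show (2 : ZMod 3) ≠ 0 by decide, show (0 : ZMod 3) ≠ 2 by decide,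
          show (1 : ZMod 3) ≠ 2 by decide, show (2 : ZMod 3) ≠ 1 by decide, show -(1 : ZMod 3) = 2 by decide,
          show -(2 : ZMod 3) = 1 by decide, wp_zero, ← wp_add hω, he'] <;>
        (congr 1; clear * -; revert a k; decide)
  rw [e] at h
  exact (hH.moments_eq_zero hN h).2.2

/-- No member induces a triangular unipotent transformation on the first plane. -/
theorem no_unip (hN : NoTr H) {v : (M9 F)ˣ} (hv : v ∈ H) (hx : (v : M9 F) * xM ω = xM ω * v)
    (hz : (v : M9 F) * (Zp : M9 F) = (Zp : M9 F) * v) {l c : F} (hc : c ≠ 0)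
    (hU : planeMat (row (v : M9 F) 0) = l • !![1, c; 0, 1] ∨ planeMat (row (v : M9 F) 0) = l • !![1, 0; c, 1]) :
    False := by
  have hω := hH.root
  obtain ⟨T, hT, eT⟩ := hH.exists_T20
  have hTx : (T : M9 F) * xM ω = xM ω * T := by rw [eT, tU_P2_zero, blk_eq_bd, bd_x]
  have hTz : (T : M9 F) * (Zp : M9 F) = (Zp : M9 F) * T := by
    rw [eT, tU_P2_zero, blk_eq_bd, Zp, bd_mul, bd_mul]
    congr 1; funext _
    ext i j
    rcases zmod3_cases i with rfl | rfl | rfl <;> rcases zmod3_cases j with rfl | rfl | rfl <;>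
      simp [Z3, Par3, show (2 : ZMod 3) ≠ 0 by decide, show (0 : ZMod 3) ≠ 2 by decide,
        show -(1 : ZMod 3) = 2 by decide, show -(2 : ZMod 3) = 1 by decide]
  have hvi : ∀ {A : M9 F}, (v : M9 F) * A = A * v → ((v⁻¹ : (M9 F)ˣ) : M9 F) * A = A * ((v⁻¹ : (M9 F)ˣ) : M9 F) :=
    fun h => (Commute.units_inv_left h : _)
  have hQ : ∀ {A : M9 F}, (v : M9 F) * A = A * v → (T : M9 F) * A = A * T →
      ((v * T * v⁻¹ : (M9 F)ˣ) : M9 F) * A = A * ((v * T * v⁻¹ : (M9 F)ˣ) : M9 F) := fun {A} h1 h2 => by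
    rw [Units.val_mul, Units.val_mul]
    exact ((Commute.mul_left h1 h2).mul_left (hvi h1) : _)
  have hm : ∀ a, ((v * T * v⁻¹ : (M9 F)ˣ) : M9 F) *ᵥ mvec a = (1 : F) • mvec a := fun a => by
    refine conj_eig (β := row (v : M9 F) a 1 1 - row (v : M9 F) a 1 2) ?_ (by rw [eT, tU_P2_mvec, one_smul])
    conv_lhs => rw [bd_row hω hx]
    exact bd_mvec (symm3_row hω hx hz a)
  have hTm : ∀ a, (T : M9 F) *ᵥ mvec a = (1 : F) • mvec a := fun a => by rw [eT, tU_P2_mvec, one_smul]
  have hs0 := symm3_row hω hx hz 0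
  -- a common eigenvector in the first plane
  obtain ⟨w, hw, hwv, α, hwT⟩ : ∃ w : Pt → F, (w = Pi.single ((0 : ZMod 3), (0 : ZMod 3)) 1 ∨ w = pvec 0) ∧
      ((v : M9 F) *ᵥ w = l • w) ∧ ∃ α : F, (T : M9 F) *ᵥ w = α • w := by
    rcases hU with e | e
    · refine ⟨_, Or.inl rfl, ?_, ω, by rw [eT, tU_P2_single]⟩
      have e10 := congrFun (congrFun e 1) 0
      have e00 := congrFun (congrFun e 0) 0
      simp [planeMat] at e10 e00
      conv_lhs => rw [bd_row hω hx]
      rw [bd_single0 hs0, e10, e00, zero_smul, add_zero]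
    · refine ⟨_, Or.inr rfl, ?_, 1, by rw [eT, tU_P2_pvec, one_smul]⟩
      have e01 := congrFun (congrFun e 0) 1
      have e11 := congrFun (congrFun e 1) 1
      simp [planeMat] at e01 e11
      conv_lhs => rw [bd_row hω hx]
      rw [bd_pvec hs0, e01, e11, zero_smul, zero_add]
  have hwQ := conj_eig hwv hwT
  -- elements of the derived group
  have props : ∀ z ∈ DGrp T (v * T * v⁻¹), z ∈ H → (z : M9 F) * (P2 0 : M9 F) = (P2 0 : M9 F) * z →
      (z : M9 F) * xM ω = xM ω * z ∧ (∀ a, (row (z : M9 F) a 0 0 = 1 → row (z : M9 F) a = 1) ∧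
        (row (z : M9 F) a 0 0 = -1 → row (z : M9 F) a = -Par3)) ∧ row (z : M9 F) 0 0 0 = 1 ∧
      ∀ a, (z : M9 F) *ᵥ Pi.single (a, 0) 1 = row (z : M9 F) a 0 0 • (Pi.single (a, 0) 1 : Pt → F) := by
    intro z hz0 _ hzP
    have zx := DGrp.comm hz0 hTx (hQ hx hTx)
    have zz := DGrp.comm hz0 hTz (hQ hz hTz)
    have hS := symm3_row hω zx zz
    have off := row_offdiag hω zx hzP
    have hdet : ∀ a, row (z : M9 F) a 0 0 * (row (z : M9 F) a 1 1 + row (z : M9 F) a 1 2) = 1 := by
      intro a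
      have hmem : ∀ g : (M9 F)ˣ, (g : M9 F) * xM ω = xM ω * g → (g : M9 F) * (Zp : M9 F) = (Zp : M9 F) * g → g ∈ (plane a).sub := by
        intro g g1 g2
        refine (plane a).mem_sub_of_det (mul_plane_L hω g1 g2 a) ?_
        have e1 := mul_plane_L hω g1 g2 a
        have e2 := mul_plane_L hω (show ((g⁻¹ : (M9 F)ˣ) : M9 F) * xM ω = xM ω * (g⁻¹ : (M9 F)ˣ) from
          (Commute.units_inv_left g1 : _)) (Commute.units_inv_left g2 : _) a
        have e3 : planeMat (row (g : M9 F) a) * planeMat (row ((g⁻¹ : (M9 F)ˣ) : M9 F) a) = 1 := by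
          exact (plane a).mul_eq_one e1 e2
        intro h0
        have := congrArg Matrix.det e3
        rw [det_mul, h0, zero_mul, det_one] at this
        exact zero_ne_one this
      have := DGrp.det (π := plane a) (hmem T hTx hTz) (hmem _ (hQ hx hTx) (hQ hz hTz)) hz0 (mul_plane_L hω zx zz a)
      rw [det_fin_two] at this
      simpa [planeMat, (off a).1] using this
    have hfix : ∀ a, row (z : M9 F) a 1 1 - row (z : M9 F) a 1 2 = 1 := fun a => by
      have e := DGrp.fix hz0 (hTm a) (hm a)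
      conv_lhs at e => rw [bd_row hω zx, bd_mvec (hS a)]
      have := congrFun e (a, 1)
      simpa [mvec, show (1 : ZMod 3) ≠ 2 by decide] using this
    have hsingle : ∀ a, (z : M9 F) *ᵥ Pi.single (a, 0) 1 = row (z : M9 F) a 0 0 • (Pi.single (a, 0) 1 : Pt → F) := by
      intro a
      conv_lhs => rw [bd_row hω zx]
      rw [bd_single0 (hS a), (off a).2.2.1, zero_smul, add_zero]
    refine ⟨zx, fun a => row_cases hH.two_ne (hS a) (off a).1 (off a).2.2.1 (hfix a) (hdet a), ?_, hsingle⟩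
    have e := DGrp.fix hz0 hwT hwQ
    rcases hw with rfl | rfl
    · rw [hsingle] at e
      simpa using congrFun e (0, 0)
    · conv_lhs at e => rw [bd_row hω zx, bd_pvec (hS 0), (off 0).1]
      have := congrFun e (0, 1)
      simp [pvec, show (1 : ZMod 3) ≠ 2 by decide] at this
      have h := hdet 0
      rwa [this, mul_one] at h
  rcases hH.conj_cases (P2_idem 0) eT hT hv with h | ⟨z, hz0, hzH, hz1, hzz, hzP, -⟩ | ⟨u, hu0, huH, hu1, hup, huP⟩ |
    ⟨u, hu0, huH, hu1, -, hs⟩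
  · -- the two projections do not commute
    obtain ⟨U', hU'⟩ : ∃ U', ((v⁻¹ : (M9 F)ˣ) : M9 F) * (plane (F := F) 0).L = (plane (F := F) 0).L * U' :=
      ⟨_, mul_plane_L hω (hvi hx) (hvi hz) 0⟩
    have hP : (P2 0 : M9 F) * (plane (F := F) 0).L = (plane (F := F) 0).L * (!![1, 0; 0, 0] : Matrix (Fin 2) (Fin 2) F) := by
      refine Eq.trans (mul_plane_L hω (g := P2 0) (bd_x _) (by
        rw [P2, Zp, bd_mul, bd_mul]
        congr 1; funext _
        ext i j
        rcases zmod3_cases i with rfl | rfl | rfl <;> rcases zmod3_cases j with rfl | rfl | rfl <;>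
          simp [E3, Par3, diagonal_apply, show (2 : ZMod 3) ≠ 0 by decide, show (0 : ZMod 3) ≠ 2 by decide,
            show -(1 : ZMod 3) = 2 by decide, show -(2 : ZMod 3) = 1 by decide]) 0) ?_
      congr 1
      rw [P2, row_bd]
      ext i j; fin_cases i <;> fin_cases j <;> simp [planeMat, E3, diagonal_apply, show (1 : ZMod 3) ≠ 2 by decide, show (0 : ZMod 3) ≠ 1 by decide]
    have hvL := mul_plane_L hω hx hz 0
    obtain ⟨U, hU0⟩ : ∃ U, U = planeMat (row (v : M9 F) 0) := ⟨_, rfl⟩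
    rw [← hU0] at hvL hU
    have hUU : U * U' = 1 := by
      exact (plane (F := F) 0).mul_eq_one hvL hU'
    have hQL := (plane (F := F) 0).mul_step ((plane (F := F) 0).mul_step hvL hP) hU'
    have e1 := (plane (F := F) 0).mul_step hP hQL
    have e2 := (plane (F := F) 0).mul_step hQL hP
    rw [h] at e1
    have this := (plane (F := F) 0).L_cancel (e1.symm.trans e2)
    -- compare entries
    have eU : U' = l⁻¹ • !![1, -c; 0, 1] ∨ U' = l⁻¹ • !![1, 0; -c, 1] := by
      have hl : l ≠ 0 := by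
        rintro rfl
        rcases hU with e | e <;> rw [e, zero_smul, Matrix.zero_mul] at hUU <;>
          exact zero_ne_one (congrFun (congrFun hUU 0) 0)
      rcases hU with e | e
      · left
        refine (left_inv_eq_right_inv ?_ hUU).symm
        rw [e, Matrix.smul_mul, Matrix.mul_smul, smul_smul, inv_mul_cancel₀ hl, one_smul]
        ext i j; fin_cases i <;> fin_cases j <;> simp [Matrix.mul_apply, Fin.sum_univ_two]
      · right
        refine (left_inv_eq_right_inv ?_ hUU).symm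
        rw [e, Matrix.smul_mul, Matrix.mul_smul, smul_smul, inv_mul_cancel₀ hl, one_smul]
        ext i j; fin_cases i <;> fin_cases j <;> simp [Matrix.mul_apply, Fin.sum_univ_two]
    have hl : l ≠ 0 := by
      rintro rfl
      rcases hU with e | e <;> rw [e, zero_smul, Matrix.zero_mul] at hUU <;>
        exact zero_ne_one (congrFun (congrFun hUU 0) 0)
    rcases hU with e | e
    · obtain rfl : U' = l⁻¹ • !![1, -c; 0, 1] := by
        rcases eU with e' | e'
        · exact e'
        · exfalso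
          have := congrFun (congrFun hUU 0) 0
          rw [e, e'] at this
          simp [Matrix.mul_apply, Fin.sum_univ_two, hl, hc] at this
      rw [e] at this
      have h01 := congrFun (congrFun this 0) 1
      simp [Matrix.mul_apply, Fin.sum_univ_two, hl, hc] at h01
    · obtain rfl : U' = l⁻¹ • !![1, 0; -c, 1] := by
        rcases eU with e' | e'
        · exfalso
          have := congrFun (congrFun hUU 0) 1
          rw [e, e'] at this
          simp [Matrix.mul_apply, Fin.sum_univ_two, hl, hc] at this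
        · exact e'
      rw [e] at this
      have h10 := congrFun (congrFun this 1) 0
      simp [Matrix.mul_apply, Fin.sum_univ_two, hl, hc] at h10
  · obtain ⟨zx, hrows, h00, hs⟩ := props z hz0 hzH hzP
    have hpm : ∀ a, row (z : M9 F) a 0 0 = 1 ∨ row (z : M9 F) a 0 0 = -1 := fun a => by
      have := congrArg (fun A : M9 F => A *ᵥ Pi.single (a, 0) 1) hzz
      simp only [← mulVec_mulVec, hs, mulVec_smul, one_mulVec, smul_smul] at this
      exact mul_self_eq_one_iff.1 (by simpa using congrFun this (a, 0))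
    classical
    let ε : ZMod 3 → Bool := fun a => decide (¬ row (z : M9 F) a 0 0 = 1)
    have heq : (z : M9 F) = bd fun a => if ε a = true then -Par3 else 1 := by
      conv_lhs => rw [bd_row hω zx]
      congr 1
      funext a
      by_cases e : row (z : M9 F) a 0 0 = 1
      · simp [ε, e, (hrows a).1 e]
      · have hε : ε a = true := by simp [ε, e]
        rw [hε, if_pos rfl, (hrows a).2 ((hpm a).resolve_left e)]
    rcases hH.no_partial hN ⟨z, hzH, rfl⟩ heq with h | h
    · exact hz1 (Units.ext (by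
        rw [heq, Units.val_one, ← bd_one]; congr 1; funext a; simp [h a]))
    · have := h 0
      simp [ε, h00] at this
  · obtain ⟨ux, hrows, -, hs⟩ := props u hu0 huH huP
    refine hu1 (Units.ext ?_)
    rw [Units.val_one, bd_row hω ux, ← bd_one]
    congr 1
    funext a
    refine (hrows a).1 (hH.pow_p_eq ?_)
    have := congrArg (fun A : M9 F => A *ᵥ Pi.single (a, 0) 1) hup
    simp only [pow_mulVec (hs a), one_mulVec] at this
    simpa using congrFun this (a, 0)
  · exact hu1 (Units.ext ((hH.no_one_sided hN ⟨u, huH, rfl⟩ (DGrp.comm hu0 hTx (hQ hx hTx)) hs).trans Units.val_one.symm))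

end Amb

end CfsgLib.Classical.QutritMax
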