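import Mathlib

/-!
# The standard group of symplectic type of order `3 ^ 5` in dimension nine

Coordinates are pairs `(a, b)` in `ZMod 3 × ZMod 3`.
-/

set_option autoImplicit false
set_option linter.unusedSectionVars false
set_option linter.unusedSimpArgs false

namespace CfsgLib.Classical.QutritMax

open Matrix
open scoped Kronecker

/-- The coordinates. -/
abbrev Pt : Type := ZMod 3 × ZMod 3

/-- The matrices. -/
abbrev M9 (F : Type*) : Type _ := Matrix Pt Pt F

theorem zmod3_cases : ∀ k : ZMod 3, k = 0 ∨ k = 1 ∨ k = 2 := by decide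

theorem two_mul_two : (2 : ZMod 3) = -1 := by decide

/-- The scalar product of coordinates. -/
def dot (v u : Pt) : ZMod 3 := v.1 * u.1 + v.2 * u.2

theorem dot_add (v u w : Pt) : dot v (u + w) = dot v u + dot v w := by
  simp only [dot, Prod.fst_add, Prod.snd_add]; ring

theorem add_dot (v u w : Pt) : dot (v + u) w = dot v w + dot u w := by
  simp only [dot, Prod.fst_add, Prod.snd_add]; ring

theorem dot_zero (v : Pt) : dot v 0 = 0 := by simp [dot]

theorem zero_dot (v : Pt) : dot 0 v = 0 := by simp [dot]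

variable {F : Type*} [Field F]

/-- A primitive cube root of unity in a field of characteristic not three. -/
structure Root (ω : F) : Prop where
  eq : ω * ω + ω + 1 = 0
  three : (3 : F) ≠ 0

namespace Root

variable {ω : F} (h : Root ω)
include h

theorem pow_three : ω ^ 3 = 1 := by linear_combination (ω - 1) * h.eq

theorem ne_one : ω ≠ 1 := fun e => h.three (by have := h.eq; rw [e] at this; linear_combination this)

theorem ne_zero : ω ≠ 0 := fun e => by simpa [e] using h.eq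

theorem mul_self_ne_one : ω * ω ≠ 1 := fun e => h.ne_one (by linear_combination h.pow_three - ω * e)

theorem mul_self_ne : ω * ω ≠ ω := fun e => h.ne_one (mul_right_cancel₀ h.ne_zero (by rw [e, one_mul]))

theorem pow_mod (n : ℕ) : ω ^ (n % 3) = ω ^ n := by
  conv_rhs => rw [← Nat.mod_add_div n 3, pow_add, pow_mul, h.pow_three, one_pow, mul_one]

end Root

/-- The power of `ω` with exponent a residue modulo three. -/
def wp (ω : F) (k : ZMod 3) : F := ω ^ k.val

section

variable {ω : F}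

theorem wp_zero : wp ω 0 = 1 := by simp [wp]

theorem wp_one : wp ω 1 = ω := by simp [wp, ZMod.val_one]

theorem wp_two : wp ω 2 = ω * ω := by
  simp [wp, show ZMod.val (2 : ZMod 3) = 2 from rfl, pow_two]

theorem wp_add (h : Root ω) (i j : ZMod 3) : wp ω (i + j) = wp ω i * wp ω j := by
  rw [wp, wp, wp, ← pow_add, ZMod.val_add, h.pow_mod]

theorem wp_ne_zero (h : Root ω) (k : ZMod 3) : wp ω k ≠ 0 := pow_ne_zero _ h.ne_zero

theorem wp_mul_neg (h : Root ω) (k : ZMod 3) : wp ω k * wp ω (-k) = 1 := by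
  rw [← wp_add h, add_neg_cancel, wp_zero]

theorem wp_sub (h : Root ω) (i j : ZMod 3) : wp ω (i - j) * wp ω j = wp ω i := by
  rw [← wp_add h, sub_add_cancel]

theorem wp_injective (h : Root ω) : Function.Injective (wp ω) := by
  have e : ∀ k : ZMod 3, wp ω k = 1 → k = 0 := by
    intro k hk
    rcases zmod3_cases k with rfl | rfl | rfl
    · rfl
    · exact absurd ((wp_one (ω := ω)).symm.trans hk) h.ne_one
    · exact absurd ((wp_two (ω := ω)).symm.trans hk) h.mul_self_ne_one
  intro i j hij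
  refine sub_eq_zero.1 (e _ (mul_right_cancel₀ (wp_ne_zero h j) ?_))
  rw [wp_sub h, hij, one_mul]

theorem wp_pow_three (h : Root ω) (k : ZMod 3) : wp ω k ^ 3 = 1 := by
  rw [wp, ← pow_mul, mul_comm, pow_mul, h.pow_three, one_pow]

theorem wp_sum {ι : Type*} (h : Root ω) (s : Finset ι) (f : ι → ZMod 3) :
    wp ω (∑ i ∈ s, f i) = ∏ i ∈ s, wp ω (f i) := by
  classical
  induction s using Finset.induction_on with
  | empty => simp [wp_zero]
  | insert a s ha ih => rw [Finset.sum_insert ha, Finset.prod_insert ha, wp_add h, ih]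

end

/-- The permutation matrix mapping the unit vector at `j` to that at `π j`. -/
def pm (π : Equiv.Perm Pt) : M9 F := of fun i j => if i = π j then 1 else 0

theorem pm_apply (π : Equiv.Perm Pt) (i j : Pt) : (pm π : M9 F) i j = if i = π j then 1 else 0 := rfl

theorem pm_one : (pm 1 : M9 F) = 1 := by
  ext i j; rw [pm_apply, Matrix.one_apply, Equiv.Perm.one_apply]

theorem pm_mul_apply (π : Equiv.Perm Pt) (A : M9 F) (i j : Pt) : (pm π * A : M9 F) i j = A (π.symm i) j := by
  rw [Matrix.mul_apply, Finset.sum_eq_single (π.symm i)]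
  · simp [pm_apply]
  · intro k _ hk
    rw [pm_apply, if_neg fun e => hk (by rw [e, Equiv.symm_apply_apply]), zero_mul]
  · simp

theorem mul_pm_apply (π : Equiv.Perm Pt) (A : M9 F) (i j : Pt) : (A * pm π : M9 F) i j = A i (π j) := by
  rw [Matrix.mul_apply, Finset.sum_eq_single (π j)]
  · simp [pm_apply]
  · intro k _ hk
    rw [pm_apply, if_neg hk, mul_zero]
  · simp

theorem pm_mul (π σ : Equiv.Perm Pt) : (pm π * pm σ : M9 F) = pm (π * σ) := by
  ext i j
  rw [pm_mul_apply, pm_apply, pm_apply]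
  exact if_congr (by rw [Equiv.Perm.mul_apply, Equiv.symm_apply_eq]) rfl rfl

theorem pm_mul_diagonal (π : Equiv.Perm Pt) (α : Pt → F) :
    pm π * diagonal α = diagonal (α ∘ π.symm) * pm π := by
  ext i j
  rw [mul_diagonal, diagonal_mul, pm_apply]
  split_ifs with e
  · simp [e]
  · simp

theorem det_pm (π : Equiv.Perm Pt) : (pm π : M9 F).det = ((Equiv.Perm.sign π : ℤ) : F) := by
  have e : (pm π : M9 F) = Equiv.Perm.permMatrix F π⁻¹ := by
    ext i j
    rw [pm_apply, Equiv.Perm.permMatrix, PEquiv.toMatrix_apply]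
    simp only [Equiv.toPEquiv_apply, Option.mem_def, Option.some.injEq]
    refine if_congr ?_ rfl rfl
    show i = π j ↔ π.symm i = j
    rw [Equiv.symm_apply_eq]
  rw [e, Matrix.det_permutation, Equiv.Perm.sign_inv]

/-- The translation. -/
def sh (u : Pt) : M9 F := pm (Equiv.addRight u)

theorem sh_mul (u w : Pt) : (sh u * sh w : M9 F) = sh (u + w) := by
  rw [sh, sh, sh, pm_mul]
  congr 1
  ext i <;> simp [add_assoc, add_comm, add_left_comm]

theorem sh_zero : (sh 0 : M9 F) = 1 := by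
  rw [sh, show Equiv.addRight (0 : Pt) = 1 by ext i <;> simp, pm_one]

theorem sh_apply (u i j : Pt) : (sh u : M9 F) i j = if i = j + u then 1 else 0 := rfl

/-- The diagonal matrix with powers of `ω`. -/
def dg (ω : F) (f : Pt → ZMod 3) : M9 F := diagonal fun v => wp ω (f v)

/-- The elements of the standard group. -/
def Rm (ω : F) (k : ZMod 3) (u v : Pt) : M9 F := wp ω k • (sh u * dg ω (dot v))

variable {ω : F}

theorem dg_mul (h : Root ω) (f g : Pt → ZMod 3) : dg ω f * dg ω g = dg ω (f + g) := by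
  simp only [dg, diagonal_mul_diagonal, Pi.add_apply, wp_add h]

theorem dg_zero : dg ω (fun _ => 0) = 1 := by simp [dg, wp_zero]

theorem dg_const (k : ZMod 3) : dg ω (fun _ => k) = wp ω k • 1 := by
  simp [dg, Matrix.smul_one_eq_diagonal]

theorem det_dg (h : Root ω) (f : Pt → ZMod 3) : (dg ω f).det = wp ω (∑ v, f v) := by
  rw [dg, det_diagonal, wp_sum h]

theorem det_dg_mul_neg (h : Root ω) (f : Pt → ZMod 3) : dg ω f * dg ω (-f) = 1 := by
  rw [dg_mul h, add_neg_cancel, ← dg_zero (ω := ω)]; rfl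

theorem dg_sh (h : Root ω) (u v : Pt) :
    dg ω (dot v) * sh u = wp ω (dot v u) • (sh u * dg ω (dot v)) := by
  ext i j
  rw [dg, diagonal_mul, Matrix.smul_apply, mul_diagonal, sh_apply, smul_eq_mul]
  split_ifs with e
  · rw [mul_one, one_mul, e, dot_add, wp_add h, mul_comm]
  · simp

theorem Rm_mul (h : Root ω) (k k' : ZMod 3) (u v u' v' : Pt) :
    Rm ω k u v * Rm ω k' u' v' = Rm ω (k + k' + dot v u') (u + u') (v + v') := by
  have e : (dot (v + v') : Pt → ZMod 3) = dot v + dot v' := funext fun w => add_dot v v' w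
  simp only [Rm, Matrix.smul_mul, Matrix.mul_smul, smul_smul]
  rw [mul_assoc (sh u), ← mul_assoc (dg ω (dot v)), dg_sh h, Matrix.smul_mul, Matrix.mul_smul, smul_smul,
    mul_assoc (sh u'), dg_mul h, ← mul_assoc, sh_mul, e, wp_add h, wp_add h]
  ring_nf

theorem Rm_zero : Rm ω 0 0 0 = 1 := by
  simp [Rm, wp_zero, sh_zero, dg, zero_dot, dot]

/-- The predicate of belonging to the standard group. -/
def InR (ω : F) (r : M9 F) : Prop := ∃ k u v, r = Rm ω k u v

theorem InR.mul (h : Root ω) {r s : M9 F} (hr : InR ω r) (hs : InR ω s) : InR ω (r * s) := by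
  obtain ⟨k, u, v, rfl⟩ := hr; obtain ⟨k', u', v', rfl⟩ := hs
  exact ⟨_, _, _, Rm_mul h k k' u v u' v'⟩

theorem inR_one : InR ω (1 : M9 F) := ⟨0, 0, 0, Rm_zero.symm⟩

theorem inR_sh (u : Pt) : InR ω (sh u : M9 F) :=
  ⟨0, u, 0, by simp [Rm, wp_zero, dg, zero_dot, dot]⟩

theorem inR_dg (v : Pt) : InR ω (dg ω (dot v)) := ⟨0, 0, v, by simp [Rm, wp_zero, sh_zero]⟩

theorem inR_scalar (k : ZMod 3) : InR ω (wp ω k • (1 : M9 F)) :=
  ⟨k, 0, 0, by simp [Rm, sh_zero, dg, zero_dot, dot, wp_zero]⟩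

/-- Matrices mapping the standard group to itself. -/
def Nor (ω : F) (M : M9 F) : Prop := ∀ r, InR ω r → ∃ s, InR ω s ∧ M * r = s * M

theorem Nor.mul {M N : M9 F} (hM : Nor ω M) (hN : Nor ω N) : Nor ω (M * N) := by
  intro r hr
  obtain ⟨s, hs, e⟩ := hN r hr
  obtain ⟨t, ht, e'⟩ := hM s hs
  exact ⟨t, ht, by rw [mul_assoc, e, ← mul_assoc, e', mul_assoc]⟩

theorem Nor.smul {M : M9 F} (hM : Nor ω M) (c : F) : Nor ω (c • M) := fun r hr => by
  obtain ⟨s, hs, e⟩ := hM r hr
  exact ⟨s, hs, by rw [Matrix.smul_mul, e, Matrix.mul_smul]⟩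

theorem nor_one : Nor ω (1 : M9 F) := fun r hr => ⟨r, hr, by rw [one_mul, mul_one]⟩

/-- It suffices to check the four generators. -/
theorem nor_of_gen (h : Root ω) {M : M9 F}
    (h1 : ∃ s, InR ω s ∧ M * sh (1, 0) = s * M) (h2 : ∃ s, InR ω s ∧ M * sh (0, 1) = s * M)
    (h3 : ∃ s, InR ω s ∧ M * dg ω (dot (1, 0)) = s * M) (h4 : ∃ s, InR ω s ∧ M * dg ω (dot (0, 1)) = s * M) :
    Nor ω M := by
  let P : M9 F → Prop := fun r => ∃ s, InR ω s ∧ M * r = s * M
  have hmul : ∀ r r', P r → P r' → P (r * r') := fun r r' ⟨s, hs, e⟩ ⟨s', hs', e'⟩ =>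
    ⟨s * s', hs.mul h hs', by rw [← mul_assoc, e, mul_assoc, e', mul_assoc]⟩
  have hone : P 1 := ⟨1, inR_one, by rw [one_mul, mul_one]⟩
  have hsh : ∀ u : Pt, P (sh u) := by
    rintro ⟨a, b⟩
    have e : (sh (a, b) : M9 F) = sh (a, 0) * sh (0, b) := by rw [sh_mul]; simp
    rw [e]
    refine hmul _ _ ?_ ?_
    · rcases zmod3_cases a with rfl | rfl | rfl
      · rw [Prod.mk_zero_zero, sh_zero]; exact hone
      · exact h1
      · rw [show ((2 : ZMod 3), (0 : ZMod 3)) = (1, 0) + (1, 0) by decide, ← sh_mul]; exact hmul _ _ h1 h1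
    · rcases zmod3_cases b with rfl | rfl | rfl
      · rw [Prod.mk_zero_zero, sh_zero]; exact hone
      · exact h2
      · rw [show ((0 : ZMod 3), (2 : ZMod 3)) = (0, 1) + (0, 1) by decide, ← sh_mul]; exact hmul _ _ h2 h2
  have hd : ∀ u w : Pt, dg ω (dot (u + w)) = dg ω (dot u) * dg ω (dot w) := fun u w => by
    rw [dg_mul h]; exact congrArg _ (funext fun t => add_dot u w t)
  have hdg : ∀ u : Pt, P (dg ω (dot u)) := by
    rintro ⟨a, b⟩
    rw [show ((a, b) : Pt) = (a, 0) + (0, b) by simp, hd]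
    refine hmul _ _ ?_ ?_
    · rcases zmod3_cases a with rfl | rfl | rfl
      · rw [Prod.mk_zero_zero, show dg ω (dot 0) = (1 : M9 F) by simp [dg, zero_dot, wp_zero]]; exact hone
      · exact h3
      · rw [show ((2 : ZMod 3), (0 : ZMod 3)) = (1, 0) + (1, 0) by decide, hd]; exact hmul _ _ h3 h3
    · rcases zmod3_cases b with rfl | rfl | rfl
      · rw [Prod.mk_zero_zero, show dg ω (dot 0) = (1 : M9 F) by simp [dg, zero_dot, wp_zero]]; exact hone
      · exact h4
      · rw [show ((0 : ZMod 3), (2 : ZMod 3)) = (0, 1) + (0, 1) by decide, hd]; exact hmul _ _ h4 h4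
  rintro _ ⟨k, u, v, rfl⟩
  obtain ⟨s, hs, e⟩ := hmul _ _ (hsh u) (hdg v)
  refine ⟨wp ω k • s, ?_, by rw [Rm, Matrix.mul_smul, e, Matrix.smul_mul]⟩
  have := (inR_scalar (ω := ω) k).mul h hs
  rwa [Matrix.smul_mul, one_mul] at this

/-- A group between the part of determinant one of the normaliser of the standard group and the special linear
group. -/
structure Amb (ω : F) (p : ℕ) (H : Subgroup (M9 F)ˣ) : Prop where
  root : Root ω
  prime : p.Prime
  char : CharP F p
  seven : 7 ≤ p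
  cast_surj : ∀ c : F, ∃ n : ℕ, (n : F) = c
  det_eq : ∀ g ∈ H, ((g : (M9 F)ˣ) : M9 F).det = 1
  mem : ∀ g : (M9 F)ˣ, Nor ω (g : M9 F) → (g : M9 F).det = 1 → g ∈ H

/-- A matrix is that of a member of the group. -/
def In (H : Subgroup (M9 F)ˣ) (M : M9 F) : Prop := ∃ g ∈ H, ((g : (M9 F)ˣ) : M9 F) = M

theorem In.mul {H : Subgroup (M9 F)ˣ} {M N : M9 F} (hM : In H M) (hN : In H N) : In H (M * N) := by
  obtain ⟨g, hg, rfl⟩ := hM; obtain ⟨k, hk, rfl⟩ := hN
  exact ⟨g * k, mul_mem hg hk, Units.val_mul g k⟩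

theorem in_one (H : Subgroup (M9 F)ˣ) : In H (1 : M9 F) := ⟨1, one_mem H, Units.val_one⟩

theorem In.inv {H : Subgroup (M9 F)ˣ} {M M' : M9 F} (hM : In H M) (e : M * M' = 1) : In H M' := by
  obtain ⟨g, hg, rfl⟩ := hM
  exact ⟨g⁻¹, inv_mem hg, Units.inv_eq_of_mul_eq_one_right e⟩

theorem In.pow {H : Subgroup (M9 F)ˣ} {M : M9 F} (hM : In H M) (n : ℕ) : In H (M ^ n) := by
  obtain ⟨g, hg, rfl⟩ := hM
  exact ⟨g ^ n, pow_mem hg n, Units.val_pow_eq_pow_val g n⟩

namespace Amb

variable {p : ℕ} {H : Subgroup (M9 F)ˣ} (hH : Amb ω p H)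
include hH

theorem in_of_nor {M : M9 F} (hN : Nor ω M) (hd : M.det = 1) : In H M :=
  ⟨GeneralLinearGroup.mkOfDetNeZero M (by rw [hd]; exact one_ne_zero), hH.mem _ hN hd, rfl⟩

theorem det_of_in {M : M9 F} (hM : In H M) : M.det = 1 := by
  obtain ⟨g, hg, rfl⟩ := hM; exact hH.det_eq g hg

theorem natCast_ne {n : ℕ} (h0 : 0 < n) (hn : n < p) : (n : F) ≠ 0 := fun e => by
  haveI := hH.char
  exact Nat.not_dvd_of_pos_of_lt h0 hn ((CharP.cast_eq_zero_iff F p n).1 e)

theorem two_ne : (2 : F) ≠ 0 := by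
  simpa using hH.natCast_ne (n := 2) (by norm_num) (by have := hH.seven; omega)

theorem five_ne : (5 : F) ≠ 0 := by
  simpa using hH.natCast_ne (n := 5) (by norm_num) (by have := hH.seven; omega)

theorem finite : Finite F := by
  haveI := hH.char
  haveI : NeZero p := ⟨hH.prime.ne_zero⟩
  refine Finite.of_surjective (fun k : Fin p => ((k : ℕ) : F)) fun c => ?_
  obtain ⟨n, rfl⟩ := hH.cast_surj c
  exact ⟨⟨n % p, Nat.mod_lt _ hH.prime.pos⟩, (CharP.cast_eq_mod F p n).symm⟩

end Amb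

end CfsgLib.Classical.QutritMax
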