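import Cfsg.Agent.Lib.Classical.QutritMax.CentT

/-!
# The exchange of the two coordinates and conjugations of the central generator
-/

set_option autoImplicit false
set_option linter.unusedSectionVars false
set_option linter.unusedSimpArgs false

namespace CfsgLib.Classical.QutritMax

open Matrix
open scoped Kronecker

variable {F : Type*} [Field F] {ω : F} {p : ℕ} {H : Subgroup (M9 F)ˣ}

theorem row_mul0 {A : M9 F} (B : M9 F) (hA : A * P1 0 = (P1 0 : M9 F) * A) :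
    row (A * B) 0 = row A 0 * row B 0 := by
  ext b d
  rw [row_apply, Matrix.mul_apply, Matrix.mul_apply, Fintype.sum_prod_type, Finset.sum_eq_single 0]
  · rfl
  · intro a _ ha
    refine Finset.sum_eq_zero fun c _ => ?_
    have := congrFun (congrFun hA (0, b)) (a, c)
    rw [P1, mul_diagonal, diagonal_mul, if_neg ha, if_pos rfl, mul_zero, one_mul] at this
    rw [← this, zero_mul]
  · simp

theorem row_one (a : ZMod 3) : row (1 : M9 F) a = 1 := by
  ext b d; simp [row_apply, Matrix.one_apply]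

theorem row_neg (A : M9 F) (a : ZMod 3) : row (-A) a = -row A a := by
  ext b d; simp [row_apply]

theorem eq_zero_of_row0 {A : M9 F} (hl : A * P1 0 = A) (hr : P1 0 * A = A) (h : row A 0 = 0) : A = 0 := by
  ext ⟨a, b⟩ ⟨c, d⟩
  by_cases ha : a = 0
  · by_cases hc : c = 0
    · subst ha hc; exact congrFun (congrFun h b) d
    · rw [← hl, P1, mul_diagonal, if_neg hc, mul_zero]; rfl
  · rw [← hr, P1, diagonal_mul, if_neg ha, zero_mul]; rfl

theorem trace_P1_row (A : M9 F) : (A * P1 0).trace = (row A 0).trace := by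
  rw [Matrix.trace, Matrix.trace, Fintype.sum_prod_type, Finset.sum_eq_single 0]
  · exact Finset.sum_congr rfl fun b _ => by simp [P1, row_apply, diag_apply]
  · intro a _ ha; exact Finset.sum_eq_zero fun b _ => by simp [P1, ha, diag_apply]
  · simp

theorem trace_P1 (k : ZMod 3) : (P1 k : M9 F).trace = 3 := by
  rw [P1, trace_diagonal, Fintype.sum_prod_type, Finset.sum_eq_single k]
  · simp
  · intro a _ ha; simp [ha]
  · simp

/-- The signed exchange of the two coordinates. -/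
def Sw : M9 F := ((Equiv.Perm.sign (Equiv.prodComm (ZMod 3) (ZMod 3)) : ℤ) : F) • pm (Equiv.prodComm (ZMod 3) (ZMod 3))

theorem prodComm_add (a b : Pt) : (Equiv.prodComm (ZMod 3) (ZMod 3)) (a + b)
    = (Equiv.prodComm (ZMod 3) (ZMod 3)) a + (Equiv.prodComm (ZMod 3) (ZMod 3)) b := rfl

theorem nor_Sw (h : Root ω) : Nor ω (Sw : M9 F) := (nor_pm h prodComm_add).smul _

theorem Sw_mul_self : (Sw : M9 F) * Sw = 1 := by
  rw [Sw, Matrix.smul_mul, Matrix.mul_smul, smul_smul, pm_mul,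
    show (Equiv.prodComm (ZMod 3) (ZMod 3)) * (Equiv.prodComm (ZMod 3) (ZMod 3)) = (1 : Equiv.Perm Pt) by decide, pm_one,
    show ((Equiv.Perm.sign (Equiv.prodComm (ZMod 3) (ZMod 3))) : ℤ) = -1 by decide]
  simp

theorem Sw_diag (α : Pt → F) : (Sw : M9 F) * diagonal α = diagonal (fun v => α v.swap) * Sw := by
  rw [Sw, Matrix.smul_mul, Matrix.mul_smul, pm_mul_diagonal]
  rfl

theorem Sw_P1 (k : ZMod 3) : (Sw : M9 F) * P1 k = P2 k * Sw := by
  rw [P1, Sw_diag, P2_eq_diagonal]; rfl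

theorem Sw_P2 (k : ZMod 3) : (Sw : M9 F) * P2 k = P1 k * Sw := by
  rw [P2_eq_diagonal, Sw_diag]; rfl

theorem Sw_dot (i j : ZMod 3) : (Sw : M9 F) * dg ω (dot (i, j)) = dg ω (dot (j, i)) * Sw := by
  rw [dg, dg, Sw_diag]
  congr 2
  funext v; simp [dot, add_comm]

theorem Sw_blk (A : Matrix (ZMod 3) (ZMod 3) F) :
    (Sw : M9 F) * blk A = (A ⊗ₖ (1 : Matrix (ZMod 3) (ZMod 3) F)) * Sw := by
  rw [Sw, Matrix.smul_mul, Matrix.mul_smul]
  congr 1
  ext ⟨a, b⟩ ⟨c, d⟩
  rw [pm_mul_apply, mul_pm_apply]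
  simp only [Equiv.prodComm_symm, Equiv.prodComm_apply, Prod.swap_prod_mk, blk, kroneckerMap_apply]
  ring

theorem Sw_Za : (Sw : M9 F) * Za = Zp * Sw := by
  rw [← signed_negB, Za, Sw]
  simp only [Matrix.smul_mul, Matrix.mul_smul, smul_smul, pm_mul]
  rw [show (Equiv.Perm.sign ((Equiv.neg (ZMod 3)).prodCongr (Equiv.refl (ZMod 3))) : ℤ) = -1 by decide,
    show (Equiv.Perm.sign negB : ℤ) = -1 by decide,
    show (Equiv.Perm.sign (Equiv.prodComm (ZMod 3) (ZMod 3)) : ℤ) = -1 by decide,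
    show (Equiv.prodComm (ZMod 3) (ZMod 3)) * ((Equiv.neg (ZMod 3)).prodCongr (Equiv.refl (ZMod 3))) =
      (negB * (Equiv.prodComm (ZMod 3) (ZMod 3)) : Equiv.Perm Pt) by decide]

theorem three_cases : ∀ i j : ZMod 3, j = 0 ∨ j = 1 ∧ i * j = i ∨ j = 2 ∧ i * j = i + i := by decide

namespace Amb

variable (hH : Amb ω p H)
include hH

theorem exists_Sw : ∃ S ∈ H, ((S : (M9 F)ˣ) : M9 F) = Sw ∧ S⁻¹ = S ∧ Nor ω ((S : (M9 F)ˣ) : M9 F) := by
  obtain ⟨S, hS, eS⟩ := hH.in_signed prodComm_add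
  have e : (S : M9 F) = Sw := eS
  exact ⟨S, hS, e, inv_eq_of_mul_eq_one_right (Units.ext (by rw [Units.val_mul, e, Sw_mul_self, Units.val_one])),
    e ▸ nor_Sw hH.root⟩

theorem nor_cent_P2 (hN : NoTr H) {g : (M9 F)ˣ} (hg : g ∈ H) (h0 : (g : M9 F) * P2 0 = (P2 0 : M9 F) * (g : M9 F)) :
    Nor ω (g : M9 F) := by
  obtain ⟨S, hS, eS, hSi, hSN⟩ := hH.exists_Sw
  have h1 : Nor ω ((S * g * S : (M9 F)ˣ) : M9 F) := by
    refine hH.nor_cent_P1 hN (mul_mem (mul_mem hS hg) hS) ?_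
    simp only [Units.val_mul, eS]
    calc (Sw : M9 F) * (g : M9 F) * Sw * P1 0 = Sw * ((g : M9 F) * P2 0) * Sw := by simp only [mul_assoc, Sw_P1]
      _ = (Sw * P2 0) * (g : M9 F) * Sw := by rw [h0]; simp only [mul_assoc]
      _ = P1 0 * (Sw * (g : M9 F) * Sw) := by rw [Sw_P2]; simp only [mul_assoc]
  have := mul_mem (mul_mem (hH.mem_norG.2 hSN) (hH.mem_norG.2 h1)) (hH.mem_norG.2 hSN)
  rwa [show S * (S * g * S) * S = (S * S) * g * (S * S) by group, show S * S = 1 from inv_eq_iff_mul_eq_one.1 hSi,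
    one_mul, mul_one] at this

/-- A member commuting with the projection maps the central generator to a power of itself. -/
theorem x_conj (hN : NoTr H) {g : (M9 F)ˣ} (hg : g ∈ H) (h0 : (g : M9 F) * P1 0 = (P1 0 : M9 F) * (g : M9 F)) :
    ∃ i, i ≠ 0 ∧ ∀ j, (g : M9 F) * dg ω (dot (j, 0)) = dg ω (dot (i * j, 0)) * (g : M9 F) := by
  have hω := hH.root
  obtain ⟨s, ⟨k, u, w, rfl⟩, e⟩ := hH.nor_cent_P1 hN hg h0 (dg ω (dot (1, 0))) (inR_dg _)
  have hxP : dg ω (dot (1, 0)) * P1 0 = (P1 0 : M9 F) := by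
    rw [dg, P1, diagonal_mul_diagonal]
    congr 1; funext v
    by_cases hv : v.1 = 0 <;> simp [hv, dot, wp_zero]
  have hrP : (Rm ω k u w : M9 F) * P1 0 = P1 0 := by
    refine g.isUnit.mul_right_cancel ?_
    calc (Rm ω k u w : M9 F) * P1 0 * (g : M9 F) = (Rm ω k u w * (g : M9 F)) * P1 0 := by rw [mul_assoc, ← h0, ← mul_assoc]
      _ = P1 0 * (g : M9 F) := by rw [← e, mul_assoc, hxP, h0]
  have ent : ∀ c : ZMod 3, wp ω k * wp ω (w.2 * c) = 1 ∧ u = 0 := by
    intro c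
    have h' := congrFun (congrFun hrP (((0 : ZMod 3), c) + u)) (0, c)
    rw [P1, mul_diagonal, if_pos rfl, mul_one, Rm, Matrix.smul_apply, dg, mul_diagonal, sh_apply, if_pos rfl,
      diagonal_apply, one_mul, smul_eq_mul] at h'
    by_cases hu : ((0 : ZMod 3), c) + u = (0, c)
    · rw [if_pos hu] at h'
      have hu0 : u = 0 := by simpa using hu
      refine ⟨?_, hu0⟩
      rw [hu0, add_zero] at h'
      simpa [dot] using h'
    · rw [if_neg hu] at h'
      exact absurd h' (mul_ne_zero (wp_ne_zero hω _) (wp_ne_zero hω _))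
  obtain ⟨e1, hu⟩ := ent 0
  have hk : k = 0 := wp_injective hω (by simpa [wp_zero] using e1)
  subst hk hu
  have hw2 : w.2 = 0 := wp_injective hω (by simpa [wp_zero] using (ent 1).1)
  obtain ⟨w1, w2⟩ := w
  obtain rfl : w2 = 0 := hw2
  have e' : (g : M9 F) * dg ω (dot (1, 0)) = dg ω (dot (w1, 0)) * (g : M9 F) := by
    rw [e, Rm, wp_zero, one_smul, sh_zero, one_mul]
  have hd0 : dg ω (dot ((0 : ZMod 3), (0 : ZMod 3))) = (1 : M9 F) := by
    rw [show dot ((0 : ZMod 3), (0 : ZMod 3)) = fun _ => (0 : ZMod 3) from funext fun v => by simp [dot], dg_zero]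
  have hadd : ∀ a b : ZMod 3, dg ω (dot (a + b, 0)) = (dg ω (dot (a, 0)) * dg ω (dot (b, 0)) : M9 F) := fun a b => by
    rw [dg_mul hω]; congr 1; funext v; simp [dot]; ring
  refine ⟨w1, fun hw => ?_, fun j => ?_⟩
  · rw [hw, hd0, one_mul] at e'
    replace e' : dg ω (dot (1, 0)) = (1 : M9 F) := g.isUnit.mul_left_cancel (by rw [e', mul_one])
    have e2 : (Rm ω 0 0 (1, 0) : M9 F) = Rm ω 0 0 0 := by
      rw [Rm_zero, Rm, wp_zero, one_smul, sh_zero, one_mul]; exact e'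
    exact absurd (Prod.ext_iff.1 (Rm_injective hω e2).2.2).1 (by decide)
  · rcases three_cases w1 j with hj | ⟨hj, hij⟩ | ⟨hj, hij⟩
    · rw [hj, mul_zero, hd0, mul_one, one_mul]
    · rw [hij, hj]; exact e'
    · rw [hij, hadd, hj, show (2 : ZMod 3) = 1 + 1 by decide, hadd, ← mul_assoc, e', mul_assoc, e', mul_assoc]

/-- A member commuting with the swapped projection maps the second phase to a power of itself. -/
theorem Z_conj (hN : NoTr H) {g : (M9 F)ˣ} (hg : g ∈ H) (h0 : (g : M9 F) * P2 0 = (P2 0 : M9 F) * (g : M9 F)) :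
    ∃ i, i ≠ 0 ∧ (g : M9 F) * dg ω (dot (0, 1)) = dg ω (dot (0, i)) * (g : M9 F) := by
  obtain ⟨S, hS, eS, hSi, hSN⟩ := hH.exists_Sw
  obtain ⟨i, hi, h⟩ := hH.x_conj hN (g := S * g * S) (mul_mem (mul_mem hS hg) hS) (by
    simp only [Units.val_mul, eS]
    calc (Sw : M9 F) * (g : M9 F) * Sw * P1 0 = Sw * ((g : M9 F) * P2 0) * Sw := by simp only [mul_assoc, Sw_P1]
      _ = (Sw * P2 0) * (g : M9 F) * Sw := by rw [h0]; simp only [mul_assoc]
      _ = P1 0 * (Sw * (g : M9 F) * Sw) := by rw [Sw_P2]; simp only [mul_assoc])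
  refine ⟨i, hi, ?_⟩
  have h1 := congrArg (fun A => (Sw : M9 F) * A * Sw) (h 1)
  simp only [Units.val_mul, eS, mul_one, mul_assoc] at h1
  rw [show dg ω (dot (1, 0)) * (Sw : M9 F) = Sw * dg ω (dot (0, 1)) from (Sw_dot 0 1).symm] at h1
  simp only [← mul_assoc, Sw_mul_self, one_mul] at h1
  simp only [mul_assoc, Sw_mul_self, mul_one] at h1
  simp only [← mul_assoc] at h1
  rw [Sw_dot, mul_assoc (dg ω (dot (0, i))), Sw_mul_self, mul_one] at h1
  exact h1

end Amb

end CfsgLib.Classical.QutritMax
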