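import Cfsg.Agent.Lib.Classical.QutritMax.TransvRoots
import Cfsg.Agent.Lib.Perm.Transv.Image

/-!
# A transvection gives the whole special linear group

The transvections form an irreducible system, which cannot be symplectic in dimension nine.
-/

set_option autoImplicit false
set_option linter.unusedSectionVars false
set_option linter.unusedSimpArgs false

namespace CfsgLib.Classical.QutritMax

open Matrix Module

variable {F : Type*} [Field F] {ω : F}

theorem quadr_coeff : ∀ u v : Pt, u ≠ 0 → ∃ a b c : ZMod 3,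
    v = (2 * a * u.1 + b * u.2, b * u.1 + 2 * c * u.2) := by decide

theorem smul_pt_three : ∀ u : Pt, u + u + u = 0 := by decide

theorem toLin'_smul_map {X : Submodule F (Pt → F)} {c : F} (hc : c ≠ 0) (M : M9 F) :
    X.map (Matrix.toLin' (c • M)) = X.map (Matrix.toLin' M) := by
  rw [map_smul]; exact Submodule.map_smul _ _ _ hc

namespace Amb

variable {p : ℕ} {H : Subgroup (M9 F)ˣ} (hH : Amb ω p H)
include hH

/-- The minimal invariant subspace is everything. -/
theorem blk_top [Finite F] (hT : ∃ v φ, Rt H v φ ∧ v ≠ 0 ∧ φ ≠ 0) {X : Submodule F (Pt → F)}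
    (hX : Blk H X) : X = ⊤ := by
  classical
  by_contra hne
  obtain ⟨hdim, hcard⟩ := hH.blk_count hT hX hne
  let Fx : M9 F → Prop := fun M => ∀ Y, Blk H Y → Y.map (Matrix.toLin' M) = Y
  have hmul : ∀ M N, Fx M → Fx N → Fx (M * N) := fun M N hM hN Y hY => by
    rw [Matrix.toLin'_mul, Submodule.map_comp, hN Y hY, hM Y hY]
  have hsmul : ∀ (c : F) M, c ≠ 0 → Fx (c • M) → Fx M := fun c M hc h Y hY => by
    have := h Y hY
    rwa [toLin'_smul_map hc] at this
  have hsmul' : ∀ (c : F) M, c ≠ 0 → Fx M → Fx (c • M) := fun c M hc h Y hY => by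
    rw [toLin'_smul_map hc]; exact h Y hY
  -- a conjugate of a fixing element fixes
  have hconj : ∀ {g r s : M9 F}, In H g → g * r = s * g → Fx r → Fx s := by
    intro g r s hg e hr Y hY
    obtain ⟨g', e1, hg'⟩ := hH.exists_inverse hg
    have e2 : Y = (Y.map (Matrix.toLin' g')).map (Matrix.toLin' g) := by
      rw [← Submodule.map_comp, ← Matrix.toLin'_mul, e1, Matrix.toLin'_one, Submodule.map_id]
    rw [e2, ← Submodule.map_comp, ← Matrix.toLin'_mul, ← e, Matrix.toLin'_mul, Submodule.map_comp,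
      hr _ (hH.blk_map hg' hY)]
  -- an element of order three fixing one of the three fixes all
  have hall : ∀ {M : M9 F}, In H M → M * M * M = 1 → X.map (Matrix.toLin' M) = X → Fx M := by
    intro M hM h3 hfix Y hY
    by_contra hmove
    set f : Submodule F (Pt → F) → Submodule F (Pt → F) := fun Z => Z.map (Matrix.toLin' M) with hf
    have hf3 : ∀ Z, f (f (f Z)) = Z := fun Z => by
      simp only [hf, ← Submodule.map_comp, ← Matrix.toLin'_mul, ← mul_assoc, h3, Matrix.toLin'_one,
        Submodule.map_id]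
    have hfX : f X = X := hfix
    have hfY : f Y ≠ Y := hmove
    have hinj : ∀ {Z W}, f Z = f W → Z = W := fun {Z W} e => by rw [← hf3 Z, e, hf3]
    have h4 : ({X, Y, f Y, f (f Y)} : Set (Submodule F (Pt → F))) ⊆ {Z | Blk H Z} := by
      rintro Z (rfl | rfl | rfl | rfl)
      exacts [hX, hY, hH.blk_map hM hY, hH.blk_map hM (hH.blk_map hM hY)]
    have hn : ({X, Y, f Y, f (f Y)} : Set (Submodule F (Pt → F))).ncard = 4 := by
      rw [Set.ncard_insert_of_notMem, Set.ncard_insert_of_notMem, Set.ncard_pair]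
      · exact fun e => hfY (hinj e.symm)
      · rintro (e | e)
        · exact hfY e.symm
        · exact hfY ((congrArg f e).trans (hf3 Y))
      · rintro (e | e | e)
        · exact hfY (by rw [← e, hfX])
        · exact hfY (by rw [← hinj (hfX.trans e), hfX])
        · exact hfY (by rw [← hinj ((hfX.trans (hinj (hfX.trans e)))), hfX])
    have := Set.ncard_le_ncard h4 (Set.toFinite _)
    omega
  have hsh3 : ∀ u : Pt, (sh u : M9 F) * sh u * sh u = 1 := fun u => by
    rw [sh_mul, sh_mul, smul_pt_three, sh_zero]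
  -- some translation fixes the three
  obtain ⟨u0, hu0, hfu0⟩ : ∃ u : Pt, u ≠ 0 ∧ Fx (sh u) := by
    set a : M9 F := sh (1, 0) with ha
    set b : M9 F := sh (0, 1) with hb
    by_cases h1 : X.map (Matrix.toLin' a) = X
    · exact ⟨(1, 0), by decide, hall (hH.in_sh _) (hsh3 _) h1⟩
    set f : Submodule F (Pt → F) → Submodule F (Pt → F) := fun Z => Z.map (Matrix.toLin' a) with hf
    have hf3 : ∀ Z, f (f (f Z)) = Z := fun Z => by
      simp only [hf, ← Submodule.map_comp, ← Matrix.toLin'_mul, ← mul_assoc, ha, hsh3, Matrix.toLin'_one,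
        Submodule.map_id]
    have h1' : f X ≠ X := h1
    have h2' : f (f X) ≠ X := fun e => h1' ((congrArg f e).symm.trans (hf3 X))
    have h3' : f (f X) ≠ f X := fun e => h1' (by
      have := congrArg f (congrArg f e)
      rwa [hf3, hf3] at this)
    have heq : ({X, f X, f (f X)} : Set (Submodule F (Pt → F))) = {Z | Blk H Z} := by
      refine Set.eq_of_subset_of_ncard_le ?_ (le_of_eq ?_) (Set.toFinite _)
      · rintro Z (rfl | rfl | rfl)
        exacts [hX, hH.blk_map (hH.in_sh _) hX, hH.blk_map (hH.in_sh _) (hH.blk_map (hH.in_sh _) hX)]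
      · rw [hcard, Set.ncard_eq_three.2 ⟨X, f X, f (f X), h1'.symm, h2'.symm, h3'.symm, rfl⟩]
    have hbX : X.map (Matrix.toLin' b) ∈ ({X, f X, f (f X)} : Set (Submodule F (Pt → F))) := by
      rw [heq]; exact hH.blk_map (hH.in_sh _) hX
    rcases hbX with e | e | e
    · exact ⟨(0, 1), by decide, hall (hH.in_sh _) (hsh3 _) e⟩
    · refine ⟨(2, 1), by decide, hall (hH.in_sh _) (hsh3 _) ?_⟩
      rw [show ((2, 1) : Pt) = (1, 0) + (1, 0) + (0, 1) by decide, ← sh_mul, ← sh_mul, ← ha, ← hb,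
        Matrix.toLin'_mul, Submodule.map_comp, e, Matrix.toLin'_mul, Submodule.map_comp]
      exact hf3 X
    · refine ⟨(1, 1), by decide, hall (hH.in_sh _) (hsh3 _) ?_⟩
      rw [show ((1, 1) : Pt) = (1, 0) + (0, 1) by decide, ← sh_mul, ← ha, ← hb,
        Matrix.toLin'_mul, Submodule.map_comp, e]
      exact hf3 X
  -- the diagonal members
  have hdgv : ∀ v : Pt, Fx (dg ω (dot v)) := by
    intro v
    obtain ⟨c, d, e, hv⟩ := quadr_coeff u0 v hu0
    set f : Pt → ZMod 3 := fun w => c * (w.1 * w.1) + d * (w.1 * w.2) + e * (w.2 * w.2) with hf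
    have hq : Quadr f := ⟨0, 0, 0, c, d, e, funext fun w => by simp only [hf]; ring⟩
    have hfr : dg ω f * sh u0 = (sh u0 * (wp ω (f u0) • dg ω (dot v))) * dg ω f := by
      rw [dg_mul_sh, mul_assoc, Matrix.smul_mul, dg_mul hH.root]
      congr 1
      rw [dg, dg, ← Matrix.diagonal_smul]
      congr 1
      funext w
      simp only [Pi.smul_apply, Pi.add_apply, smul_eq_mul, ← wp_add hH.root, hf, hv, dot, Prod.fst_add,
        Prod.snd_add]
      congr 1
      ring
    have h1 := hconj (hH.in_dg hq) hfr hfu0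
    have h2 := hmul _ _ (hmul _ _ hfu0 hfu0) h1
    rw [← mul_assoc, hsh3, one_mul] at h2
    exact hsmul _ _ (wp_ne_zero hH.root _) h2
  have hsh01 : Fx (sh (0, 1)) := by
    have hX3 : In H (blk (X3 ω) : M9 F) := hH.in_of_nor (nor_blk_X3 hH.root) (by
      rw [det_blk, det_X3 hH.root, hH.root.pow_three])
    have e : (blk (X3 ω) : M9 F) * dg ω (dot (0, 1)) =
        (ω • (sh (0, 1) * sh (0, 1) * dg ω (dot (0, 1)))) * blk (X3 ω) := by
      rw [dg01, sh01, blk_mul, blk_mul, blk_mul, X3_D3 hH.root, Matrix.smul_mul, Matrix.smul_mul, blk_mul,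
        blk, Matrix.kronecker_smul]
    have h1 := hsmul _ _ hH.root.ne_zero (hconj hX3 e (hdgv _))
    have h2 := hmul _ _ h1 (hdgv (0, 2))
    rw [mul_assoc, dg_mul hH.root, show dot (0, 1) + dot (0, 2) = fun _ => (0 : ZMod 3) from
      funext fun w => by revert w; decide, dg_zero, mul_one] at h2
    have h3 := hmul _ _ h2 h2
    rwa [← mul_assoc, hsh3, one_mul] at h3
  have hsh11 : Fx (sh (1, 1)) := by
    let σ : Equiv.Perm Pt := ⟨fun w => (w.1 + w.2, w.2), fun w => (w.1 - w.2, w.2),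
      fun w => by simp, fun w => by simp⟩
    have hσ : ∀ a b, σ (a + b) = σ a + σ b := fun a b => by
      ext <;> simp [σ] <;> ring
    have hs : Equiv.Perm.sign σ = 1 := by decide
    have hin : In H (pm σ : M9 F) := hH.in_of_nor (nor_pm hH.root hσ) (by rw [det_pm, hs]; simp)
    exact hconj hin (pm_sh hσ (0, 1)) hsh01
  have hsh10 : Fx (sh (1, 0)) := by
    have := hmul _ _ (hmul _ _ hsh11 hsh01) hsh01
    rwa [sh_mul, sh_mul, show ((1, 1) + (0, 1) + (0, 1) : Pt) = (1, 0) by decide] at this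
  refine hne (hH.irreducible_std (fun e => ?_) (fun u x hx => ?_) fun v x hx => ?_)
  · rw [e, finrank_bot] at hdim; omega
  · have hu : Fx (sh u) := by
      have hone : Fx (sh 0 : M9 F) := fun Y _ => by rw [sh_zero, Matrix.toLin'_one, Submodule.map_id]
      have h2 : ∀ w : Pt, Fx (sh w) → Fx (sh (w + w)) := fun w hw => by rw [← sh_mul]; exact hmul _ _ hw hw
      have hcase : ∀ w : Pt, Fx (sh w) → ∀ k : ZMod 3, Fx (sh (k * w.1, k * w.2)) := by
        intro w hw k
        rcases zmod3_cases k with rfl | rfl | rfl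
        · simpa [Prod.mk_zero_zero] using hone
        · simpa using hw
        · rw [two_mul, two_mul]; exact h2 w hw
      have := hmul _ _ (hcase _ hsh10 u.1) (hcase _ hsh01 u.2)
      simpa [sh_mul] using this
    exact hu X hX ▸ Submodule.mem_map_of_mem hx
  · exact hdgv v X hX ▸ Submodule.mem_map_of_mem hx

omit hH in
theorem rt_smul_nat {v : Pt → F} {φ : Dual F (Pt → F)} (h : Rt H v φ) (n : ℕ) : Rt H ((n : F) • v) φ := by
  refine ⟨by rw [map_smul, h.1, smul_zero], ?_⟩
  have e : tvm ((n : F) • v) φ = tvm v φ ^ n := by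
    rw [tvm, tvm, one_add_pow_of_sq (by
      rw [vecMulVec_mul_vecMulVec, cf_dot, h.1]; simp), smul_vecMulVec]
  rw [e]
  exact h.2.pow n

/-- The system of transvections. -/
def sys [Finite F] (hT : ∃ v φ, Rt H v φ ∧ v ≠ 0 ∧ φ ≠ 0) : CfsgLib.Perm.Transv.Sys F (Pt → F) where
  Rt := Rt H
  apply_eq_zero h := h.1
  zero_right v := ⟨rfl, by
    rw [show tvm v (0 : Dual F (Pt → F)) = 1 from
      Matrix.ext_iff_mulVec.2 fun x => by simp [tvm_mulVec]]
    exact in_one H⟩
  smul_left {v φ} c h := by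
    obtain ⟨n, rfl⟩ := hH.cast_surj c
    exact rt_smul_nat h n
  smul_right {v φ} c h := by
    obtain ⟨n, rfl⟩ := hH.cast_surj c
    refine ⟨by rw [LinearMap.smul_apply, h.1, smul_zero], ?_⟩
    rw [show tvm v ((n : F) • φ) = tvm ((n : F) • v) φ from Matrix.ext_iff_mulVec.2 fun x => by
      simp [tvm_mulVec, smul_smul, mul_comm]]
    exact (rt_smul_nat h n).2
  add_left {v w φ} h h' := ⟨by rw [map_add, h.1, h'.1, add_zero], by
    rw [show tvm (v + w) φ = tvm v φ * tvm w φ from Matrix.ext_iff_mulVec.2 fun x => by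
      simp [← mulVec_mulVec, tvm_mulVec, h'.1, mulVec_add, mulVec_smul]; abel]
    exact h.2.mul h'.2⟩
  add_right {v φ ψ} h h' := ⟨by rw [LinearMap.add_apply, h.1, h'.1, add_zero], by
    rw [show tvm v (φ + ψ) = tvm v φ * tvm v ψ from Matrix.ext_iff_mulVec.2 fun x => by
      simp [← mulVec_mulVec, tvm_mulVec, h.1, add_smul]; abel]
    exact h.2.mul h'.2⟩
  conj {v w φ ψ} h h' := by
    have e : tvm v φ * tvm (-v) φ = 1 := Matrix.ext_iff_mulVec.2 fun x => by
      simp [← mulVec_mulVec, tvm_mulVec, h.1]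
    have hc := rt_conj (H := H) h.2 e h'
    rw [tvm_mulVec] at hc
    have e2 : ψ.comp (Matrix.toLin' (tvm (-v) φ)) = ψ - ψ v • φ := LinearMap.ext fun x => by
      simp [tvm_mulVec, mul_comm, sub_eq_add_neg]
    rwa [e2] at hc
  irr X hX := by
    classical
    by_contra hc
    push Not at hc
    obtain ⟨hne, v, φ, h, x, hx, hne2⟩ := hc
    obtain ⟨h1, hv⟩ := (not_or.1 (smul_eq_zero.not.1 hne2) : ¬ φ x = 0 ∧ ¬ v = 0)
    have hA : Act H X := ⟨hX, v, φ, h, hv, fun e => h1 (by rw [e]; rfl),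
      (X.smul_mem_iff h1).1 (hX v φ h x hx)⟩
    obtain ⟨Y, hY⟩ := hH.exists_blk hT
    have htop := hH.blk_top hT hY
    refine hne (Submodule.eq_top_of_finrank_eq (le_antisymm (Submodule.finrank_le _) ?_))
    have := hY.2 X hA
    rwa [htop, finrank_top] at this
  nondeg {v φ} _ hv _ := by
    obtain ⟨w, ψ, h, hne⟩ := hH.exists_move hT hv
    exact ⟨w, ψ, h, fun e => hne (by rw [e, smul_zero]), fun e => hne (by rw [e, zero_smul])⟩
  exists_root := hT

/-- A transvection gives everything. -/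
theorem all_of_not_noTr (hN : ¬ NoTr H) : ∀ g : (M9 F)ˣ, (g : M9 F).det = 1 → g ∈ H := by
  classical
  haveI := hH.finite
  simp only [NoTr, not_forall] at hN
  obtain ⟨v₀, w₀, hwv, hin, hne⟩ := hN
  have hφ : ∀ x, Matrix.toLin' (of fun (_ : Fin 1) j => w₀ j) x 0 = w₀ ⬝ᵥ x := fun x => rfl
  let φ₀ : Dual F (Pt → F) := (LinearMap.proj 0).comp (Matrix.toLin' (of fun (_ : Fin 1) j => w₀ j))
  have hcf : cf φ₀ = w₀ := funext fun j => by
    show Matrix.toLin' (of fun (_ : Fin 1) j => w₀ j) (Pi.single j 1) 0 = _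
    rw [hφ, dotProduct_single, mul_one]
  have hT : ∃ v φ, Rt H v φ ∧ v ≠ 0 ∧ φ ≠ 0 := by
    refine ⟨v₀, φ₀, ⟨by rw [← cf_dot, hcf, hwv], by rw [tvm, hcf]; exact hin⟩, fun e => hne ?_,
      fun e => hne ?_⟩
    · rw [e, zero_vecMulVec]
    · rw [← hcf, e, show cf (0 : Dual F (Pt → F)) = 0 from rfl, vecMulVec_zero]
  set S := hH.sys hT with hS
  rcases S.classify hH.two_ne with hall | ⟨B, hA, hB, -⟩
  · intro g hg
    let L : (M9 F)ˣ →* ((Pt → F) ≃ₗ[F] (Pt → F)) :=
      (LinearMap.GeneralLinearGroup.generalLinearEquiv F (Pt → F)).toMonoidHom.comp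
        (Units.map (Matrix.toLinAlgEquiv' : M9 F ≃ₐ[F] _).toAlgHom.toRingHom.toMonoidHom)
    have hL : ∀ (g : (M9 F)ˣ) x, L g x = (g : M9 F) *ᵥ x := fun g x => rfl
    have hinj : Function.Injective L := fun a b e => Units.ext (Matrix.ext_iff_mulVec.2 fun x => by
      rw [← hL, ← hL, e])
    have hmem : L g ∈ H.map L := by
      refine CfsgLib.Perm.Transv.mem_of_det_eq_one _ (fun v η hη => ?_) ?_
      · obtain ⟨t, ht, e⟩ : In H (tvm v η) := by
          by_cases hv : v = 0
          · rw [show tvm v η = 1 from Matrix.ext_iff_mulVec.2 fun x => by simp [tvm_mulVec, hv]]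
            exact in_one H
          · exact (hall v η hv hη).2
        refine ⟨t, ht, LinearEquiv.ext fun x => ?_⟩
        rw [hL, e, tvm_mulVec, LinearEquiv.transvection.apply]
      · show LinearMap.det (Matrix.toLin' (g : M9 F)) = 1
        rw [LinearMap.det_toLin', hg]
    obtain ⟨k, hk, e⟩ := hmem
    rwa [← hinj e]
  · exfalso
    set M := LinearMap.BilinForm.toMatrix (Pi.basisFun F Pt) B with hM
    have hskew : Mᵀ = -M := by
      ext i j
      rw [transpose_apply, Matrix.neg_apply, hM, LinearMap.BilinForm.toMatrix_apply,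
        LinearMap.BilinForm.toMatrix_apply]
      exact (hA.neg _ _).symm
    have hdet : M.det ≠ 0 := by
      rw [hM]; exact (LinearMap.BilinForm.nondegenerate_iff_det_ne_zero _).1 hB
    have h := Matrix.det_transpose M
    rw [hskew, Matrix.det_neg, Fintype.card_prod, ZMod.card] at h
    refine hdet ((mul_eq_zero.1 ?_).resolve_left hH.two_ne)
    linear_combination -h

end Amb

theorem exists_not_nor (h : Root ω) : ∃ g : (M9 F)ˣ, (g : M9 F).det = 1 ∧ ¬ Nor ω (g : M9 F) := by
  classical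
  set T : M9 F := Matrix.transvection ((0, 0) : Pt) (1, 0) 1 with hT
  have hd : T.det = 1 := Matrix.det_transvection_of_ne _ _ (by decide) _
  refine ⟨Matrix.GeneralLinearGroup.mkOfDetNeZero T (by rw [hd]; exact one_ne_zero), hd, fun hN => ?_⟩
  obtain ⟨_, ⟨k, u, v, rfl⟩, e⟩ := hN _ (inR_dg (1, 0))
  have e' : T * dg ω (dot (1, 0)) = Rm ω k u v * T := e
  have h1 := congrFun (congrFun e' (0, 0)) (0, 0)
  have h2 := congrFun (congrFun e' (0, 0)) (1, 0)
  rw [hT, Matrix.transvection_mul_apply_same, Matrix.mul_transvection_apply_of_ne _ _ _ _ (by decide)] at h1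
  rw [hT, Matrix.transvection_mul_apply_same, Matrix.mul_transvection_apply_same] at h2
  simp [Rm, dg, sh_apply, Matrix.diagonal_apply, dot, wp_zero, wp_one] at h1 h2
  by_cases hu : ((0 : ZMod 3), (0 : ZMod 3)) = u
  · subst hu
    simp at h1 h2
    rw [← h1] at h2
    exact h.ne_one (by linear_combination h2)
  · rw [if_neg (fun e : u = 0 => hu (by rw [e]; rfl))] at h1
    exact one_ne_zero h1

end CfsgLib.Classical.QutritMax
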