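import Cfsg.Agent.Lib.Classical.QutritMax.PairPlane
import Cfsg.Agent.Lib.Classical.QutritMax.Elems

/-!
# The transvections of a group above the normaliser of the standard group

The subspaces invariant under all transvections of the group: the minimal ones form a decomposition
permuted by the normaliser, hence there is only one.
-/

set_option autoImplicit false
set_option linter.unusedSectionVars false
set_option linter.unusedSimpArgs false

namespace CfsgLib.Classical.QutritMax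

open Matrix Module

variable {F : Type*} [Field F] {ω : F}

/-- The coefficients of a functional. -/
def cf (φ : Dual F (Pt → F)) : Pt → F := fun j => φ (Pi.single j 1)

theorem cf_dot (φ : Dual F (Pt → F)) (x : Pt → F) : cf φ ⬝ᵥ x = φ x := by
  conv_rhs => rw [pi_eq_sum_univ' x, map_sum]
  simp [dotProduct, cf, mul_comm]

/-- The transvection with centre `v` and functional `φ`. -/
def tvm (v : Pt → F) (φ : Dual F (Pt → F)) : M9 F := 1 + vecMulVec v (cf φ)

theorem tvm_mulVec (v : Pt → F) (φ : Dual F (Pt → F)) (x : Pt → F) : tvm v φ *ᵥ x = x + φ x • v := by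
  rw [tvm, add_mulVec, one_mulVec, vecMulVec_mulVec, cf_dot, op_smul_eq_smul]

/-- The roots of the group. -/
def Rt (H : Subgroup (M9 F)ˣ) (v : Pt → F) (φ : Dual F (Pt → F)) : Prop := φ v = 0 ∧ In H (tvm v φ)

/-- Invariance under all transvections of the group. -/
def RInv (H : Subgroup (M9 F)ˣ) (X : Submodule F (Pt → F)) : Prop :=
  ∀ v φ, Rt H v φ → ∀ x ∈ X, φ x • v ∈ X

/-- An invariant subspace containing the centre of a transvection. -/
def Act (H : Subgroup (M9 F)ˣ) (X : Submodule F (Pt → F)) : Prop :=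
  RInv H X ∧ ∃ v φ, Rt H v φ ∧ v ≠ 0 ∧ φ ≠ 0 ∧ v ∈ X

/-- The smallest of them. -/
def Blk (H : Subgroup (M9 F)ˣ) (X : Submodule F (Pt → F)) : Prop :=
  Act H X ∧ ∀ Y, Act H Y → finrank F X ≤ finrank F Y

theorem rInv_inf {H : Subgroup (M9 F)ˣ} {X Y : Submodule F (Pt → F)} (hX : RInv H X) (hY : RInv H Y) :
    RInv H (X ⊓ Y) := fun v φ h x hx => ⟨hX v φ h x hx.1, hY v φ h x hx.2⟩

theorem Blk.eq_of_centre {H : Subgroup (M9 F)ˣ} {X Y : Submodule F (Pt → F)} (hX : Blk H X) (hY : Blk H Y)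
    {v : Pt → F} {φ : Dual F (Pt → F)} (h : Rt H v φ) (hv : v ≠ 0) (hφ : φ ≠ 0) (h1 : v ∈ X) (h2 : v ∈ Y) :
    X = Y := by
  have hA : Act H (X ⊓ Y) := ⟨rInv_inf hX.1.1 hY.1.1, v, φ, h, hv, hφ, ⟨h1, h2⟩⟩
  have e1 := Submodule.eq_of_le_of_finrank_le (inf_le_left : X ⊓ Y ≤ X) (hX.2 _ hA)
  have e2 := Submodule.eq_of_le_of_finrank_le (inf_le_right : X ⊓ Y ≤ Y) (hY.2 _ hA)
  exact e1.symm.trans e2

namespace Amb

variable {p : ℕ} {H : Subgroup (M9 F)ˣ} (hH : Amb ω p H)
include hH

theorem in_sh (u : Pt) : In H (sh u : M9 F) := hH.in_of_nor (nor_sh hH.root u) (det_sh u)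

theorem in_dg {f : Pt → ZMod 3} (hf : Quadr f) : In H (dg ω f) :=
  hH.in_of_nor (nor_dg hH.root hf) (det_dg_quadr hH.root hf)

omit hH in
theorem quadr_dot (a : Pt) : Quadr (dot a) :=
  ⟨0, a.1, a.2, 0, 0, 0, funext fun w => by simp [dot]⟩

/-- The standard group is irreducible. -/
theorem irreducible_std {W : Submodule F (Pt → F)} (h0 : W ≠ ⊥)
    (hsh : ∀ u : Pt, ∀ x ∈ W, (sh u : M9 F) *ᵥ x ∈ W)
    (hdg : ∀ a : Pt, ∀ x ∈ W, dg ω (dot a) *ᵥ x ∈ W) : W = ⊤ := by
  classical
  obtain ⟨x, hx, hx0⟩ := Submodule.exists_mem_ne_zero_of_ne_bot h0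
  obtain ⟨j, hj⟩ : ∃ j, x j ≠ 0 := by
    by_contra hc
    push Not at hc
    exact hx0 (funext hc)
  -- the unit vector at `j`
  have hproj : ∀ (a : Pt) (y : Pt → F), y ∈ W →
      (fun i => y i + wp ω (dot a i - dot a j) * y i + wp ω (dot a i - dot a j) * (wp ω (dot a i - dot a j) * y i))
        ∈ W := by
    intro a y hy
    set M : M9 F := dg ω (fun i => dot a i - dot a j) with hM
    have hstep : ∀ z ∈ W, M *ᵥ z ∈ W := by
      intro z hz
      convert W.smul_mem (wp ω (-dot a j)) (hdg a z hz) using 1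
      funext i
      simp only [hM, dg, mulVec_diagonal, Pi.smul_apply, smul_eq_mul, sub_eq_add_neg, wp_add hH.root]
      ring
    have h1 := hstep y hy
    have h2 := hstep _ h1
    convert W.add_mem (W.add_mem hy h1) h2 using 1
    funext i
    simp only [hM, dg, Pi.add_apply, mulVec_diagonal]
  have hwp : ∀ k : ZMod 3, 1 + wp ω k + wp ω k * wp ω k = if k = 0 then (3 : F) else 0 := by
    intro k
    rcases zmod3_cases k with rfl | rfl | rfl
    · simp [wp_zero]; norm_num
    · rw [if_neg (by decide), wp_one]; linear_combination hH.root.eq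
    · rw [if_neg (by decide), wp_two]; linear_combination (1 - ω + ω * ω) * hH.root.eq
  have h1 := hproj (1, 0) x hx
  have h2 := hproj (0, 1) _ h1
  have hej : (Pi.single j (1 : F) : Pt → F) ∈ W := by
    have h9 : (3 * 3 * x j) ≠ 0 := mul_ne_zero (mul_ne_zero hH.root.three hH.root.three) hj
    refine (W.smul_mem_iff h9).1 ?_
    convert h2 using 1
    funext i
    have e : ∀ (c k : F), k + c * k + c * (c * k) = (1 + c + c * c) * k := fun c k => by ring
    simp only [e, hwp, Pi.smul_apply, smul_eq_mul]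
    obtain ⟨i1, i2⟩ := i
    obtain ⟨j1, j2⟩ := j
    by_cases c1 : i1 = j1
    · by_cases c2 : i2 = j2
      · subst c1; subst c2; simp [dot]; ring
      · rw [Pi.single_eq_of_ne (by simp [c2]), mul_zero]
        simp [dot, sub_eq_zero, c2]
    · rw [Pi.single_eq_of_ne (by simp [c1]), mul_zero]
      simp [dot, sub_eq_zero, c1]
  rw [eq_top_iff]
  intro y _
  rw [pi_eq_sum_univ' y]
  refine Submodule.sum_mem _ fun i _ => W.smul_mem _ ?_
  have := hsh (i - j) _ hej
  convert this using 1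
  funext k
  rw [Matrix.mulVec_single_one, Matrix.col_apply, sh_apply, add_sub_cancel]
  by_cases e : k = i
  · subst e; simp
  · simp [e]

/-- The group is irreducible. -/
theorem irreducible {W : Submodule F (Pt → F)} (h0 : W ≠ ⊥)
    (hW : ∀ M : M9 F, In H M → ∀ x ∈ W, M *ᵥ x ∈ W) : W = ⊤ :=
  hH.irreducible_std h0 (fun u => hW _ (hH.in_sh u)) fun a => hW _ (hH.in_dg (quadr_dot a))

omit hH in
/-- A conjugate of a root is a root. -/
theorem rt_conj {M M' : M9 F} (hM : In H M) (e : M * M' = 1) {v : Pt → F} {φ : Dual F (Pt → F)}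
    (h : Rt H v φ) : Rt H (M *ᵥ v) (φ.comp (Matrix.toLin' M')) := by
  have e' : M' * M = 1 := mul_eq_one_comm.1 e
  refine ⟨by rw [LinearMap.comp_apply, Matrix.toLin'_apply, mulVec_mulVec, e', one_mulVec, h.1], ?_⟩
  suffices tvm (M *ᵥ v) (φ.comp (Matrix.toLin' M')) = M * tvm v φ * M' by
    rw [this]; exact (hM.mul h.2).mul (hM.inv e)
  refine Matrix.ext_iff_mulVec.2 fun x => ?_
  rw [tvm_mulVec, ← mulVec_mulVec, ← mulVec_mulVec, tvm_mulVec, mulVec_add, mulVec_smul, mulVec_mulVec, e,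
    one_mulVec]
  rfl

theorem exists_inverse {M : M9 F} (hM : In H M) : ∃ M' : M9 F, M * M' = 1 ∧ In H M' := by
  obtain ⟨g, hg, rfl⟩ := hM
  exact ⟨((g⁻¹ : (M9 F)ˣ) : M9 F), g.mul_inv, ⟨g⁻¹, inv_mem hg, rfl⟩⟩

/-- Images of invariant subspaces are invariant. -/
theorem act_map {M : M9 F} (hM : In H M) {X : Submodule F (Pt → F)} (hX : Act H X) :
    Act H (X.map (Matrix.toLin' M)) := by
  obtain ⟨M', e, hM'⟩ := hH.exists_inverse hM
  have e' : M' * M = 1 := mul_eq_one_comm.1 e
  obtain ⟨hI, v, φ, h, hv, hφ, hvX⟩ := hX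
  refine ⟨fun w ψ hw => ?_, M *ᵥ v, _, rt_conj hM e h, fun h0 => hv ?_, fun h0 => hφ ?_,
    ⟨v, hvX, Matrix.toLin'_apply M v⟩⟩
  · rintro _ ⟨y, hy, rfl⟩
    have h1 := hI _ _ (rt_conj hM' e' hw) y hy
    refine ⟨_, h1, ?_⟩
    rw [map_smul, LinearMap.comp_apply, Matrix.toLin'_apply, Matrix.toLin'_apply, mulVec_mulVec, e, one_mulVec]
  · have := congrArg (M' *ᵥ ·) h0
    simpa [mulVec_mulVec, e'] using this
  · refine LinearMap.ext fun x => ?_
    have := LinearMap.congr_fun h0 (M *ᵥ x)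
    simpa [mulVec_mulVec, e'] using this

theorem finrank_map_in {M : M9 F} (hM : In H M) (X : Submodule F (Pt → F)) :
    finrank F (X.map (Matrix.toLin' M)) = finrank F X := by
  obtain ⟨M', e, -⟩ := hH.exists_inverse hM
  refine (Submodule.equivMapOfInjective _ (fun a b hab => ?_) X).symm.finrank_eq
  have := congrArg (M' *ᵥ ·) hab
  simpa [mulVec_mulVec, mul_eq_one_comm.1 e] using this

theorem blk_map {M : M9 F} (hM : In H M) {X : Submodule F (Pt → F)} (hX : Blk H X) :
    Blk H (X.map (Matrix.toLin' M)) :=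
  ⟨hH.act_map hM hX.1, fun Y hY => by rw [hH.finrank_map_in hM]; exact hX.2 Y hY⟩

variable (hT : ∃ v φ, Rt H v φ ∧ v ≠ 0 ∧ φ ≠ 0)
include hT

/-- Nothing is fixed by all transvections. -/
theorem exists_move {x : Pt → F} (hx : x ≠ 0) : ∃ v φ, Rt H v φ ∧ φ x • v ≠ 0 := by
  by_contra hc
  push Not at hc
  let W : Submodule F (Pt → F) :=
    { carrier := {y | ∀ v φ, Rt H v φ → φ y • v = 0}
      add_mem' := fun ha hb v φ h => by rw [map_add, add_smul, ha v φ h, hb v φ h, add_zero]
      zero_mem' := fun v φ _ => by rw [map_zero, zero_smul]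
      smul_mem' := fun c a ha v φ h => by rw [map_smul, smul_eq_mul, mul_smul, ha v φ h, smul_zero] }
  have hW : W = ⊤ := hH.irreducible (fun e => hx ((Submodule.eq_bot_iff W).1 e x hc)) fun M hM y hy v φ h => by
    obtain ⟨M', e, hM'⟩ := hH.exists_inverse hM
    have h1 := hy _ _ (rt_conj hM' (mul_eq_one_comm.1 e) h)
    rw [LinearMap.comp_apply, Matrix.toLin'_apply] at h1
    have := congrArg (M *ᵥ ·) h1
    simpa [mulVec_smul, mulVec_mulVec, e] using this
  obtain ⟨v, φ, h, hv, hφ⟩ := hT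
  refine hφ (LinearMap.ext fun y => ?_)
  have := (hW ▸ Submodule.mem_top : y ∈ W) v φ h
  simpa [hv] using this

theorem exists_blk : ∃ X, Blk H X := by
  classical
  obtain ⟨v, φ, h, hv, hφ⟩ := hT
  have hne : ∃ n, ∃ X, Act H X ∧ finrank F X = n :=
    ⟨_, ⊤, ⟨fun _ _ _ _ _ => trivial, v, φ, h, hv, hφ, trivial⟩, rfl⟩
  obtain ⟨X, hX, hn⟩ := Nat.find_spec hne
  exact ⟨X, hX, fun Y hY => hn ▸ Nat.find_min' hne ⟨Y, hY, rfl⟩⟩

theorem two_le_blk {X : Submodule F (Pt → F)} (hX : Blk H X) : 2 ≤ finrank F X := by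
  obtain ⟨hI, v, φ, h, hv, -, hvX⟩ := hX.1
  obtain ⟨w, ψ, hw, hne⟩ := hH.exists_move hT hv
  by_contra hlt
  have h1 : finrank F (Submodule.span F {v}) = 1 := finrank_span_singleton hv
  have hle : Submodule.span F {v} ≤ X := by simpa using hvX
  have e := Submodule.eq_of_le_of_finrank_le hle (by omega)
  have hwX : ψ v • w ∈ Submodule.span F {v} := e ▸ hI w ψ hw v hvX
  obtain ⟨c, hc⟩ := Submodule.mem_span_singleton.1 hwX
  have := congrArg ψ hc
  rw [map_smul, map_smul, hw.1, smul_zero, smul_eq_mul, mul_eq_zero] at this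
  rcases this with rfl | h0
  · exact hne (by rw [← hc, zero_smul])
  · exact hne (by rw [h0, zero_smul])

/-- Distinct minimal ones are independent. -/
theorem blk_disjoint {X : Submodule F (Pt → F)} (hX : Blk H X) (S : Finset (Submodule F (Pt → F)))
    (hS : ∀ Y ∈ S, Blk H Y) (hXS : X ∉ S) : X ⊓ S.sup id = ⊥ := by
  rw [eq_bot_iff]
  rintro x ⟨hxX, hxS⟩
  rw [Submodule.mem_bot]
  by_contra hx
  obtain ⟨v, φ, h, hne⟩ := hH.exists_move hT hx
  obtain ⟨hne1, hv⟩ := (not_or.1 (smul_eq_zero.not.1 hne) : ¬ φ x = 0 ∧ ¬ v = 0)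
  have hvX : v ∈ X := (X.smul_mem_iff hne1).1 (hX.1.1 v φ h x hxX)
  have hker : S.sup id ≤ LinearMap.ker φ := Finset.sup_le fun Y hY y hy => by
    rw [LinearMap.mem_ker]
    by_contra hy'
    refine hXS ?_
    rw [hX.eq_of_centre (hS Y hY) h hv (fun e => hne1 (by rw [e]; rfl)) hvX
      ((Y.smul_mem_iff hy').1 ((hS Y hY).1.1 v φ h y hy))]
    exact hY
  exact hne1 (LinearMap.mem_ker.1 (hker hxS))

theorem finrank_sup_blk {d : ℕ} (S : Finset (Submodule F (Pt → F)))
    (hS : ∀ Y ∈ S, Blk H Y ∧ finrank F Y = d) : finrank F ↥(S.sup id) = S.card * d := by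
  classical
  induction S using Finset.induction_on with
  | empty => simp
  | insert X S hXS ih =>
    have h1 := ih fun Y hY => hS Y (Finset.mem_insert_of_mem hY)
    have h2 := Submodule.finrank_sup_add_finrank_inf_eq X (S.sup id)
    rw [hH.blk_disjoint hT (hS X (Finset.mem_insert_self _ _)).1 S
      (fun Y hY => (hS Y (Finset.mem_insert_of_mem hY)).1) hXS, finrank_bot, add_zero,
      (hS X (Finset.mem_insert_self _ _)).2, h1] at h2
    rw [Finset.sup_insert, id_eq, Finset.card_insert_of_notMem hXS, h2]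
    ring

/-- There are one or three of them, all of the same dimension. -/
theorem blk_count [Finite F] {X : Submodule F (Pt → F)} (hX : Blk H X) (hne : X ≠ ⊤) :
    finrank F X = 3 ∧ {Y | Blk H Y}.ncard = 3 := by
  classical
  haveI : Finite (Submodule F (Pt → F)) := Finite.of_injective _ SetLike.coe_injective
  set B := (Set.toFinite {Y | Blk H Y}).toFinset with hB
  have hmem : ∀ Y, Y ∈ B ↔ Blk H Y := fun Y => by simp [hB]
  have hd : ∀ Y ∈ B, Blk H Y ∧ finrank F Y = finrank F X := fun Y hY =>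
    ⟨(hmem Y).1 hY, le_antisymm (((hmem Y).1 hY).2 X hX.1) (hX.2 Y ((hmem Y).1 hY).1)⟩
  have hXle : X ≤ B.sup id := Finset.le_sup (f := id) ((hmem X).2 hX)
  have hX0 : X ≠ ⊥ := fun e => by
    have := hH.two_le_blk hT hX
    rw [e, finrank_bot] at this
    omega
  have htop : B.sup id = ⊤ := hH.irreducible (fun e => hX0 (le_bot_iff.1 (e ▸ hXle))) fun M hM x hx => by
    have hle : B.sup id ≤ (B.sup id).comap (Matrix.toLin' M) := Finset.sup_le fun Y hY y hy => by
      exact Finset.le_sup (f := id) ((hmem _).2 (hH.blk_map hM ((hmem Y).1 hY)))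
        (Submodule.mem_map_of_mem hy)
    exact hle hx
  have h9 := hH.finrank_sup_blk hT B hd
  rw [htop, finrank_top, Module.finrank_pi, Fintype.card_prod, ZMod.card] at h9
  have h2 := hH.two_le_blk hT hX
  have hlt : finrank F X < 9 := by
    have := Submodule.finrank_lt hne
    rwa [Module.finrank_pi, Fintype.card_prod, ZMod.card] at this
  have hcard : {Y | Blk H Y}.ncard = B.card := Set.ncard_eq_toFinset_card _ _
  rw [hcard]
  generalize B.card = k at h9
  generalize finrank F X = d at h9 h2 hlt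
  have hk : k ≤ 4 := by nlinarith
  interval_cases k <;> omega

end Amb

end CfsgLib.Classical.QutritMax
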