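import Cfsg.Agent.Lib.Classical.QutritMax.Pair
import Cfsg.Agent.Lib.Classical.QutritMax.Moments

/-!
# The four possibilities inside the group, and one-sided elements
-/

set_option autoImplicit false
set_option linter.unusedSectionVars false
set_option linter.unusedSimpArgs false

namespace CfsgLib.Classical.QutritMax

open Matrix
open scoped commutatorElement

variable {F : Type*} [Field F] {ω : F} {p : ℕ} {H : Subgroup (M9 F)ˣ}

theorem Root.cube (h : Root ω) : Cube ω := ⟨h.eq, h.three⟩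

/-- The derived group of the group generated by two units. -/
def DGrp (a b : (M9 F)ˣ) : Subgroup (M9 F)ˣ :=
  ⁅Subgroup.closure ({a, b} : Set (M9 F)ˣ), Subgroup.closure ({a, b} : Set (M9 F)ˣ)⁆

theorem DGrp.le {a b : (M9 F)ˣ} {K : Subgroup (M9 F)ˣ} (ha : a ∈ K) (hb : b ∈ K) : DGrp a b ≤ K :=
  (Subgroup.commutator_mono ((Subgroup.closure_le K).2 (Set.insert_subset ha (Set.singleton_subset_iff.2 hb)))
    ((Subgroup.closure_le K).2 (Set.insert_subset ha (Set.singleton_subset_iff.2 hb)))).trans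
      (Subgroup.commutator_le_self K)

theorem DGrp.comm {a b z : (M9 F)ˣ} {A : M9 F} (hz : z ∈ DGrp a b) (ha : (a : M9 F) * A = A * a)
    (hb : (b : M9 F) * A = A * b) : (z : M9 F) * A = A * z := by
  let K : Subgroup (M9 F)ˣ :=
    { carrier := {g | (g : M9 F) * A = A * g}
      one_mem' := by simp
      mul_mem' := fun {g k} hg hk => by
        show (↑(g * k) : M9 F) * A = A * ↑(g * k)
        rw [Units.val_mul, mul_assoc, hk, ← mul_assoc, hg, mul_assoc]
      inv_mem' := fun {g} hg => (Commute.units_inv_left hg : _) }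
  exact DGrp.le (K := K) ha hb hz

theorem DGrp.fix {a b z : (M9 F)ˣ} {v : Pt → F} {α β : F} (hz : z ∈ DGrp a b)
    (ha : (a : M9 F) *ᵥ v = α • v) (hb : (b : M9 F) *ᵥ v = β • v) : (z : M9 F) *ᵥ v = v := by
  by_cases hv : v = 0
  · rw [hv, mulVec_zero]
  let K : Subgroup (M9 F)ˣ :=
    { carrier := {g | ∃ c : Fˣ, (g : M9 F) *ᵥ v = (c : F) • v}
      one_mem' := ⟨1, by simp⟩
      mul_mem' := by
        rintro g k ⟨c, hc⟩ ⟨d, hd⟩
        exact ⟨c * d, by rw [Units.val_mul, ← mulVec_mulVec, hd, mulVec_smul, hc, smul_smul, Units.val_mul, mul_comm]⟩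
      inv_mem' := by
        rintro g ⟨c, hc⟩
        refine ⟨c⁻¹, ?_⟩
        have e := congrArg (fun w => (c⁻¹ : Fˣ).val • (((g⁻¹ : (M9 F)ˣ) : M9 F) *ᵥ w)) hc
        simp only [mulVec_mulVec, Units.inv_mul, one_mulVec, mulVec_smul, smul_smul, Units.inv_mul, one_smul] at e
        exact e.symm }
  have mem : ∀ (g : (M9 F)ˣ) (c : F), (g : M9 F) *ᵥ v = c • v → g ∈ K := fun g c e => by
    refine ⟨Units.mk0 c fun hc => hv ?_, e⟩
    have := congrArg (((g⁻¹ : (M9 F)ˣ) : M9 F) *ᵥ ·) e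
    simp only [mulVec_mulVec, Units.inv_mul, one_mulVec, hc, zero_smul, mulVec_zero] at this
    exact this
  have hKK : ∀ w ∈ ⁅K, K⁆, (w : M9 F) *ᵥ v = v := by
    let S : Subgroup (M9 F)ˣ :=
      { carrier := {g | (g : M9 F) *ᵥ v = v}
        one_mem' := by simp
        mul_mem' := fun {g k} hg hk => by
          show (↑(g * k) : M9 F) *ᵥ v = v
          rw [Units.val_mul, ← mulVec_mulVec, hk, hg]
        inv_mem' := fun {g} hg => by
          show ((g⁻¹ : (M9 F)ˣ) : M9 F) *ᵥ v = v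
          have hg' : (g : M9 F) *ᵥ v = v := hg
          conv_lhs => rw [← hg']
          rw [mulVec_mulVec, Units.inv_mul, one_mulVec] }
    have hle : ⁅K, K⁆ ≤ S := by
      rw [Subgroup.commutator_le]
      rintro g ⟨c, hc⟩ k ⟨d, hd⟩
      show ((⁅g, k⁆ : (M9 F)ˣ) : M9 F) *ᵥ v = v
      have hi : ∀ (x : (M9 F)ˣ) (e : Fˣ), (x : M9 F) *ᵥ v = (e : F) • v →
          ((x⁻¹ : (M9 F)ˣ) : M9 F) *ᵥ v = ((e⁻¹ : Fˣ) : F) • v := fun x e he => by
        have e' := congrArg (fun w => (e⁻¹ : Fˣ).val • (((x⁻¹ : (M9 F)ˣ) : M9 F) *ᵥ w)) he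
        simp only [mulVec_mulVec, Units.inv_mul, one_mulVec, mulVec_smul, smul_smul, Units.inv_mul, one_smul] at e'
        exact e'.symm
      simp only [commutatorElement_def, Units.val_mul, ← mulVec_mulVec, hi k d hd, mulVec_smul, hi g c hc, hd, hc,
        smul_smul]
      rw [show (d⁻¹ : Fˣ).val * ((c⁻¹ : Fˣ).val * ((d : F) * (c : F))) = 1 by
        rw [mul_comm (d : F) (c : F), ← mul_assoc ((c⁻¹ : Fˣ).val), Units.inv_mul, one_mul, Units.inv_mul],
        one_smul]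
    exact fun w hw => hle hw
  refine hKK z (Subgroup.commutator_mono ?_ ?_ hz) <;>
    exact (Subgroup.closure_le K).2 (Set.insert_subset (mem a α ha) (Set.singleton_subset_iff.2 (mem b β hb)))

theorem DGrp.det {π : Plane F} {a b : (M9 F)ˣ} (ha : a ∈ π.sub) (hb : b ∈ π.sub) {z : (M9 F)ˣ}
    (hz : z ∈ DGrp a b) {M : Matrix (Fin 2) (Fin 2) F} (e : (z : M9 F) * π.L = π.L * M) : M.det = 1 := by
  have hzs : z ∈ π.sub := DGrp.le ha hb hz
  let φ : π.sub →* Fˣ := GeneralLinearGroup.det.comp π.rho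
  have hle : DGrp a b ≤ φ.ker.map π.sub.subtype := by
    have h1 : DGrp a b ≤ ⁅π.sub, π.sub⁆ := Subgroup.commutator_mono
      ((Subgroup.closure_le _).2 (Set.insert_subset ha (Set.singleton_subset_iff.2 hb)))
      ((Subgroup.closure_le _).2 (Set.insert_subset ha (Set.singleton_subset_iff.2 hb)))
    refine h1.trans ?_
    rw [Subgroup.commutator_le]
    intro g hg k hk
    refine ⟨⁅(⟨g, hg⟩ : π.sub), (⟨k, hk⟩ : π.sub)⁆, ?_, rfl⟩
    rw [SetLike.mem_coe, MonoidHom.mem_ker, map_commutatorElement, commutatorElement_eq_one_iff_mul_comm]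
    exact mul_comm _ _
  obtain ⟨w, hw, rfl⟩ := hle hz
  have h := congrArg Units.val (MonoidHom.mem_ker.1 hw)
  rw [← π.rho_eq w e]
  exact h

namespace Amb

variable (hH : Amb ω p H)
include hH

/-- The four possibilities for a member and a conjugate of it. -/
theorem conj_cases {T g : (M9 F)ˣ} {P : M9 F} (hP : P * P = P) (hT : (T : M9 F) = tU ω P) (hTH : T ∈ H) (hg : g ∈ H) :
    P * ((g : M9 F) * P * ((g⁻¹ : (M9 F)ˣ) : M9 F)) = ((g : M9 F) * P * ((g⁻¹ : (M9 F)ˣ) : M9 F)) * P ∨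
      (∃ z ∈ DGrp T (g * T * g⁻¹), z ∈ H ∧ z ≠ 1 ∧ (z : M9 F) * z = 1 ∧ (z : M9 F) * P = P * z ∧
        (z : M9 F) * ((g : M9 F) * P * ((g⁻¹ : (M9 F)ˣ) : M9 F)) =
          ((g : M9 F) * P * ((g⁻¹ : (M9 F)ˣ) : M9 F)) * z) ∨
      (∃ u ∈ DGrp T (g * T * g⁻¹), u ∈ H ∧ u ≠ 1 ∧ (u : M9 F) ^ p = 1 ∧ (u : M9 F) * P = P * u) ∨
      ∃ u ∈ DGrp T (g * T * g⁻¹), u ∈ H ∧ u ≠ 1 ∧ ((u : M9 F) - 1) * ((u : M9 F) - 1) = 0 ∧
        ((P * ((u : M9 F) - 1) = (u : M9 F) - 1 ∧ ((u : M9 F) - 1) * P = 0) ∨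
          (P * ((u : M9 F) - 1) = 0 ∧ ((u : M9 F) - 1) * P = (u : M9 F) - 1)) := by
  haveI := hH.char
  haveI : Fact p.Prime := ⟨hH.prime⟩
  haveI := hH.finite
  haveI : Finite (M9 F)ˣ := Finite.of_injective _ Units.val_injective
  set Q := (g : M9 F) * P * ((g⁻¹ : (M9 F)ˣ) : M9 F) with hQ
  have hQQ : Q * Q = Q := by
    rw [hQ]; simp only [mul_assoc]; rw [← mul_assoc ((g⁻¹ : (M9 F)ˣ) : M9 F) (g : M9 F), Units.inv_mul, one_mul,
      ← mul_assoc P P, hP]
  have hTQ : ((g * T * g⁻¹ : (M9 F)ˣ) : M9 F) = tU ω Q := by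
    rw [Units.val_mul, Units.val_mul, hT, tU, tU, hQ, mul_add, add_mul, mul_one, Units.mul_inv, mul_smul_comm,
      smul_mul_assoc]
  obtain ⟨m, hm⟩ := hH.cast_surj ω
  have hpr : Pr ω P Q T (g * T * g⁻¹) := ⟨hH.root.cube, hP, hQQ, hT, hTQ⟩
  have hle : DGrp T (g * T * g⁻¹) ≤ H := DGrp.le hTH (mul_mem (mul_mem hg hTH) (inv_mem hg))
  rcases hpr.cases (p := p) (by have := hH.seven; omega) hm with h | ⟨z, hz, h1, h2, h3, h4⟩ | ⟨u, hu, h1, h2, h3⟩ |
    ⟨u, hu, h1, h2, h3⟩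
  · exact Or.inl h
  · exact Or.inr (Or.inl ⟨z, hz, hle hz, h1, by rw [← Units.val_mul, h2, Units.val_one], h3.eq, h4.eq⟩)
  · exact Or.inr (Or.inr (Or.inl ⟨u, hu, hle hu, h1, by rw [← Units.val_pow_eq_pow_val, h2, Units.val_one], h3.eq⟩))
  · exact Or.inr (Or.inr (Or.inr ⟨u, hu, hle hu, h1, h2, h3⟩))

/-- Members `1 + M` with `M` on pairs that are separated by three characters are trivial. -/
theorem no_supported_three (hN : NoTr H) {S : Pt → Pt → Prop} {f₁ f₂ f₃ : Pt → ZMod 3} (hf₁ : Quadr f₁)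
    (hf₂ : Quadr f₂) (hf₃ : Quadr f₃)
    (hsep : ∀ s t s' t', S s t → S s' t' → f₁ s - f₁ t = f₁ s' - f₁ t' → f₂ s - f₂ t = f₂ s' - f₂ t' →
      f₃ s - f₃ t = f₃ s' - f₃ t' → s = s' ∧ t = t')
    (hST : ∀ s t s' t', S s t → S s' t' → t ≠ s')
    {M : M9 F} (hM : In H (1 + M)) (hS : ∀ s t, M s t ≠ 0 → S s t) : M = 0 := by
  classical
  let Sp : M9 F → Prop := fun A => In H (1 + A) ∧ ∀ s t, A s t ≠ 0 → S s t
  have zeroMul : ∀ {A B : M9 F}, Sp A → Sp B → A * B = 0 := by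
    intro A B hA hB
    ext s u
    rw [Matrix.mul_apply]
    refine Finset.sum_eq_zero fun t _ => ?_
    by_contra h0
    obtain ⟨h1, h2⟩ := mul_ne_zero_iff.1 h0
    exact hST s t t u (hA.2 s t h1) (hB.2 t u h2) rfl
  have add : ∀ {A B : M9 F}, Sp A → Sp B → Sp (A + B) := by
    intro A B hA hB
    refine ⟨?_, fun s t h => ?_⟩
    · have := hA.1.mul hB.1
      rwa [mul_add, mul_one, add_mul, one_mul, zeroMul hA hB, add_zero, add_assoc] at this
    · rcases em (A s t = 0) with e | e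
      · exact hB.2 s t (by simpa [e] using h)
      · exact hA.2 s t e
  have smul : ∀ {A : M9 F} (c : F), Sp A → Sp (c • A) := by
    intro A c hA
    obtain ⟨n, rfl⟩ := hH.cast_surj c
    refine ⟨?_, fun s t h => hA.2 s t fun e => h (by simp [e])⟩
    have := hA.1.pow n
    rwa [one_add_pow_of_sq (zeroMul hA hA)] at this
  have conj : ∀ {A : M9 F} {f : Pt → ZMod 3}, Quadr f → Sp A → Sp (dg ω f * A * dg ω (-f)) := by
    intro A f hf hA
    refine ⟨?_, fun s t h => hA.2 s t fun e => h (by rw [dg, dg, mul_diagonal, diagonal_mul, e]; simp)⟩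
    have h1 := hH.in_dg_quadr hf
    have := (h1.mul hA.1).mul (h1.inv (det_dg_mul_neg hH.root f))
    rwa [mul_add, mul_one, add_mul, det_dg_mul_neg hH.root] at this
  have proj : ∀ {A : M9 F} {f : Pt → ZMod 3} (c : ZMod 3), Quadr f → Sp A →
      Sp (of fun s t => if f s - f t = c then 3 * A s t else 0) := by
    intro A f c hf hA
    have e : (of fun s t => if f s - f t = c then 3 * A s t else 0 : M9 F) = A + wp ω (-c) • (dg ω f * A * dg ω (-f))
        + wp ω (-c) • (dg ω f * (wp ω (-c) • (dg ω f * A * dg ω (-f))) * dg ω (-f)) := by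
      ext s t
      simp only [dg, Matrix.add_apply, Matrix.smul_apply, mul_diagonal, diagonal_mul, smul_eq_mul, of_apply,
        Pi.neg_apply]
      obtain ⟨k, hk⟩ : ∃ k, f s - f t = c + k := ⟨f s - f t - c, by abel⟩
      have key : wp ω (-c) * (wp ω (f s) * A s t * wp ω (-f t)) = wp ω k * A s t := by
        rw [show k = -c + (f s + -f t) by rw [← sub_eq_add_neg, hk]; abel, wp_add hH.root, wp_add hH.root]; ring
      rw [key, show wp ω (-c) * (wp ω (f s) * (wp ω k * A s t) * wp ω (-f t))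
        = wp ω k * (wp ω (-c) * (wp ω (f s) * A s t * wp ω (-f t))) by ring, key]
      rcases zmod3_cases k with rfl | rfl | rfl
      · rw [if_pos (by rw [hk, add_zero]), wp_zero]; ring
      · rw [if_neg (by rw [hk]; simp), wp_one]; linear_combination (-(A s t)) * hH.root.eq
      · rw [if_neg (by rw [hk]; intro h; exact absurd (add_eq_left.1 h) (by decide)), wp_two]
        linear_combination (-(A s t)) * (hH.root.eq + ω * hH.root.pow_three)
    rw [e]
    exact add (add hA (smul _ (conj hf hA))) (smul _ (conj hf (smul _ (conj hf hA))))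
  by_contra hM0
  obtain ⟨s, t, hst⟩ : ∃ s t, M s t ≠ 0 := by
    by_contra hc
    exact hM0 (Matrix.ext fun s t => by_contra fun e => hc ⟨s, t, e⟩)
  have h2 := proj (f₃ s - f₃ t) hf₃ (proj (f₂ s - f₂ t) hf₂ (proj (f₁ s - f₁ t) hf₁ (show Sp M from ⟨hM, hS⟩)))
  have hsingle : (of fun u v => if f₃ u - f₃ v = f₃ s - f₃ t then 3 * (of fun u v =>
      if f₂ u - f₂ v = f₂ s - f₂ t then 3 * (of fun u v =>
      if f₁ u - f₁ v = f₁ s - f₁ t then 3 * M u v else 0 : M9 F) u v else 0 : M9 F) u v else 0 : M9 F)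
      = vecMulVec (Pi.single s (3 * (3 * (3 * M s t)))) (Pi.single t 1) := by
    ext u v
    simp only [of_apply, vecMulVec_apply, Pi.single_apply]
    by_cases e : u = s ∧ v = t
    · obtain ⟨rfl, rfl⟩ := e; simp
    · have hz : ¬ (f₃ u - f₃ v = f₃ s - f₃ t ∧ f₂ u - f₂ v = f₂ s - f₂ t ∧ f₁ u - f₁ v = f₁ s - f₁ t ∧ M u v ≠ 0) :=
        fun ⟨a, b, c, d⟩ => e (hsep u v s t (hS u v d) (hS s t hst) c b a)
      have hR : (if u = s then 3 * (3 * (3 * M s t)) else 0) * (if v = t then (1 : F) else 0) = 0 := by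
        rcases not_and_or.1 e with d | d
        · rw [if_neg d, zero_mul]
        · rw [if_neg d, mul_zero]
      rw [hR]
      split_ifs with a b c <;> try simp only [mul_zero]
      rw [not_not.1 fun d => hz ⟨a, b, c, d⟩]; simp
  rw [hsingle] at h2
  have hd : (Pi.single t (1 : F)) ⬝ᵥ Pi.single s (3 * (3 * (3 * M s t))) = 0 := by
    rw [single_dotProduct, one_mul, Pi.single_eq_of_ne (hST s t s t (hS s t hst) (hS s t hst))]
  have := congrFun (congrFun (hN _ _ hd h2.1) s) t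
  rw [vecMulVec_apply, Pi.single_eq_same, Pi.single_eq_same, mul_one] at this
  exact hst (by simpa [hH.root.three] using this)

/-- Members `1 + M` with `M` on pairs that are separated by two characters are trivial. -/
theorem no_supported (hN : NoTr H) {S : Pt → Pt → Prop} {f₁ f₂ : Pt → ZMod 3} (hf₁ : Quadr f₁) (hf₂ : Quadr f₂)
    (hsep : ∀ s t s' t', S s t → S s' t' → f₁ s - f₁ t = f₁ s' - f₁ t' → f₂ s - f₂ t = f₂ s' - f₂ t' →
      s = s' ∧ t = t')
    (hST : ∀ s t s' t', S s t → S s' t' → t ≠ s')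
    {M : M9 F} (hM : In H (1 + M)) (hS : ∀ s t, M s t ≠ 0 → S s t) : M = 0 :=
  hH.no_supported_three hN hf₁ hf₂ hf₁ (fun s t s' t' a b c d _ => hsep s t s' t' a b c d) hST hM hS

end Amb

end CfsgLib.Classical.QutritMax
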